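import Mathlib
import Cfsg.Prelude.Def_Characters
import Cfsg.Agent.Lib.Helper7.All1
import Cfsg.Agent.Lib.Helper7.CharKer

set_option autoImplicit false
set_option linter.style.haveILetI false
set_option linter.unusedSectionVars false
set_option linter.unusedVariables false

namespace Cfsg.Agent.Lib.Helper7.CharZ

open Module Representation Cfsg
open Cfsg.Agent.Lib.Helper7.CharBasic Cfsg.Agent.Lib.Helper7.CharIrr Cfsg.Agent.Lib.Helper7.CharDecomp Cfsg.Agent.Lib.Helper7.CharComplete Cfsg.Agent.Lib.Helper7.CharOrth Cfsg.Agent.Lib.Helper7.CharInd Cfsg.Agent.Lib.Helper7.CharIntegral Cfsg.Agent.Lib.Helper7.CharBurnside Cfsg.Agent.Lib.Helper7.CharLinear Cfsg.Agent.Lib.Helper7.CharEquiv Cfsg.Agent.Lib.Helper7.CharMore Cfsg.Agent.Lib.Helper7.CharCount Cfsg.Agent.Lib.Helper7.CharMisc Cfsg.Agent.Lib.Helper7.CharMisc2 Cfsg.Agent.Lib.Helper7.CharNormal Cfsg.Agent.Lib.Helper7.CharOdd Cfsg.Agent.Lib.Helper7.CharClifford Cfsg.Agent.Lib.Helper7.CharProd Cfsg.Agent.Lib.Helper7.CharPerm Cfsg.Agent.Lib.Helper7.CharClassAlg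 Cfsg.Agent.Lib.Helper7.CharClassAlg2 Cfsg.Agent.Lib.Helper7.CharCentral Cfsg.Agent.Lib.Helper7.CharNormal2 Cfsg.Agent.Lib.Helper7.CharCliffordCorr
open Cfsg.Agent.Lib.Helper7.CharKer
open scoped ComplexConjugate

variable {G : Type*} [Group G]

variable {G : Type*} [Group G]

theorem normal_of_le_center (N : Subgroup G) (hN : N ≤ Subgroup.center G) : N.Normal := by
  constructor
  intro n hn g
  have := hN hn
  rw [Subgroup.mem_center_iff] at this
  rw [this g]
  simpa using hn

theorem linear_of_le_center [Finite G] (N : Subgroup G) (hN : N ≤ Subgroup.center G)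
    {ψ : N → ℂ} (hψ : IsIrrCharacter N ψ) : ψ 1 = 1 := by
  have h1 : ∀ a b : N, a * b = b * a := by
    intro a b
    apply Subtype.ext
    have := hN b.2
    rw [Subgroup.mem_center_iff] at this
    exact this a
  exact (comm_iff_all_linear.mp h1) ⟨ψ, hψ⟩

theorem restrict_central [Fintype G] (N : Subgroup G) [Fintype N] (hN : N ≤ Subgroup.center G)
    {χ : G → ℂ} (hχ : IsIrrCharacter G χ) {ψ : N → ℂ} (hψ : IsIrrCharacter N ψ)
    (hover : classInner (fun n : N => χ n) ψ ≠ 0) (n : N) : χ n = χ 1 * ψ n := by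
  haveI := normal_of_le_center N hN
  have h1 := restrict_eq_smul_sum_conjFun N hχ hψ hover
  have h0 : ∀ s : G, conjFun N ψ s = ψ := by
    intro s
    funext m
    rw [conjFun_apply]
    congr 1
    apply Subtype.ext
    have := hN m.2
    rw [Subgroup.mem_center_iff] at this
    simp only
    rw [this s]; group
  simp only [h0] at h1
  have h2 := congrFun h1 n
  have h3 := congrFun h1 1
  simp only [Pi.smul_apply, Finset.sum_apply, smul_eq_mul, Finset.sum_const] at h2 h3
  simp only [OneMemClass.coe_one, linear_of_le_center N hN hψ] at h3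
  rw [h2, h3]
  simp only [nsmul_eq_mul]
  ring

theorem irr_mul_central' [Fintype G] (N : Subgroup G) [Fintype N] (hN : N ≤ Subgroup.center G)
    {χ : G → ℂ} (hχ : IsIrrCharacter G χ) {ψ : N → ℂ} (hψ : IsIrrCharacter N ψ)
    (hover : classInner (fun n : N => χ n) ψ ≠ 0) (n : N) (g : G) :
    χ (n * g) = ψ n * χ g := by
  rw [irr_mul_central hχ (hN n.2), restrict_central N hN hχ hψ hover]
  have := irr_one_ne_zero hχ
  field_simp

end Cfsg.Agent.Lib.Helper7.CharZ
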