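import Mathlib
import Cfsg.Prelude.Def_Characters
import Cfsg.Agent.Lib.Helper7.All1
import Cfsg.Agent.Lib.Helper7.CharKer
import Cfsg.Agent.Lib.Helper7.CharZ

set_option autoImplicit false
set_option linter.style.haveILetI false
set_option linter.unusedSectionVars false
set_option linter.unusedVariables false
set_option linter.unusedSimpArgs false

namespace Cfsg.Agent.Lib.Helper7.Brauer10

open Module Representation Cfsg
open Cfsg.Agent.Lib.Helper7.CharBasic Cfsg.Agent.Lib.Helper7.CharIrr Cfsg.Agent.Lib.Helper7.CharDecomp Cfsg.Agent.Lib.Helper7.CharComplete Cfsg.Agent.Lib.Helper7.CharOrth Cfsg.Agent.Lib.Helper7.CharInd Cfsg.Agent.Lib.Helper7.CharIntegral Cfsg.Agent.Lib.Helper7.CharBurnside Cfsg.Agent.Lib.Helper7.CharLinear Cfsg.Agent.Lib.Helper7.CharEquiv Cfsg.Agent.Lib.Helper7.CharMore Cfsg.Agent.Lib.Helper7.CharCount Cfsg.Agent.Lib.Helper7.CharMisc Cfsg.Agent.Lib.Helper7.CharMisc2 Cfsg.Agent.Lib.Helper7.CharNormal Cfsg.Agent.Lib.Helper7.CharOdd Cfsg.Agent.Lib.Helper7.CharClifford Cfsg.Agent.Lib.Helper7.CharProd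 Cfsg.Agent.Lib.Helper7.CharPerm Cfsg.Agent.Lib.Helper7.CharClassAlg Cfsg.Agent.Lib.Helper7.CharClassAlg2 Cfsg.Agent.Lib.Helper7.CharCentral Cfsg.Agent.Lib.Helper7.CharNormal2 Cfsg.Agent.Lib.Helper7.CharCliffordCorr Cfsg.Agent.Lib.Helper7.CharKer Cfsg.Agent.Lib.Helper7.CharZ
open scoped ComplexConjugate

theorem exists_pRegular_subgroup {E : Type*} [Group E] [Finite E] {q : ℕ} (hq : q.Prime)
    (hE : IsElementary q E) (p : ℕ) (hp : p.Prime) :
    ∃ (D : Subgroup E) (b : ℕ), (∀ y : E, ¬ p ∣ orderOf y ↔ y ∈ D) ∧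
      Nat.card E = p ^ b * Nat.card D ∧
      ∀ y ∈ D, p ^ b ∣ Nat.card (Subgroup.centralizer ({y} : Set E)) := by
  obtain ⟨x, hx, hcop, k, hk⟩ := hE
  have hle : Subgroup.zpowers x ≤ Subgroup.center E := by
    rw [Subgroup.zpowers_le]; exact hx
  by_cases hqp : q = p
  · subst hqp
    haveI : (Subgroup.zpowers x).Normal := normal_of_le_center _ hle
    have hcard : Nat.card E = q ^ k * Nat.card (Subgroup.zpowers x) := by
      rw [← hk, mul_comm, Subgroup.card_mul_index]
    refine ⟨Subgroup.zpowers x, k, ?_, hcard, ?_⟩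
    · intro y
      constructor
      · intro hy
        rw [← QuotientGroup.eq_one_iff]
        have h1 : (y : E ⧸ Subgroup.zpowers x) ^ q ^ k = 1 := by
          rw [← hk]
          exact pow_card_eq_one'
        have h2 : (y : E ⧸ Subgroup.zpowers x) ^ orderOf y = 1 := by
          rw [← QuotientGroup.mk_pow, pow_orderOf_eq_one]; rfl
        have hc : Nat.Coprime (q ^ k) (orderOf y) :=
          Nat.Coprime.pow_left _ ((Nat.Prime.coprime_iff_not_dvd hq).mpr hy)
        have := pow_gcd_eq_one.mpr ⟨h1, h2⟩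
        rwa [hc, pow_one] at this
      · intro hy hd
        have h1 := hd.trans (orderOf_dvd_of_mem_zpowers hy)
        exact hq.one_lt.ne' (Nat.Coprime.eq_one_of_dvd hcop.symm h1)
    · intro y hy
      have : Subgroup.centralizer ({y} : Set E) = ⊤ := by
        rw [eq_top_iff]
        intro g _
        rw [Subgroup.mem_centralizer_singleton_iff]
        exact (Subgroup.mem_center_iff.mp (hle hy) g)
      rw [this, Subgroup.card_top, hcard]
      exact Dvd.intro _ rfl
  · obtain ⟨b, r, hr, hor⟩ := Nat.exists_eq_pow_mul_and_not_dvd (orderOf_pos x).ne' p hp.ne_one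
    have hr0 : r ≠ 0 := by rintro rfl; exact hr (dvd_zero _)
    have hou : orderOf (x ^ r) = p ^ b := by
      rw [orderOf_pow_of_dvd hr0 (hor ▸ Dvd.intro_left _ rfl), hor,
        Nat.mul_div_cancel _ (Nat.pos_of_ne_zero hr0)]
    have hleP : Subgroup.zpowers (x ^ r) ≤ Subgroup.center E := by
      rw [Subgroup.zpowers_le]; exact Subgroup.pow_mem _ hx r
    haveI : (Subgroup.zpowers (x ^ r)).Normal := normal_of_le_center _ hleP
    have hcP : Nat.card (Subgroup.zpowers (x ^ r)) = p ^ b := by rw [Nat.card_zpowers, hou]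
    have hcE : Nat.card E = p ^ b * (r * q ^ k) := by
      rw [← Subgroup.card_mul_index (Subgroup.zpowers x), hk, Nat.card_zpowers, hor, mul_assoc]
    have hidx : (Subgroup.zpowers (x ^ r)).index = r * q ^ k := by
      have h1 := Subgroup.card_mul_index (Subgroup.zpowers (x ^ r))
      rw [hcP, hcE] at h1
      exact Nat.eq_of_mul_eq_mul_left (pow_pos hp.pos _) h1
    have hcopp : Nat.Coprime p (r * q ^ k) := by
      apply Nat.Coprime.mul_right ((Nat.Prime.coprime_iff_not_dvd hp).mpr hr)
      exact Nat.Coprime.pow_right _ ((Nat.coprime_primes hp hq).mpr (Ne.symm hqp))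
    obtain ⟨D, hD⟩ := Subgroup.exists_right_complement'_of_coprime
      (N := Subgroup.zpowers (x ^ r)) (by rw [hcP, hidx]; exact Nat.Coprime.pow_left _ hcopp)
    have hcD : Nat.card D = r * q ^ k := by
      have h1 := hD.card_mul_card
      rw [hcP, hcE] at h1
      exact Nat.eq_of_mul_eq_mul_left (pow_pos hp.pos _) h1
    refine ⟨D, b, ?_, by rw [hcD, hcE], ?_⟩
    · intro y
      constructor
      · intro hy
        obtain ⟨⟨a, d⟩, had, -⟩ := (Subgroup.isComplement'_def.mp hD).existsUnique y
        simp only at had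
        have hac : Commute (a : E) (d : E) := by
          have := Subgroup.mem_center_iff.mp (hleP a.2) (d : E)
          exact this.symm
        have h1 : (a : E) ^ orderOf y * (d : E) ^ orderOf y = 1 := by
          rw [← hac.mul_pow, had, pow_orderOf_eq_one]
        have h2 : (a : E) ^ orderOf y ∈ Subgroup.zpowers (x ^ r) ⊓ D := by
          refine ⟨Subgroup.pow_mem _ a.2 _, ?_⟩
          rw [eq_inv_of_mul_eq_one_left h1]
          exact Subgroup.inv_mem _ (Subgroup.pow_mem _ d.2 _)
        rw [hD.disjoint.eq_bot, Subgroup.mem_bot] at h2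
        have h3 : (a : E) ^ p ^ b = 1 := by
          have : a ^ p ^ b = 1 := by rw [← hcP]; exact pow_card_eq_one'
          have := congrArg Subtype.val this
          simpa using this
        have hc : Nat.Coprime (p ^ b) (orderOf y) :=
          Nat.Coprime.pow_left _ ((Nat.Prime.coprime_iff_not_dvd hp).mpr hy)
        have h4 := pow_gcd_eq_one.mpr ⟨h3, h2⟩
        rw [hc, pow_one] at h4
        rw [← had, h4, one_mul]
        exact d.2
      · intro hy hd
        have h1 := hd.trans (Subgroup.orderOf_dvd_natCard D hy)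
        rw [hcD] at h1
        exact hp.one_lt.ne' (Nat.Coprime.eq_one_of_dvd hcopp h1)
    · intro y hy
      rw [← hcP]
      apply Subgroup.card_dvd_of_le
      intro a ha
      rw [Subgroup.mem_centralizer_singleton_iff]
      exact (Subgroup.mem_center_iff.mp (hleP ha) y).symm

end Cfsg.Agent.Lib.Helper7.Brauer10
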