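import Mathlib
import Cfsg.Prelude.Def_Characters
import Cfsg.Agent.Lib.Helper7.All1
import Cfsg.Agent.Lib.Helper7.CharKer
import Cfsg.Agent.Lib.Helper7.CharRes
import Cfsg.Agent.Lib.Helper7.CharGen

set_option autoImplicit false
set_option linter.style.haveILetI false
set_option linter.unusedSectionVars false
set_option linter.unusedVariables false
set_option linter.unusedSimpArgs false

namespace Cfsg.Agent.Lib.Helper7.CharGallagher

open Module Representation Cfsg
open Cfsg.Agent.Lib.Helper7.CharBasic Cfsg.Agent.Lib.Helper7.CharIrr Cfsg.Agent.Lib.Helper7.CharDecomp Cfsg.Agent.Lib.Helper7.CharComplete Cfsg.Agent.Lib.Helper7.CharOrth Cfsg.Agent.Lib.Helper7.CharInd Cfsg.Agent.Lib.Helper7.CharIntegral Cfsg.Agent.Lib.Helper7.CharBurnside Cfsg.Agent.Lib.Helper7.CharLinear Cfsg.Agent.Lib.Helper7.CharEquiv Cfsg.Agent.Lib.Helper7.CharMore Cfsg.Agent.Lib.Helper7.CharCount Cfsg.Agent.Lib.Helper7.CharMisc Cfsg.Agent.Lib.Helper7.CharMisc2 Cfsg.Agent.Lib.Helper7.CharNormal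 Cfsg.Agent.Lib.Helper7.CharOdd Cfsg.Agent.Lib.Helper7.CharClifford Cfsg.Agent.Lib.Helper7.CharProd Cfsg.Agent.Lib.Helper7.CharPerm Cfsg.Agent.Lib.Helper7.CharClassAlg Cfsg.Agent.Lib.Helper7.CharClassAlg2 Cfsg.Agent.Lib.Helper7.CharCentral Cfsg.Agent.Lib.Helper7.CharNormal2 Cfsg.Agent.Lib.Helper7.CharCliffordCorr Cfsg.Agent.Lib.Helper7.CharKer Cfsg.Agent.Lib.Helper7.CharRes Cfsg.Agent.Lib.Helper7.CharGen
open scoped ComplexConjugate

variable {G : Type*} [Group G]

theorem indFun_mul_restrict [Fintype G] (H : Subgroup G) (θ : H → ℂ) {χ : G → ℂ}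
    (hχ : IsClassFunction G χ) :
    indFun H (θ * fun h : H => χ h) = indFun H θ * χ := by
  funext g
  simp only [indFun, Pi.mul_apply]
  rw [mul_assoc, Finset.sum_mul]
  congr 1
  apply Finset.sum_congr rfl
  intro x _
  have h1 : χ (x⁻¹ * g * x) = χ g := by
    have := hχ g x⁻¹
    rwa [inv_inv] at this
  by_cases h : x⁻¹ * g * x ∈ H
  · rw [extendByZero_of_mem H _ h, extendByZero_of_mem H _ h, Pi.mul_apply]
    simp only [h1]
  · rw [extendByZero_of_not_mem H _ h, extendByZero_of_not_mem H _ h, zero_mul]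

theorem norm_indFun_of_invariant [Fintype G] (N : Subgroup G) [hN : N.Normal] {θ : N → ℂ}
    (hθ : IsIrrCharacter N θ) (hinv : ∀ g : G, conjFun N θ g = θ) :
    classInner (indFun N θ) (indFun N θ) = (N.index : ℂ) := by
  classical
  haveI := Fintype.ofFinite N
  have h3 := card_mul_norm_indFun N θ hθ
  have h4 : Nat.card {g : G // ∀ h : N, θ ⟨g * h * g⁻¹, hN.conj_mem h h.2 g⟩ = θ h} =
      Nat.card G := by
    apply Nat.card_congr
    exact Equiv.subtypeUnivEquiv (fun g h => congrFun (hinv g) h)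
  rw [h4, ← Subgroup.card_mul_index N, Nat.cast_mul] at h3
  exact mul_left_cancel₀ card_ne_zero h3

theorem norm_pos_of_isCharacter [Fintype G] {χ : G → ℂ} (hχ : IsCharacter G χ) (h0 : χ ≠ 0) :
    ∃ n : ℕ, 0 < n ∧ classInner χ χ = n := by
  obtain ⟨n, hn⟩ := classInner_isCharacter_nat hχ hχ
  refine ⟨n, ?_, hn⟩
  rcases Nat.eq_zero_or_pos n with h | h
  · rw [h, Nat.cast_zero] at hn
    exact absurd (eq_zero_of_classInner_self hn) h0
  · exact h

/-- Isaacs 6.16. -/
theorem gallagher_prod [Fintype G] (N : Subgroup G) [hN : N.Normal] (φ ϑ : N → ℂ)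
    (hφ : IsIrrCharacter N φ) (hφinv : ∀ g : G, conjFun N φ g = φ)
    (hϑinv : ∀ g : G, conjFun N ϑ g = ϑ) (hprod : IsIrrCharacter N (φ * ϑ)) (χ : G → ℂ)
    (hχ : IsIrrCharacter G χ) (hext : ∀ n : N, χ n = ϑ n) :
    (∀ β : G → ℂ, IsIrrCharacter G β → classInner (indFun N φ) β ≠ 0 →
      IsIrrCharacter G (β * χ) ∧ classInner (indFun N (φ * ϑ)) (β * χ) ≠ 0) ∧
    (∀ β γ : G → ℂ, IsIrrCharacter G β → classInner (indFun N φ) β ≠ 0 →
      IsIrrCharacter G γ → classInner (indFun N φ) γ ≠ 0 → β * χ = γ * χ → β = γ) ∧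
    (∀ ψ : G → ℂ, IsIrrCharacter G ψ → classInner (indFun N (φ * ϑ)) ψ ≠ 0 →
      ∃ β : G → ℂ, IsIrrCharacter G β ∧ classInner (indFun N φ) β ≠ 0 ∧ β * χ = ψ) := by
  classical
  haveI := Fintype.ofFinite (IrrCharacter G)
  haveI := Fintype.ofFinite N
  have hcχ := IsIrrCharacter.isCharacter hχ
  obtain ⟨a, ha, hsum⟩ := exists_mult (isCharacter_indFun N φ (IsIrrCharacter.isCharacter hφ))
  have hmulchar : ∀ β : IrrCharacter G, IsCharacter G ((β : G → ℂ) * χ) :=
    fun β => isCharacter_mul (IsIrrCharacter.isCharacter β.2) hcχ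
  have hM : ∀ β γ : IrrCharacter G, ∃ m : ℕ,
      classInner ((β : G → ℂ) * χ) ((γ : G → ℂ) * χ) = m :=
    fun β γ => classInner_isCharacter_nat (hmulchar β) (hmulchar γ)
  choose M hM using hM
  have hMpos : ∀ β : IrrCharacter G, 1 ≤ M β β := by
    intro β
    have hne : (β : G → ℂ) * χ ≠ 0 := by
      intro h
      have := congrFun h 1
      simp only [Pi.mul_apply, Pi.zero_apply] at this
      rcases mul_eq_zero.mp this with h1 | h1
      · exact irr_one_ne_zero β.2 h1
      · exact irr_one_ne_zero hχ h1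
    obtain ⟨n, hn0, hn⟩ := norm_pos_of_isCharacter (hmulchar β) hne
    rw [hM] at hn
    have : M β β = n := by exact_mod_cast hn
    omega
  have hind : indFun N (φ * ϑ) = ∑ β : IrrCharacter G, (a β : ℂ) • ((β : G → ℂ) * χ) := by
    have h1 : φ * ϑ = φ * fun n : N => χ n := by
      funext n; simp only [Pi.mul_apply, hext]
    rw [h1, indFun_mul_restrict N φ (IsIrrCharacter.isClassFunction hχ), hsum, Finset.sum_mul]
    apply Finset.sum_congr rfl
    intro β _
    rw [smul_mul_assoc]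
  have hprodinv : ∀ g : G, conjFun N (φ * ϑ) g = φ * ϑ := by
    intro g
    funext n
    have h1 := congrFun (hφinv g) n
    have h2 := congrFun (hϑinv g) n
    rw [conjFun_apply] at h1 h2 ⊢
    simp only [Pi.mul_apply, h1, h2]
  have hn1 : ∑ β : IrrCharacter G, a β ^ 2 = N.index := by
    have h1 := norm_indFun_of_invariant N hφ hφinv
    rw [classInner_eq_sum (indFun_isClassFunction N φ) (indFun_isClassFunction N φ)] at h1
    simp only [ha, map_natCast] at h1
    have h2 : ((∑ β : IrrCharacter G, a β ^ 2 : ℕ) : ℂ) = (N.index : ℂ) := by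
      rw [← h1]; push_cast
      apply Finset.sum_congr rfl; intro β _; ring
    exact_mod_cast h2
  have hn2 : ∑ β : IrrCharacter G, ∑ γ : IrrCharacter G, a β * a γ * M β γ = N.index := by
    have h1 := norm_indFun_of_invariant N hprod hprodinv
    rw [hind, classInner_sum_left] at h1
    simp only [classInner_sum_right, classInner_smul_left, classInner_smul_right, hM,
      map_natCast] at h1
    have h2 : ((∑ β : IrrCharacter G, ∑ γ : IrrCharacter G, a β * a γ * M β γ : ℕ) : ℂ) =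
        (N.index : ℂ) := by
      rw [← h1]; push_cast
      apply Finset.sum_congr rfl; intro β _
      apply Finset.sum_congr rfl; intro γ _; ring
    exact_mod_cast h2
  have hD : ∑ β : IrrCharacter G, ∑ γ : IrrCharacter G, (if β = γ then a β ^ 2 else 0) =
      N.index := by
    rw [← hn1]
    apply Finset.sum_congr rfl
    intro β _
    simp
  have hle : ∀ β γ : IrrCharacter G, (if β = γ then a β ^ 2 else 0) ≤ a β * a γ * M β γ := by
    intro β γ
    split_ifs with h
    · subst h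
      calc a β ^ 2 = a β * a β * 1 := by ring
        _ ≤ a β * a β * M β β := Nat.mul_le_mul_left _ (hMpos β)
    · exact Nat.zero_le _
  have heq : ∀ β γ : IrrCharacter G, (if β = γ then a β ^ 2 else 0) = a β * a γ * M β γ := by
    have h1 := (Finset.sum_eq_sum_iff_of_le (s := Finset.univ)
      (f := fun β : IrrCharacter G => ∑ γ : IrrCharacter G, (if β = γ then a β ^ 2 else 0))
      (g := fun β : IrrCharacter G => ∑ γ : IrrCharacter G, a β * a γ * M β γ)
      (fun β _ => Finset.sum_le_sum (fun γ _ => hle β γ))).mp (by rw [hD, hn2])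
    intro β γ
    exact (Finset.sum_eq_sum_iff_of_le (fun γ _ => hle β γ)).mp (h1 β (Finset.mem_univ _)) γ
      (Finset.mem_univ _)
  have ha0 : ∀ β : IrrCharacter G, classInner (indFun N φ) (β : G → ℂ) ≠ 0 → a β ≠ 0 := by
    intro β h h0
    rw [ha, h0] at h
    exact h (by simp)
  have hMone : ∀ β : IrrCharacter G, a β ≠ 0 → M β β = 1 := by
    intro β h
    have h1 := heq β β
    rw [if_pos rfl] at h1
    have h2 : a β * a β * 1 = a β * a β * M β β := by rw [← h1]; ring
    exact (Nat.eq_of_mul_eq_mul_left (Nat.pos_of_ne_zero (mul_ne_zero h h)) h2).symm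
  have hMzero : ∀ β γ : IrrCharacter G, a β ≠ 0 → a γ ≠ 0 → β ≠ γ → M β γ = 0 := by
    intro β γ h1 h2 h3
    have h4 := heq β γ
    rw [if_neg h3] at h4
    rcases mul_eq_zero.mp h4.symm with h5 | h5
    · exact absurd h5 (mul_ne_zero h1 h2)
    · exact h5
  have hirr : ∀ β : IrrCharacter G, a β ≠ 0 → IsIrrCharacter G ((β : G → ℂ) * χ) := by
    intro β h
    apply isIrrCharacter_of_norm_one (hmulchar β)
    rw [hM, hMone β h]; simp
  have hinner : ∀ ψ : G → ℂ, classInner (indFun N (φ * ϑ)) ψ =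
      ∑ β : IrrCharacter G, (a β : ℂ) * classInner ((β : G → ℂ) * χ) ψ := by
    intro ψ
    rw [hind, classInner_sum_left]
    simp only [classInner_smul_left]
  refine ⟨?_, ?_, ?_⟩
  · intro β hβ hc
    have h1 := ha0 ⟨β, hβ⟩ hc
    refine ⟨hirr ⟨β, hβ⟩ h1, ?_⟩
    rw [hinner, Finset.sum_eq_single (⟨β, hβ⟩ : IrrCharacter G)]
    · have := hM ⟨β, hβ⟩ ⟨β, hβ⟩
      simp only at this
      rw [this, hMone ⟨β, hβ⟩ h1]
      simpa using h1
    · intro γ _ hγ
      by_cases h2 : a γ = 0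
      · rw [h2]; simp
      · have := hM γ ⟨β, hβ⟩
        simp only at this
        rw [this, hMzero γ ⟨β, hβ⟩ h2 h1 hγ]; simp
    · intro h; exact absurd (Finset.mem_univ _) h
  · intro β γ hβ hcβ hγ hcγ h
    by_contra hne
    have h1 := ha0 ⟨β, hβ⟩ hcβ
    have h2 := ha0 ⟨γ, hγ⟩ hcγ
    have h3 := hMzero ⟨β, hβ⟩ ⟨γ, hγ⟩ h1 h2 (fun h => hne (congrArg Subtype.val h))
    have h4 := hM ⟨β, hβ⟩ ⟨γ, hγ⟩
    have h5 := hM ⟨β, hβ⟩ ⟨β, hβ⟩
    simp only at h4 h5
    rw [← h, h5, hMone ⟨β, hβ⟩ h1, h3] at h4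
    norm_num at h4
  · intro ψ hψ hc
    rw [hinner] at hc
    obtain ⟨β, _, hβ⟩ := Finset.exists_ne_zero_of_sum_ne_zero hc
    have h1 : a β ≠ 0 := by
      intro h; rw [h] at hβ; simp at hβ
    refine ⟨β, β.2, by rw [ha]; exact_mod_cast h1, ?_⟩
    by_contra hne
    rw [classInner_irr (hirr β h1) hψ, if_neg hne, mul_zero] at hβ
    exact hβ rfl

end Cfsg.Agent.Lib.Helper7.CharGallagher
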