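import Mathlib
import Cfsg.Prelude.Def_Characters
import Cfsg.Agent.Lib.Helper7.All1
import Cfsg.Agent.Lib.Helper7.CharKer
import Cfsg.Agent.Lib.Helper7.CharRes
import Cfsg.Agent.Lib.Helper7.CharGen
import Cfsg.Agent.Lib.Helper7.CharGallagher

set_option autoImplicit false
set_option linter.style.haveILetI false
set_option linter.unusedSectionVars false
set_option linter.unusedVariables false
set_option linter.unusedSimpArgs false

namespace Cfsg.Agent.Lib.Helper7.Brauer2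

open Module Representation Cfsg
open Cfsg.Agent.Lib.Helper7.CharBasic Cfsg.Agent.Lib.Helper7.CharIrr Cfsg.Agent.Lib.Helper7.CharDecomp Cfsg.Agent.Lib.Helper7.CharComplete Cfsg.Agent.Lib.Helper7.CharOrth Cfsg.Agent.Lib.Helper7.CharInd Cfsg.Agent.Lib.Helper7.CharIntegral Cfsg.Agent.Lib.Helper7.CharBurnside Cfsg.Agent.Lib.Helper7.CharLinear Cfsg.Agent.Lib.Helper7.CharEquiv Cfsg.Agent.Lib.Helper7.CharMore Cfsg.Agent.Lib.Helper7.CharCount Cfsg.Agent.Lib.Helper7.CharMisc Cfsg.Agent.Lib.Helper7.CharMisc2 Cfsg.Agent.Lib.Helper7.CharNormal Cfsg.Agent.Lib.Helper7.CharOdd Cfsg.Agent.Lib.Helper7.CharClifford Cfsg.Agent.Lib.Helper7.CharProd Cfsg.Agent.Lib.Helper7.CharPerm Cfsg.Agent.Lib.Helper7.CharClassAlg Cfsg.Agent.Lib.Helper7.CharClassAlg2 Cfsg.Agent.Lib.Helper7.CharCentral Cfsg.Agent.Lib.Helper7.CharNormal2 Cfsg.Agent.Lib.Helper7.CharCliffordCorr Cfsg.Agent.Lib.Helper7.CharKer Cfsg.Agent.Lib.Helper7.CharRes Cfsg.Agent.Lib.Helper7.CharGen Cfsg.Agent.Lib.Helper7.CharGallagher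
open scoped ComplexConjugate

variable {G : Type*} [Group G]

theorem indFun_congr [Fintype G] {S S' : Subgroup G} (h : S = S') (θ : S → ℂ) (θ' : S' → ℂ)
    (hθ : ∀ (x : G) (hx : x ∈ S) (hx' : x ∈ S'), θ ⟨x, hx⟩ = θ' ⟨x, hx'⟩) :
    indFun S θ = indFun S' θ' := by
  subst h
  congr 1
  funext x
  exact hθ x x.2 x.2

/-- transport of a function on `S ≤ K` to the image of `S` in `G`. -/
noncomputable def mapFun (K : Subgroup G) (S : Subgroup K) (θ : S → ℂ) : S.map K.subtype → ℂ :=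
  fun x => θ ((S.equivMapOfInjective K.subtype K.subtype_injective).symm x)

theorem mapFun_apply (K : Subgroup G) (S : Subgroup K) (θ : S → ℂ) (x : K) (hx : x ∈ S)
    (hx' : (x : G) ∈ S.map K.subtype) : mapFun K S θ ⟨(x : G), hx'⟩ = θ ⟨x, hx⟩ := by
  unfold mapFun
  congr 1
  rw [MulEquiv.symm_apply_eq]
  apply Subtype.ext
  rfl

theorem isCharacter_mapFun (K : Subgroup G) (S : Subgroup K) {θ : S → ℂ} (hθ : IsCharacter S θ) :
    IsCharacter (S.map K.subtype) (mapFun K S θ) :=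
  isCharacter_comp (S.equivMapOfInjective K.subtype K.subtype_injective).symm.toMonoidHom hθ

/-- Transitivity of induction, nested form. -/
theorem indFun_map [Fintype G] (K : Subgroup G) [Fintype K] (S : Subgroup K) (θ : S → ℂ) :
    indFun K (indFun S θ) = indFun (S.map K.subtype) (mapFun K S θ) := by
  have hle : S.map K.subtype ≤ K := Subgroup.map_subtype_le S
  rw [← indFun_trans (S.map K.subtype) K hle (mapFun K S θ)]
  congr 1
  have h : S = (S.map K.subtype).subgroupOf K :=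
    (Subgroup.comap_map_eq_self_of_injective K.subtype_injective S).symm
  apply indFun_congr h
  intro x hx hx'
  exact (mapFun_apply K S θ x hx _).symm

theorem indFun_top [Fintype G] {χ : G → ℂ} (hχ : IsClassFunction G χ) :
    indFun (⊤ : Subgroup G) (fun h => χ h) = χ := by
  funext g
  unfold indFun
  have h1 : ∀ x : G, extendByZero (⊤ : Subgroup G) (fun h => χ h) (x⁻¹ * g * x) = χ g := by
    intro x
    rw [extendByZero_of_mem _ _ (Subgroup.mem_top _)]
    have := hχ g x⁻¹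
    simpa using this
  simp only [h1]
  rw [Finset.sum_const, Finset.card_univ, nsmul_eq_mul, Subgroup.card_top,
    ← Nat.card_eq_fintype_card]
  have := card_ne_zero (G := G)
  field_simp

/-- The `ℤ`-span of the characters induced from the subgroups satisfying `𝓗`. -/
def IndSpan (G : Type*) [Group G] [Fintype G] (𝓗 : Subgroup G → Prop) : AddSubgroup (G → ℂ) :=
  AddSubgroup.closure {f | ∃ (H : Subgroup G) (φ : H → ℂ), 𝓗 H ∧ IsCharacter H φ ∧ f = indFun H φ}

theorem IndSpan.mem_of [Fintype G] {𝓗 : Subgroup G → Prop} {H : Subgroup G} (hH : 𝓗 H)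
    {φ : H → ℂ} (hφ : IsCharacter H φ) : indFun H φ ∈ IndSpan G 𝓗 :=
  AddSubgroup.subset_closure ⟨H, φ, hH, hφ, rfl⟩

theorem IndSpan.mono [Fintype G] {𝓗 𝓗' : Subgroup G → Prop} (h : ∀ H, 𝓗 H → 𝓗' H) :
    IndSpan G 𝓗 ≤ IndSpan G 𝓗' := by
  apply AddSubgroup.closure_mono
  rintro f ⟨H, φ, hH, hφ, rfl⟩
  exact ⟨H, φ, h H hH, hφ, rfl⟩

theorem IndSpan.isGen [Fintype G] {𝓗 : Subgroup G → Prop} {f : G → ℂ} (hf : f ∈ IndSpan G 𝓗) :
    IsGeneralizedCharacter G f := by
  induction hf using AddSubgroup.closure_induction with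
  | mem f hf =>
    obtain ⟨H, φ, -, hφ, rfl⟩ := hf
    exact isGen_of_isCharacter (isCharacter_indFun H φ hφ)
  | zero => exact isGen_zero
  | add f g _ _ h1 h2 => exact isGen_add h1 h2
  | neg f _ h1 => exact isGen_neg h1

theorem IndSpan.mul_char [Fintype G] {𝓗 : Subgroup G → Prop} {f : G → ℂ}
    (hf : f ∈ IndSpan G 𝓗) {χ : G → ℂ} (hχ : IsCharacter G χ) : f * χ ∈ IndSpan G 𝓗 := by
  induction hf using AddSubgroup.closure_induction with
  | mem f hf =>
    obtain ⟨H, φ, hH, hφ, rfl⟩ := hf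
    rw [← indFun_mul_restrict H φ (IsCharacter.isClassFunction hχ)]
    exact IndSpan.mem_of hH (isCharacter_mul hφ (isCharacter_restrict H hχ))
  | zero => rw [zero_mul]; exact AddSubgroup.zero_mem _
  | add f g _ _ h1 h2 => rw [add_mul]; exact AddSubgroup.add_mem _ h1 h2
  | neg f _ h1 => rw [neg_mul]; exact AddSubgroup.neg_mem _ h1

theorem IndSpan.mul_gen [Fintype G] {𝓗 : Subgroup G → Prop} {f : G → ℂ}
    (hf : f ∈ IndSpan G 𝓗) {χ : G → ℂ} (hχ : IsGeneralizedCharacter G χ) :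
    f * χ ∈ IndSpan G 𝓗 := by
  obtain ⟨a, b, ha, hb, rfl⟩ := hχ
  rw [mul_sub]
  exact AddSubgroup.sub_mem _ (IndSpan.mul_char hf ha) (IndSpan.mul_char hf hb)

theorem IndSpan.mul_mem [Fintype G] {𝓗 : Subgroup G → Prop} {f g : G → ℂ}
    (hf : f ∈ IndSpan G 𝓗) (hg : g ∈ IndSpan G 𝓗) : f * g ∈ IndSpan G 𝓗 :=
  IndSpan.mul_gen hf (IndSpan.isGen hg)

theorem IndSpan.zsmul_mem [Fintype G] {𝓗 : Subgroup G → Prop} {f : G → ℂ}
    (hf : f ∈ IndSpan G 𝓗) (m : ℤ) : (m : ℂ) • f ∈ IndSpan G 𝓗 := by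
  have : (m : ℂ) • f = m • f := by
    funext g
    simp
  rw [this]
  exact AddSubgroup.zsmul_mem _ hf m

theorem indFun_zero [Fintype G] (H : Subgroup G) : indFun H (0 : H → ℂ) = 0 := by
  have := indFun_smul H 0 (0 : H → ℂ)
  simpa using this

/-- Induction maps the span for a subgroup `K` into the span for `G`. -/
theorem IndSpan.ind [Fintype G] (K : Subgroup G) [Fintype K] {𝓗' : Subgroup K → Prop}
    {𝓗 : Subgroup G → Prop} (h : ∀ S, 𝓗' S → 𝓗 (S.map K.subtype)) {f : K → ℂ}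
    (hf : f ∈ IndSpan K 𝓗') : indFun K f ∈ IndSpan G 𝓗 := by
  induction hf using AddSubgroup.closure_induction with
  | mem f hf =>
    obtain ⟨S, φ, hS, hφ, rfl⟩ := hf
    rw [indFun_map]
    exact IndSpan.mem_of (h S hS) (isCharacter_mapFun K S hφ)
  | zero => rw [indFun_zero]; exact AddSubgroup.zero_mem _
  | add f g _ _ h1 h2 => rw [indFun_add]; exact AddSubgroup.add_mem _ h1 h2
  | neg f _ h1 => rw [indFun_neg]; exact AddSubgroup.neg_mem _ h1

/-- If `1 ∈ IndSpan` then every generalized character is in the span. -/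
theorem IndSpan.of_one_mem [Fintype G] {𝓗 : Subgroup G → Prop}
    (h1 : (fun _ : G => (1 : ℂ)) ∈ IndSpan G 𝓗) {χ : G → ℂ} (hχ : IsGeneralizedCharacter G χ) :
    χ ∈ IndSpan G 𝓗 := by
  have := IndSpan.mul_gen h1 hχ
  have h2 : (fun _ : G => (1 : ℂ)) * χ = χ := by funext g; simp
  rwa [h2] at this

/-- Banaschewski's lemma, local form. -/
theorem banaschewski {S : Type*} [Fintype S] (R : AddSubgroup (S → ℂ))
    (hmul : ∀ f ∈ R, ∀ g ∈ R, f * g ∈ R) (p : ℕ) (hp : p.Prime)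
    (h : ∀ x : S, ∃ f ∈ R, ∃ m : ℤ, f x = m ∧ ¬ (p : ℤ) ∣ m) :
    ∃ m : ℤ, ¬ (p : ℤ) ∣ m ∧ (fun _ : S => (m : ℂ)) ∈ R := by
  classical
  choose f hf m hfm hm using h
  have hz : ∀ (c : ℤ) (g : S → ℂ), g ∈ R → (fun x => (c : ℂ) * g x) ∈ R := by
    intro c g hg
    have : (fun x => (c : ℂ) * g x) = c • g := by
      funext x; simp
    rw [this]
    exact AddSubgroup.zsmul_mem _ hg c
  have key : ∀ T : Finset S, ∃ r ∈ R, ∃ c : ℤ, ¬ (p : ℤ) ∣ c ∧
      (fun y => ∏ x ∈ T, (f x y - (m x : ℂ))) = r + fun _ => (c : ℂ) := by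
    intro T
    induction T using Finset.induction_on with
    | empty => exact ⟨0, AddSubgroup.zero_mem _, 1, by
        intro h
        exact hp.one_lt.ne' (by exact_mod_cast Int.eq_one_of_dvd_one (by positivity) h), by
        funext y; simp⟩
    | insert a T ha ih =>
      obtain ⟨r, hr, c, hc, hrc⟩ := ih
      refine ⟨f a * r + (fun x => (c : ℂ) * f a x) + (fun x => ((-m a : ℤ) : ℂ) * r x), ?_,
        -(m a) * c, ?_, ?_⟩
      · exact AddSubgroup.add_mem _ (AddSubgroup.add_mem _ (hmul _ (hf a) _ hr) (hz c _ (hf a)))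
          (hz _ _ hr)
      · intro hd
        rcases (Nat.prime_iff_prime_int.mp hp).dvd_or_dvd hd with h1 | h1
        · exact hm a ((dvd_neg).mp h1)
        · exact hc h1
      · funext y
        rw [Finset.prod_insert ha]
        have := congrFun hrc y
        simp only [Pi.add_apply] at this
        rw [this]
        simp only [Pi.add_apply, Pi.mul_apply]
        push_cast
        ring
  obtain ⟨r, hr, c, hc, hrc⟩ := key Finset.univ
  refine ⟨c, hc, ?_⟩
  have h0 : (fun y => ∏ x ∈ Finset.univ, (f x y - (m x : ℂ))) = 0 := by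
    funext y
    apply Finset.prod_eq_zero (Finset.mem_univ y)
    rw [hfm, sub_self]
  rw [h0] at hrc
  have : (fun _ : S => (c : ℂ)) = -r := by
    rw [eq_neg_iff_add_eq_zero, add_comm]
    exact hrc.symm
  rw [this]
  exact AddSubgroup.neg_mem _ hr

end Cfsg.Agent.Lib.Helper7.Brauer2
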