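import Mathlib
import Cfsg.Prelude.Def_Characters
import Cfsg.Agent.Lib.Helper7.All1
import Cfsg.Agent.Lib.Helper7.CharKer
import Cfsg.Agent.Lib.Helper7.CharRes
import Cfsg.Agent.Lib.Helper7.CharZ

set_option autoImplicit false
set_option linter.style.haveILetI false
set_option linter.unusedSectionVars false
set_option linter.unusedVariables false
set_option linter.unusedSimpArgs false

namespace Cfsg.Agent.Lib.Helper7.CharCenter

open Module Representation Cfsg
open Cfsg.Agent.Lib.Helper7.CharBasic Cfsg.Agent.Lib.Helper7.CharIrr Cfsg.Agent.Lib.Helper7.CharDecomp Cfsg.Agent.Lib.Helper7.CharComplete Cfsg.Agent.Lib.Helper7.CharOrth Cfsg.Agent.Lib.Helper7.CharInd Cfsg.Agent.Lib.Helper7.CharIntegral Cfsg.Agent.Lib.Helper7.CharBurnside Cfsg.Agent.Lib.Helper7.CharLinear Cfsg.Agent.Lib.Helper7.CharEquiv Cfsg.Agent.Lib.Helper7.CharMore Cfsg.Agent.Lib.Helper7.CharCount Cfsg.Agent.Lib.Helper7.CharMisc Cfsg.Agent.Lib.Helper7.CharMisc2 Cfsg.Agent.Lib.Helper7.CharNormal Cfsg.Agent.Lib.Helper7.CharOdd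 Cfsg.Agent.Lib.Helper7.CharClifford Cfsg.Agent.Lib.Helper7.CharProd Cfsg.Agent.Lib.Helper7.CharPerm Cfsg.Agent.Lib.Helper7.CharClassAlg Cfsg.Agent.Lib.Helper7.CharClassAlg2 Cfsg.Agent.Lib.Helper7.CharCentral Cfsg.Agent.Lib.Helper7.CharNormal2 Cfsg.Agent.Lib.Helper7.CharCliffordCorr Cfsg.Agent.Lib.Helper7.CharKer Cfsg.Agent.Lib.Helper7.CharRes Cfsg.Agent.Lib.Helper7.CharZ
open scoped ComplexConjugate

open scoped IsMulCommutative

variable {G : Type*} [Group G]

/-- `(Fin (m+1) → G) ≃* G × (Fin m → G)`. -/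
def piSuccEquiv (G : Type*) [Group G] (m : ℕ) : (Fin (m + 1) → G) ≃* G × (Fin m → G) where
  toFun f := (f 0, fun i => f i.succ)
  invFun x := Fin.cons x.1 x.2
  left_inv f := by
    funext i
    refine Fin.cases ?_ (fun j => ?_) i <;> simp
  right_inv x := by
    apply Prod.ext
    · simp
    · funext i; simp
  map_mul' f g := rfl

theorem isIrr_pi [Finite G] {χ : G → ℂ} (hχ : IsIrrCharacter G χ) (m : ℕ) :
    IsIrrCharacter (Fin m → G) (fun f => ∏ i, χ (f i)) := by
  induction m with
  | zero =>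
    simp only [Finset.univ_eq_empty, Finset.prod_empty]
    exact isIrrCharacter_one
  | succ k ih =>
    have h1 := isIrrCharacter_comp_equiv (piSuccEquiv G k) (isIrrCharacter_prod hχ ih)
    have h2 : (fun f : Fin (k + 1) → G => ∏ i, χ (f i)) =
        fun f => χ ((piSuccEquiv G k f).1) * ∏ i, χ ((piSuccEquiv G k f).2 i) := by
      funext f
      rw [Fin.prod_univ_succ]
      rfl
    rw [h2]; exact h1

/-- the central homomorphism `Z^k → G^(k+1)` whose image lies in the kernel of `χ^{⊗(k+1)}`. -/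
def centralHom (G : Type*) [Group G] (k : ℕ) :
    (Fin k → Subgroup.center G) →* (Fin (k + 1) → G) where
  toFun z := Fin.cons (((∏ i, z i)⁻¹ : Subgroup.center G) : G) (fun i => (z i : G))
  map_one' := by
    funext i
    refine Fin.cases ?_ (fun j => ?_) i <;> simp
  map_mul' z w := by
    funext i
    refine Fin.cases ?_ (fun j => ?_) i
    · simp only [Pi.mul_apply, Fin.cons_zero, Finset.prod_mul_distrib, mul_inv]
      rfl
    · simp

theorem centralHom_injective (k : ℕ) : Function.Injective (centralHom G k) := by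
  intro z w h
  funext i
  have := congrFun h i.succ
  simp only [centralHom, MonoidHom.coe_mk, OneHom.coe_mk, Fin.cons_succ] at this
  exact Subtype.ext this

theorem centralHom_range_le_center (k : ℕ) :
    (centralHom G k).range ≤ Subgroup.center (Fin (k + 1) → G) := by
  rintro _ ⟨z, rfl⟩
  rw [Subgroup.mem_center_iff]
  intro f
  funext i
  refine Fin.cases ?_ (fun j => ?_) i
  · simp only [Pi.mul_apply, centralHom, MonoidHom.coe_mk, OneHom.coe_mk, Fin.cons_zero]
    exact Subgroup.mem_center_iff.mp ((∏ i, z i)⁻¹ : Subgroup.center G).2 (f 0)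
  · simp only [Pi.mul_apply, centralHom, MonoidHom.coe_mk, OneHom.coe_mk, Fin.cons_succ]
    exact Subgroup.mem_center_iff.mp (z j).2 (f j.succ)

theorem prod_central [Fintype G] {χ : G → ℂ} (hχ : IsIrrCharacter G χ) {ι : Type*}
    (s : Finset ι) (z : ι → Subgroup.center G) :
    ∏ i ∈ s, (χ (z i) / χ 1) = χ ((∏ i ∈ s, z i : Subgroup.center G) : G) / χ 1 := by
  classical
  have h0 := irr_one_ne_zero hχ
  induction s using Finset.induction_on with
  | empty => simp [h0]
  | insert a s ha ih =>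
    rw [Finset.prod_insert ha, Finset.prod_insert ha, ih, Subgroup.coe_mul,
      irr_mul_central hχ (z a).2]
    field_simp

theorem pow_dvd_aux [Finite G] {χ : G → ℂ} (hχ : IsIrrCharacter G χ) {d : ℕ} (hd : χ 1 = d)
    (k : ℕ) : d ^ (k + 1) * Nat.card (Subgroup.center G) ^ k ∣ Nat.card G ^ (k + 1) := by
  classical
  haveI := Fintype.ofFinite G
  have h0 := irr_one_ne_zero hχ
  set H := (centralHom G k).range with hH
  haveI hHn : H.Normal := normal_of_le_center H (centralHom_range_le_center k)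
  have hΨ := isIrr_pi hχ (k + 1)
  have hker : ∀ n ∈ H, (fun f : Fin (k + 1) → G => ∏ i, χ (f i)) n =
      (fun f : Fin (k + 1) → G => ∏ i, χ (f i)) 1 := by
    rintro _ ⟨z, rfl⟩
    simp only [Pi.one_apply, Finset.prod_const, Finset.card_univ, Fintype.card_fin]
    rw [Fin.prod_univ_succ]
    simp only [centralHom, MonoidHom.coe_mk, OneHom.coe_mk, Fin.cons_zero, Fin.cons_succ]
    have h1 := prod_central hχ Finset.univ z
    rw [Finset.prod_div_distrib, Finset.prod_const, Finset.card_univ, Fintype.card_fin] at h1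
    have h2 : ∏ i, χ (z i) = χ ((∏ i, z i : Subgroup.center G) : G) / χ 1 * χ 1 ^ k := by
      rw [← h1]; field_simp
    rw [h2]
    have h3 := irr_mul_central hχ ((∏ i, z i)⁻¹ : Subgroup.center G).2
      ((∏ i, z i : Subgroup.center G) : G)
    rw [← Subgroup.coe_mul, inv_mul_cancel, Subgroup.coe_one] at h3
    rw [pow_succ]
    field_simp at h3 ⊢
    rw [← h3]
  obtain ⟨φ, hφ, hφeq⟩ := exists_quot_of_irr H hΨ hker
  have hdeg : φ 1 = ((d ^ (k + 1) : ℕ) : ℂ) := by
    have := congrFun hφeq 1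
    simp only [Pi.one_apply, Finset.prod_const, Finset.card_univ, Fintype.card_fin, hd] at this
    rw [QuotientGroup.mk_one] at this
    rw [← this]; push_cast; rfl
  have h1 := irr_degree_dvd_card hφ hdeg
  have h2 : Nat.card ((Fin (k + 1) → G) ⧸ H) * Nat.card H = Nat.card G ^ (k + 1) := by
    rw [← Subgroup.card_eq_card_quotient_mul_card_subgroup, Nat.card_fun, Nat.card_fin]
  have h3 : Nat.card H = Nat.card (Subgroup.center G) ^ k := by
    rw [hH, Nat.card_congr (MonoidHom.ofInjective (centralHom_injective k)).symm.toEquiv,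
      Nat.card_fun, Nat.card_fin]
  rw [← h2, h3]
  exact Nat.mul_dvd_mul_right h1 _

theorem dvd_of_forall_pow_dvd {d a c : ℕ} (hc : c ≠ 0) (ha : a ≠ 0) (hd : d ≠ 0)
    (h : ∀ k : ℕ, d ^ (k + 1) ∣ a ^ (k + 1) * c) : d ∣ a := by
  rw [← Nat.factorization_prime_le_iff_dvd hd ha]
  intro p hp
  have h1 := h (c.factorization p)
  rw [← Nat.factorization_prime_le_iff_dvd (pow_ne_zero _ hd)
    (mul_ne_zero (pow_ne_zero _ ha) hc)] at h1
  have h2 := h1 p hp
  rw [Nat.factorization_mul (pow_ne_zero _ ha) hc, Nat.factorization_pow,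
    Nat.factorization_pow] at h2
  simp only [Finsupp.coe_add, Finsupp.coe_smul, Pi.add_apply, Pi.smul_apply, smul_eq_mul] at h2
  by_contra hcon
  push Not at hcon
  have h3 : a.factorization p + 1 ≤ d.factorization p := hcon
  have h4 : (c.factorization p + 1) * (a.factorization p + 1) ≤
      (c.factorization p + 1) * d.factorization p := Nat.mul_le_mul_left _ h3
  nlinarith

theorem degree_dvd_index_center [Finite G] {χ : G → ℂ} (hχ : IsIrrCharacter G χ) {d : ℕ}
    (hd : χ 1 = d) : d ∣ (Subgroup.center G).index := by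
  have hd0 : d ≠ 0 := by
    intro h
    rw [h] at hd
    exact irr_one_ne_zero hχ (by simpa using hd)
  have hZ : Nat.card (Subgroup.center G) ≠ 0 := Nat.card_pos.ne'
  apply dvd_of_forall_pow_dvd hZ Subgroup.index_ne_zero_of_finite hd0
  intro k
  have h1 := pow_dvd_aux hχ hd k
  rw [← Subgroup.card_mul_index (Subgroup.center G), mul_pow, pow_succ (Nat.card _) k] at h1
  have h2 : Nat.card (Subgroup.center G) ^ k * Nat.card (Subgroup.center G) *
      (Subgroup.center G).index ^ (k + 1) =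
      ((Subgroup.center G).index ^ (k + 1) * Nat.card (Subgroup.center G)) *
        Nat.card (Subgroup.center G) ^ k := by ring
  rw [h2] at h1
  exact Nat.dvd_of_mul_dvd_mul_right (Nat.pos_of_ne_zero (pow_ne_zero _ hZ)) h1

/-- Isaacs 3.12: the degree divides the index of any subgroup acting by scalars. -/
theorem degree_dvd_index_of_scalar [Finite G] {χ : G → ℂ} (hχ : IsIrrCharacter G χ) {d : ℕ}
    (hd : χ 1 = d) (A : Subgroup G) (hA : ∀ a ∈ A, ‖χ a‖ = (d : ℝ)) : d ∣ A.index := by
  classical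
  have hc := IsIrrCharacter.isCharacter hχ
  set K := charKer χ hc with hK
  obtain ⟨φ, hφ, hφeq⟩ := exists_quot_of_irr K hχ (fun n hn => hn)
  have hdeg : φ 1 = d := by
    have := congrFun hφeq 1
    rw [hd] at this
    exact this.symm
  have h1 := degree_dvd_index_center hφ hdeg
  have h2 : A.map (QuotientGroup.mk' K) ≤ Subgroup.center (G ⧸ K) := by
    rintro _ ⟨a, ha, rfl⟩
    rw [Subgroup.mem_center_iff]
    intro q
    obtain ⟨g, rfl⟩ := QuotientGroup.mk_surjective q
    change ((g * a : G) : G ⧸ K) = ((a * g : G) : G ⧸ K)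
    rw [QuotientGroup.eq, hK, mem_charKer]
    obtain ⟨n, ρ, hρ, hρχ⟩ := hχ
    have hn : (finrank ℂ (Fin n → ℂ) : ℝ) = d := by
      have h3 : χ 1 = (finrank ℂ (Fin n → ℂ) : ℂ) := by rw [← hρχ, char_one]
      rw [hd] at h3
      exact_mod_cast h3.symm
    have h4 : ‖ρ.character a‖ = (finrank ℂ (Fin n → ℂ) : ℝ) := by
      rw [hρχ, hn]; exact hA a ha
    obtain ⟨ω, hω⟩ := (norm_char_eq_finrank_iff ρ a).mp h4
    rw [← hρχ, char_one, char_eq_finrank_iff]
    have h5 : ρ (g * a) = ρ (a * g) := by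
      rw [map_mul, map_mul, hω]
      ext v
      simp
    have h6 : ρ ((g * a)⁻¹ * (a * g)) = ρ ((g * a)⁻¹ * (g * a)) := by
      rw [map_mul ρ (g * a)⁻¹ (a * g), map_mul ρ (g * a)⁻¹ (g * a), h5]
    rw [h6, inv_mul_cancel, map_one]
    rfl
  exact h1.trans ((Subgroup.index_dvd_of_le h2).trans
    (Subgroup.index_map_dvd A (QuotientGroup.mk'_surjective K)))

/-- The inertia subgroup. -/
def inertia (H : Subgroup G) [hN : H.Normal] (θ : H → ℂ) : Subgroup G where
  carrier := {g | conjFun H θ g = θ}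
  one_mem' := conjFun_one H θ
  mul_mem' := by
    intro a b ha hb
    simp only [Set.mem_ofPred_eq] at ha hb ⊢
    rw [← conjFun_conjFun, ha, hb]
  inv_mem' := by
    intro a ha
    simp only [Set.mem_ofPred_eq] at ha ⊢
    have h1 := conjFun_conjFun H θ a a⁻¹
    rw [ha, mul_inv_cancel, conjFun_one] at h1
    exact h1

theorem mem_inertia (H : Subgroup G) [hN : H.Normal] (θ : H → ℂ) (g : G) :
    g ∈ inertia H θ ↔ ∀ h : H, θ ⟨g * h * g⁻¹, hN.conj_mem h h.2 g⟩ = θ h :=
  ⟨fun h x => congrFun h x, fun h => funext h⟩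

theorem le_inertia (H : Subgroup G) [hN : H.Normal] {θ : H → ℂ} (hθ : IsClassFunction H θ) :
    H ≤ inertia H θ := by
  intro g hg
  rw [mem_inertia]
  intro h
  exact hθ h ⟨g, hg⟩

/-- Ito's theorem. -/
theorem ito [Finite G] {χ : G → ℂ} (hχ : IsIrrCharacter G χ) {d : ℕ} (hd : χ 1 = d)
    (H : Subgroup G) [hN : H.Normal] (hH : ∀ a ∈ H, ∀ b ∈ H, a * b = b * a) : d ∣ H.index := by
  classical
  haveI := Fintype.ofFinite G
  haveI := Fintype.ofFinite H
  have hne : (fun n : H => χ n) ≠ 0 := by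
    intro h
    exact irr_one_ne_zero hχ (congrFun h 1)
  obtain ⟨θ, hθ, hθc⟩ := exists_constituent
    (IsCharacter.isClassFunction (isCharacter_restrict H (IsIrrCharacter.isCharacter hχ))) hne
  have hθ1 : θ 1 = 1 :=
    (comm_iff_all_linear.mp (fun a b : H => Subtype.ext (hH a a.2 b b.2))) ⟨θ, hθ⟩
  set T := inertia H θ with hT
  haveI := Fintype.ofFinite T
  have hHT : H ≤ T := le_inertia H (IsIrrCharacter.isClassFunction hθ)
  obtain ⟨ψ, hψ, hψind, hψc⟩ := exists_over_of_over H T θ hθ (mem_inertia H θ) hHT hχ hθc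
  have hf : classInner (resH H T hHT ψ) θ ≠ 0 := by rw [hψc]; exact hθc
  have hdeg := degree_of_over H T θ hθ (mem_inertia H θ) hHT hψ hf
  rw [hθ1, mul_one] at hdeg
  obtain ⟨e, he⟩ := irr_one_eq_natCast (IsIrrCharacter.isCharacter hψ)
  -- restriction of ψ to H is e • θ
  haveI := Fintype.ofFinite (H.subgroupOf T)
  have hres := restrict_of_invariant (H.subgroupOf T) hψ (isIrrCharacter_thetaT H T θ hθ hHT)
    (by rw [classInner_thetaT H T θ hHT ψ]; exact hf)
    (fun s => conjFun_thetaT H T θ (mem_inertia H θ) s)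
  rw [classInner_thetaT H T θ hHT ψ, ← hdeg, he] at hres
  obtain ⟨l, hl⟩ := exists_hom_of_irr_of_one (IsIrrCharacter.isCharacter hθ) hθ1
  have hscal : ∀ a ∈ H.subgroupOf T, ‖ψ a‖ = (e : ℝ) := by
    intro a ha
    have h1 := congrFun hres ⟨a, ha⟩
    simp only [Pi.smul_apply, smul_eq_mul, thetaT] at h1
    rw [h1, norm_mul, Complex.norm_natCast, hl]
    simp only
    have h2 : ‖((l ⟨(a : G), Subgroup.mem_subgroupOf.mp ha⟩ : ℂˣ) : ℂ)‖ = 1 := by
      apply norm_eq_one_of_pow_eq_one (n := Nat.card H) Nat.card_pos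
      rw [← Units.val_pow_eq_pow_val, ← map_pow, pow_card_eq_one', map_one, Units.val_one]
    rw [h2, mul_one]
  have h1 := degree_dvd_index_of_scalar hψ he (H.subgroupOf T) hscal
  have h2 : χ 1 = (T.index : ℂ) * e := by
    rw [← hψind, indFun_one, he]
  have h3 : d = T.index * e := by
    rw [hd] at h2
    exact_mod_cast h2
  rw [h3, ← Subgroup.relIndex_mul_index hHT, mul_comm]
  exact Nat.mul_dvd_mul_right h1 _

end Cfsg.Agent.Lib.Helper7.CharCenter
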