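import Mathlib
import Cfsg.Prelude.Def_Characters
import Cfsg.Agent.Lib.Helper7.All1
import Cfsg.Agent.Lib.Helper7.CharKer
import Cfsg.Agent.Lib.Helper7.CharRes
import Cfsg.Agent.Lib.Helper7.CharZ

set_option autoImplicit false
set_option linter.style.haveILetI false
set_option linter.unusedSectionVars false
set_option linter.unusedVariables false
set_option linter.unusedSimpArgs false

namespace Cfsg.Agent.Lib.Helper7.CharExtra

open Module Representation Cfsg
open Cfsg.Agent.Lib.Helper7.CharBasic Cfsg.Agent.Lib.Helper7.CharIrr Cfsg.Agent.Lib.Helper7.CharDecomp Cfsg.Agent.Lib.Helper7.CharComplete Cfsg.Agent.Lib.Helper7.CharOrth Cfsg.Agent.Lib.Helper7.CharInd Cfsg.Agent.Lib.Helper7.CharIntegral Cfsg.Agent.Lib.Helper7.CharBurnside Cfsg.Agent.Lib.Helper7.CharLinear Cfsg.Agent.Lib.Helper7.CharEquiv Cfsg.Agent.Lib.Helper7.CharMore Cfsg.Agent.Lib.Helper7.CharCount Cfsg.Agent.Lib.Helper7.CharMisc Cfsg.Agent.Lib.Helper7.CharMisc2 Cfsg.Agent.Lib.Helper7.CharNormal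 Cfsg.Agent.Lib.Helper7.CharOdd Cfsg.Agent.Lib.Helper7.CharClifford Cfsg.Agent.Lib.Helper7.CharProd Cfsg.Agent.Lib.Helper7.CharPerm Cfsg.Agent.Lib.Helper7.CharClassAlg Cfsg.Agent.Lib.Helper7.CharClassAlg2 Cfsg.Agent.Lib.Helper7.CharCentral Cfsg.Agent.Lib.Helper7.CharNormal2 Cfsg.Agent.Lib.Helper7.CharCliffordCorr Cfsg.Agent.Lib.Helper7.CharKer Cfsg.Agent.Lib.Helper7.CharRes Cfsg.Agent.Lib.Helper7.CharZ
open scoped ComplexConjugate

variable {P : Type*} [Group P]

theorem linear_of_commutator_le_ker [Finite P] {χ : P → ℂ} (hχ : IsIrrCharacter P χ)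
    (h : ∀ n ∈ commutator P, χ n = χ 1) : χ 1 = 1 := by
  obtain ⟨φ, hφ, rfl⟩ := exists_quot_of_irr (commutator P) hχ h
  have hc : ∀ a b : P ⧸ commutator P, a * b = b * a := by
    intro a b
    exact mul_comm (G := Abelianization P) a b
  exact (comm_iff_all_linear.mp hc) ⟨φ, hφ⟩

theorem linear_on_commutator [Finite P] {χ : P → ℂ} (hχ : IsCharacter P χ) (h1 : χ 1 = 1) :
    ∀ n ∈ commutator P, χ n = 1 := by
  obtain ⟨l, rfl⟩ := exists_hom_of_irr_of_one hχ h1
  intro n hn
  have : n ∈ l.ker := by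
    have := Abelianization.commutator_subset_ker l
    exact this hn
  rw [MonoidHom.mem_ker] at this
  simp [this]

theorem central_ne_of_nonlinear [Finite P] {p : ℕ} (hp : p.Prime)
    (hcomm : commutator P = Subgroup.center P) (hZ : Nat.card (Subgroup.center P) = p)
    {χ : P → ℂ} (hχ : IsIrrCharacter P χ) (h1 : χ 1 ≠ 1) :
    ∀ z ∈ Subgroup.center P, z ≠ 1 → χ z ≠ χ 1 := by
  intro z hz hz1 hzk
  apply h1
  apply linear_of_commutator_le_ker hχ
  intro n hn
  rw [hcomm] at hn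
  haveI : Fact p.Prime := ⟨hp⟩
  have h2 : (⟨n, hn⟩ : Subgroup.center P) ∈ Subgroup.zpowers (⟨z, hz⟩ : Subgroup.center P) :=
    mem_zpowers_of_prime_card hZ (by intro h; exact hz1 (congrArg Subtype.val h))
  obtain ⟨k, hk⟩ := Subgroup.mem_zpowers_iff.mp h2
  have h3 : z ^ k = n := by
    have := congrArg Subtype.val hk
    simpa using this
  have hc := IsIrrCharacter.isCharacter hχ
  have h4 : z ∈ charKer χ hc := hzk
  have h5 : z ^ k ∈ charKer χ hc := Subgroup.zpow_mem _ h4 k
  rw [h3] at h5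
  exact h5

theorem vanish_off_center [Finite P] {p : ℕ} (hp : p.Prime)
    (hcomm : commutator P = Subgroup.center P) (hZ : Nat.card (Subgroup.center P) = p)
    {χ : P → ℂ} (hχ : IsIrrCharacter P χ) (h1 : χ 1 ≠ 1) :
    ∀ x : P, x ∉ Subgroup.center P → χ x = 0 := by
  intro x hx
  haveI := Fintype.ofFinite P
  rw [Subgroup.mem_center_iff] at hx
  push Not at hx
  obtain ⟨y, hy⟩ := hx
  have hz : y * x * y⁻¹ * x⁻¹ ∈ Subgroup.center P := by
    rw [← hcomm, commutator_def, ← commutatorElement_def]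
    exact Subgroup.commutator_mem_commutator (Subgroup.mem_top y) (Subgroup.mem_top x)
  have hz1 : y * x * y⁻¹ * x⁻¹ ≠ 1 := by
    intro h
    apply hy
    have : y * x = (y * x * y⁻¹ * x⁻¹) * (x * y) := by group
    rw [this, h, one_mul]
  have h2 := central_ne_of_nonlinear hp hcomm hZ hχ h1 _ hz hz1
  have h3 := irr_mul_central hχ hz x
  have h4 : y * x * y⁻¹ * x⁻¹ * x = y * x * y⁻¹ := by group
  rw [h4, IsIrrCharacter.isClassFunction hχ] at h3
  have h0 := irr_one_ne_zero hχ
  by_contra hne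
  apply h2
  field_simp at h3
  exact h3.symm

theorem degree_sq_of_vanish_off_center [Finite P] {χ : P → ℂ} (hχ : IsIrrCharacter P χ)
    (hv : ∀ x : P, x ∉ Subgroup.center P → χ x = 0) :
    χ 1 ^ 2 = ((Subgroup.center P).index : ℂ) := by
  haveI := Fintype.ofFinite P
  haveI : Fintype (Subgroup.center P) := Fintype.ofFinite _
  have h1 := (vanish_off_iff_norm_restrict (Subgroup.center P)
    (isIrrCharacter_iff_norm_one.mp hχ).2).mp hv
  rw [← h1]
  have hr : IsCharacter (Subgroup.center P) (fun h : Subgroup.center P => χ h) :=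
    isCharacter_restrict _ (IsIrrCharacter.isCharacter hχ)
  have hne : (fun h : Subgroup.center P => χ h) ≠ 0 := by
    intro h
    exact irr_one_ne_zero hχ (congrFun h 1)
  obtain ⟨ψ, hψ, hc⟩ := exists_constituent (IsCharacter.isClassFunction hr) hne
  have h2 : (fun h : Subgroup.center P => χ h) = χ 1 • ψ := by
    funext n
    exact restrict_central _ le_rfl hχ hψ hc n
  rw [h2, classInner_smul_left, classInner_smul_right, (isIrrCharacter_iff_norm_one.mp hψ).2]
  obtain ⟨n, -, hn⟩ := irr_one_pos hχ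
  rw [hn]
  simp [sq]

end Cfsg.Agent.Lib.Helper7.CharExtra
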