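import Mathlib
import Cfsg.Prelude.Def_Characters
import Cfsg.Agent.Lib.Helper7.All1
import Cfsg.Agent.Lib.Helper7.CharKer
import Cfsg.Agent.Lib.Helper7.CharRes
import Cfsg.Agent.Lib.Helper7.CharZ
import Cfsg.Agent.Lib.Helper7.CharCenter
import Cfsg.Agent.Lib.Helper7.CharExtra

set_option autoImplicit false
set_option linter.style.haveILetI false
set_option linter.unusedSectionVars false
set_option linter.unusedVariables false
set_option linter.unusedSimpArgs false

namespace Cfsg.Agent.Lib.Helper7.Brauer1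

open Module Representation Cfsg
open Cfsg.Agent.Lib.Helper7.CharBasic Cfsg.Agent.Lib.Helper7.CharIrr Cfsg.Agent.Lib.Helper7.CharDecomp Cfsg.Agent.Lib.Helper7.CharComplete Cfsg.Agent.Lib.Helper7.CharOrth Cfsg.Agent.Lib.Helper7.CharInd Cfsg.Agent.Lib.Helper7.CharIntegral Cfsg.Agent.Lib.Helper7.CharBurnside Cfsg.Agent.Lib.Helper7.CharLinear Cfsg.Agent.Lib.Helper7.CharEquiv Cfsg.Agent.Lib.Helper7.CharMore Cfsg.Agent.Lib.Helper7.CharCount Cfsg.Agent.Lib.Helper7.CharMisc Cfsg.Agent.Lib.Helper7.CharMisc2 Cfsg.Agent.Lib.Helper7.CharNormal Cfsg.Agent.Lib.Helper7.CharOdd Cfsg.Agent.Lib.Helper7.CharClifford Cfsg.Agent.Lib.Helper7.CharProd Cfsg.Agent.Lib.Helper7.CharPerm Cfsg.Agent.Lib.Helper7.CharClassAlg Cfsg.Agent.Lib.Helper7.CharClassAlg2 Cfsg.Agent.Lib.Helper7.CharCentral Cfsg.Agent.Lib.Helper7.CharNormal2 Cfsg.Agent.Lib.Helper7.CharCliffordCorr Cfsg.Agent.Lib.Helper7.CharKer Cfsg.Agent.Lib.Helper7.CharRes Cfsg.Agent.Lib.Helper7.CharZ Cfsg.Agent.Lib.Helper7.CharCenter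 Cfsg.Agent.Lib.Helper7.CharExtra
open scoped ComplexConjugate

open scoped commutatorElement

variable {G : Type*} [Group G]

theorem constituent_ker [Fintype G] {θ l : G → ℂ} (hθ : IsCharacter G θ) (hl : IsIrrCharacter G l)
    (hc : classInner θ l ≠ 0) {a : G} (ha : θ a = θ 1) : l a = l 1 := by
  have hδ := isCharacter_sub_of_constituent hθ hl hc
  have hlc := IsIrrCharacter.isCharacter hl
  have h1 := norm_le_degree hlc a
  have h2 := norm_le_degree hδ a
  have h3 : (l a).re + ((θ - l) a).re = (l 1).re + ((θ - l) 1).re := by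
    simp only [Pi.sub_apply, Complex.sub_re, ha]
    ring
  have h4 := Complex.re_le_norm (l a)
  have h5 := Complex.re_le_norm ((θ - l) a)
  have h6 : (l a).re = (l 1).re := by linarith
  have h7 : ‖l a‖ = (l a).re := by linarith
  have h8 : (l a).im = 0 := by
    have h9 := Complex.sq_norm (l a)
    rw [Complex.normSq_apply, h7] at h9
    nlinarith
  rw [degree_eq_re hlc, ← h6]
  apply Complex.ext <;> simp [h8]

theorem induced_of_normal_comm [Fintype G] {n : ℕ} (ρ : Representation ℂ G (Fin n → ℂ))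
    [ρ.IsIrreducible] (A : Subgroup G) [hA : A.Normal]
    (hcomm : ∀ u ∈ A, ∀ v ∈ A, ρ u * ρ v = ρ v * ρ u) {x : G} (hxA : x ∈ A)
    (hx : x ∉ repCenter ρ) :
    ∃ T : Subgroup G, T ≠ ⊤ ∧ ∃ ψ : T → ℂ, IsIrrCharacter T ψ ∧ indFun T ψ = ρ.character := by
  classical
  haveI := Fintype.ofFinite A
  have hχ : IsIrrCharacter G ρ.character := isIrrCharacter_of_rep ρ
  have hne : (fun n : A => ρ.character n) ≠ 0 := by
    intro h
    exact irr_one_ne_zero hχ (congrFun h 1)
  have hres := isCharacter_restrict A (IsIrrCharacter.isCharacter hχ)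
  obtain ⟨θ, hθ, hθc⟩ := exists_constituent (IsCharacter.isClassFunction hres) hne
  -- θ is linear
  have hθ1 : θ 1 = 1 := by
    apply linear_of_commutator_le_ker hθ
    have hle : commutator A ≤ charKer θ (IsIrrCharacter.isCharacter hθ) := by
      rw [commutator_def, Subgroup.commutator_le]
      intro u _ v _
      rw [mem_charKer]
      apply constituent_ker hres hθ hθc
      have h1 : ρ ((⁅u, v⁆ : A) : G) = 1 := by
        rw [commutatorElement_def]
        simp only [Subgroup.coe_mul, Subgroup.coe_inv, map_mul]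
        rw [hcomm u u.2 v v.2, mul_assoc (ρ v), ← map_mul, mul_inv_cancel, map_one, mul_one,
          ← map_mul, mul_inv_cancel, map_one]
      show ρ.character ((⁅u, v⁆ : A) : G) = ρ.character ((1 : A) : G)
      simp only [Representation.character, h1, Subgroup.coe_one, map_one]
    intro n hn
    exact hle hn
  set T := inertia A θ with hT
  haveI := Fintype.ofFinite T
  have hAT : A ≤ T := le_inertia A (IsIrrCharacter.isClassFunction hθ)
  obtain ⟨ψ, hψ, hψind, hψc⟩ := exists_over_of_over A T θ hθ (mem_inertia A θ) hAT hχ hθc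
  refine ⟨T, ?_, ψ, hψ, hψind⟩
  intro htop
  apply hx
  have hinv : ∀ g : G, conjFun A θ g = θ := by
    intro g
    have : g ∈ T := htop ▸ Subgroup.mem_top g
    exact this
  have hr := restrict_of_invariant A hχ hθ hθc hinv
  have h1 := congrFun hr 1
  have h2 := congrFun hr ⟨x, hxA⟩
  simp only [Pi.smul_apply, smul_eq_mul, hθ1, mul_one, Subgroup.coe_one] at h1 h2
  obtain ⟨l, hl⟩ := exists_hom_of_irr_of_one (IsIrrCharacter.isCharacter hθ) hθ1
  have h3 : ‖θ ⟨x, hxA⟩‖ = 1 := by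
    rw [hl]
    apply norm_eq_one_of_pow_eq_one (n := Nat.card A) Nat.card_pos
    rw [← Units.val_pow_eq_pow_val, ← map_pow, pow_card_eq_one', map_one, Units.val_one]
  have h4 : ‖ρ.character x‖ = (finrank ℂ (Fin n → ℂ) : ℝ) := by
    rw [h2, ← h1, norm_mul, h3, mul_one, Representation.char_one]
    simp
  obtain ⟨ω, hω⟩ := (norm_char_eq_finrank_iff ρ x).mp h4
  exact mem_repCenter_of_scalar ρ hω

theorem induced_of_center_quot [Fintype G] {n : ℕ} (ρ : Representation ℂ G (Fin n → ℂ))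
    [ρ.IsIrreducible] (h : ∃ q ∈ Subgroup.center (G ⧸ repCenter ρ), q ≠ 1) :
    ∃ T : Subgroup G, T ≠ ⊤ ∧ ∃ ψ : T → ℂ, IsIrrCharacter T ψ ∧ indFun T ψ = ρ.character := by
  obtain ⟨q, hq, hq1⟩ := h
  obtain ⟨x, rfl⟩ := QuotientGroup.mk_surjective q
  have hx : x ∉ repCenter ρ := fun h => hq1 ((QuotientGroup.eq_one_iff x).mpr h)
  haveI hn : (Subgroup.zpowers (x : G ⧸ repCenter ρ)).Normal := by
    apply normal_of_le_center
    rw [Subgroup.zpowers_le]
    exact hq
  let A : Subgroup G := (Subgroup.zpowers (x : G ⧸ repCenter ρ)).comap (QuotientGroup.mk' _)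
  haveI : A.Normal := hn.comap _
  have hA : ∀ u ∈ A, ∃ (k : ℤ) (z : G), z ∈ repCenter ρ ∧ u = x ^ k * z := by
    intro u hu
    obtain ⟨k, hk⟩ := Subgroup.mem_zpowers_iff.mp (Subgroup.mem_comap.mp hu)
    refine ⟨k, (x ^ k)⁻¹ * u, ?_, by group⟩
    rw [← QuotientGroup.eq]
    simpa using hk
  apply induced_of_normal_comm ρ A ?_ (x := x) ?_ hx
  · intro u hu v hv
    obtain ⟨k, z, hz, rfl⟩ := hA u hu
    obtain ⟨l, w, hw, rfl⟩ := hA v hv
    have e1 : ρ (x ^ k) * ρ (x ^ l) = ρ (x ^ l) * ρ (x ^ k) := by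
      rw [← map_mul, ← map_mul, ← zpow_add, ← zpow_add, add_comm]
    simp only [map_mul]
    calc ρ (x ^ k) * ρ z * (ρ (x ^ l) * ρ w) = ρ (x ^ k) * (ρ z * ρ (x ^ l)) * ρ w := by
          simp only [mul_assoc]
      _ = ρ (x ^ k) * (ρ (x ^ l) * ρ z) * ρ w := by rw [hz]
      _ = (ρ (x ^ k) * ρ (x ^ l)) * (ρ z * ρ w) := by simp only [mul_assoc]
      _ = (ρ (x ^ l) * ρ (x ^ k)) * (ρ w * ρ z) := by rw [e1, hz]
      _ = ρ (x ^ l) * (ρ (x ^ k) * ρ w) * ρ z := by simp only [mul_assoc]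
      _ = ρ (x ^ l) * (ρ w * ρ (x ^ k)) * ρ z := by rw [hw]
      _ = ρ (x ^ l) * ρ w * (ρ (x ^ k) * ρ z) := by simp only [mul_assoc]
  · show (QuotientGroup.mk' _ x) ∈ Subgroup.zpowers (x : G ⧸ repCenter ρ)
    exact Subgroup.mem_zpowers _

theorem repCenter_ne_top {n : ℕ} (ρ : Representation ℂ G (Fin n → ℂ))
    [ρ.IsIrreducible] (h1 : ρ.character 1 ≠ 1) : repCenter ρ ≠ ⊤ := by
  intro htop
  apply h1
  have := finrank_eq_one_of_forall_scalar ρ (fun x =>
    exists_scalar_of_mem_repCenter ρ (htop ▸ Subgroup.mem_top x))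
  rw [Representation.char_one, this]
  simp

end Cfsg.Agent.Lib.Helper7.Brauer1
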