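import Mathlib
import Cfsg.Prelude.Def_Characters
import Cfsg.Agent.Lib.Helper7.All1
import Cfsg.Agent.Lib.Helper7.CharKer
import Cfsg.Agent.Lib.Helper7.CharRes
import Cfsg.Agent.Lib.Helper7.CharGen
import Cfsg.Agent.Lib.Helper7.CharGallagher
import Cfsg.Agent.Lib.Helper7.CharZ
import Cfsg.Agent.Lib.Helper7.CharCenter
import Cfsg.Agent.Lib.Helper7.CharExtra
import Cfsg.Agent.Lib.Helper7.Brauer1
import Cfsg.Agent.Lib.Helper7.Brauer2

set_option autoImplicit false
set_option linter.style.haveILetI false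
set_option linter.unusedSectionVars false
set_option linter.unusedVariables false
set_option linter.unusedSimpArgs false

namespace Cfsg.Agent.Lib.Helper7.Brauer3

open Module Representation Cfsg
open Cfsg.Agent.Lib.Helper7.CharBasic Cfsg.Agent.Lib.Helper7.CharIrr Cfsg.Agent.Lib.Helper7.CharDecomp Cfsg.Agent.Lib.Helper7.CharComplete Cfsg.Agent.Lib.Helper7.CharOrth Cfsg.Agent.Lib.Helper7.CharInd Cfsg.Agent.Lib.Helper7.CharIntegral Cfsg.Agent.Lib.Helper7.CharBurnside Cfsg.Agent.Lib.Helper7.CharLinear Cfsg.Agent.Lib.Helper7.CharEquiv Cfsg.Agent.Lib.Helper7.CharMore Cfsg.Agent.Lib.Helper7.CharCount Cfsg.Agent.Lib.Helper7.CharMisc Cfsg.Agent.Lib.Helper7.CharMisc2 Cfsg.Agent.Lib.Helper7.CharNormal Cfsg.Agent.Lib.Helper7.CharOdd Cfsg.Agent.Lib.Helper7.CharClifford Cfsg.Agent.Lib.Helper7.CharProd Cfsg.Agent.Lib.Helper7.CharPerm Cfsg.Agent.Lib.Helper7.CharClassAlg Cfsg.Agent.Lib.Helper7.CharClassAlg2 Cfsg.Agent.Lib.Helper7.CharCentral Cfsg.Agent.Lib.Helper7.CharNormal2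 Cfsg.Agent.Lib.Helper7.CharCliffordCorr Cfsg.Agent.Lib.Helper7.CharKer Cfsg.Agent.Lib.Helper7.CharRes Cfsg.Agent.Lib.Helper7.CharGen Cfsg.Agent.Lib.Helper7.CharGallagher Cfsg.Agent.Lib.Helper7.CharZ Cfsg.Agent.Lib.Helper7.CharCenter Cfsg.Agent.Lib.Helper7.CharExtra Cfsg.Agent.Lib.Helper7.Brauer1 Cfsg.Agent.Lib.Helper7.Brauer2
open scoped ComplexConjugate

universe u

/-- transport of a linear character on `S ≤ K` to the image of `S` in `G`. -/
noncomputable def mapHom {G : Type*} [Group G] (K : Subgroup G) (S : Subgroup K) (l : S →* ℂˣ) :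
    S.map K.subtype →* ℂˣ :=
  l.comp (S.equivMapOfInjective K.subtype K.subtype_injective).symm.toMonoidHom

theorem monomial_of_nilpotent_aux (n : ℕ) : ∀ (G : Type u) [Group G] [Fintype G]
    [Group.IsNilpotent G], Nat.card G = n → ∀ χ : G → ℂ, IsIrrCharacter G χ →
    ∃ (H : Subgroup G) (lam : H →* ℂˣ), χ = indFun H (fun h => (lam h : ℂ)) := by
  induction n using Nat.strong_induction_on with
  | _ n ih =>
    intro G _ _ _ hn χ hχ
    by_cases h1 : χ 1 = 1
    · obtain ⟨l, hl⟩ := exists_hom_of_irr_of_one (IsIrrCharacter.isCharacter hχ) h1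
      refine ⟨⊤, l.comp (Subgroup.subtype ⊤), ?_⟩
      have := indFun_top (IsIrrCharacter.isClassFunction hχ)
      rw [← this, hl]
      rfl
    · obtain ⟨m, ρ, hirr, rfl⟩ := hχ
      haveI := hirr
      have hne := repCenter_ne_top ρ h1
      haveI : Nontrivial (G ⧸ repCenter ρ) := by
        rw [QuotientGroup.nontrivial_iff]
        exact hne
      have hc := Group.IsNilpotent.center_ne_bot (G := G ⧸ repCenter ρ)
      obtain ⟨q, hq, hq1⟩ := (Subgroup.bot_or_exists_ne_one _).resolve_left hc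
      obtain ⟨T, hT, ψ, hψ, hind⟩ := induced_of_center_quot ρ ⟨q, hq, hq1⟩
      haveI : Fintype T := Fintype.ofFinite _
      have hlt : Nat.card T < n := by
        rw [← hn]
        have h2 := Subgroup.card_le_card_group T
        rcases h2.lt_or_eq with h3 | h3
        · exact h3
        · exact absurd ((Subgroup.card_eq_iff_eq_top T).mp h3) hT
      obtain ⟨S, l, hl⟩ := ih (Nat.card T) hlt T rfl ψ hψ
      refine ⟨S.map T.subtype, mapHom T S l, ?_⟩
      rw [← hind, hl, indFun_map]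
      rfl

theorem monomial_of_nilpotent {G : Type u} [Group G] [Fintype G] [Group.IsNilpotent G]
    {χ : G → ℂ} (hχ : IsIrrCharacter G χ) :
    ∃ (H : Subgroup G) (lam : H →* ℂˣ), χ = indFun H (fun h => (lam h : ℂ)) :=
  monomial_of_nilpotent_aux _ G rfl χ hχ

end Cfsg.Agent.Lib.Helper7.Brauer3
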