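import Mathlib
import Cfsg.Prelude.Def_Characters
import Cfsg.Agent.Lib.Helper7.All1
import Cfsg.Agent.Lib.Helper7.CharKer

set_option autoImplicit false
set_option linter.style.haveILetI false
set_option linter.unusedSectionVars false
set_option linter.unusedVariables false
set_option linter.unusedSimpArgs false

namespace Cfsg.Agent.Lib.Helper7.Brauer4

open Module Representation Cfsg
open Cfsg.Agent.Lib.Helper7.CharBasic Cfsg.Agent.Lib.Helper7.CharIrr Cfsg.Agent.Lib.Helper7.CharDecomp Cfsg.Agent.Lib.Helper7.CharComplete Cfsg.Agent.Lib.Helper7.CharOrth Cfsg.Agent.Lib.Helper7.CharInd Cfsg.Agent.Lib.Helper7.CharIntegral Cfsg.Agent.Lib.Helper7.CharBurnside Cfsg.Agent.Lib.Helper7.CharLinear Cfsg.Agent.Lib.Helper7.CharEquiv Cfsg.Agent.Lib.Helper7.CharMore Cfsg.Agent.Lib.Helper7.CharCount Cfsg.Agent.Lib.Helper7.CharMisc Cfsg.Agent.Lib.Helper7.CharMisc2 Cfsg.Agent.Lib.Helper7.CharNormal Cfsg.Agent.Lib.Helper7.CharOdd Cfsg.Agent.Lib.Helper7.CharClifford Cfsg.Agent.Lib.Helper7.CharProd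 Cfsg.Agent.Lib.Helper7.CharPerm Cfsg.Agent.Lib.Helper7.CharClassAlg Cfsg.Agent.Lib.Helper7.CharClassAlg2 Cfsg.Agent.Lib.Helper7.CharCentral Cfsg.Agent.Lib.Helper7.CharNormal2 Cfsg.Agent.Lib.Helper7.CharCliffordCorr Cfsg.Agent.Lib.Helper7.CharKer
open scoped ComplexConjugate

variable {G : Type*} [Group G]

theorem extendByZero_one (H : Subgroup G) [DecidablePred (· ∈ H)] (z : G) :
    extendByZero H (fun _ : H => (1 : ℂ)) z = if z ∈ H then 1 else 0 := by
  split_ifs with hz
  · rw [extendByZero_of_mem H _ hz]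
  · rw [extendByZero_of_not_mem H _ hz]

/-- Counting lemma: the permutation character on the cosets of the preimage of `S ≤ N ⧸ C`. -/
theorem indFun_one_comap [Fintype G] (N : Subgroup G) (C : Subgroup N) [C.Normal]
    [Fintype (N ⧸ C)] (S : Subgroup (N ⧸ C)) (x : N)
    (hyp : ∀ y : G, y⁻¹ * x * y ∈ (S.comap (QuotientGroup.mk' C)).map N.subtype → y ∈ N) :
    indFun ((S.comap (QuotientGroup.mk' C)).map N.subtype) (fun _ => (1 : ℂ)) (x : G) =
      indFun S (fun _ => (1 : ℂ)) (x : N ⧸ C) := by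
  classical
  haveI : Fintype N := Fintype.ofFinite _
  set H' := S.comap (QuotientGroup.mk' C) with hH'
  have hmem : ∀ y : N, (y : G) ∈ H'.map N.subtype ↔ (y : N ⧸ C) ∈ S := by
    intro y
    constructor
    · rintro ⟨z, hz, hzy⟩
      have : z = y := Subtype.ext hzy
      rw [← this]
      exact hz
    · intro h
      exact ⟨y, h, rfl⟩
  have hcard : (Nat.card (H'.map N.subtype) : ℂ) = (Nat.card C : ℂ) * (Nat.card S : ℂ) := by
    have h1 : Nat.card (H'.map N.subtype) = Nat.card H' :=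
      Nat.card_congr (H'.equivMapOfInjective N.subtype N.subtype_injective).symm.toEquiv
    have h2 := sum_comp_mk C (fun q : N ⧸ C => if q ∈ S then (1 : ℂ) else 0)
    rw [← Finset.sum_filter, ← Finset.sum_filter, Finset.sum_const, Finset.sum_const,
      nsmul_eq_mul, nsmul_eq_mul, mul_one, mul_one] at h2
    rw [h1, Nat.card_eq_fintype_card (α := H'), Nat.card_eq_fintype_card (α := S)]
    have h3 : Fintype.card H' = (Finset.univ.filter (fun g : N => (g : N ⧸ C) ∈ S)).card := by
      rw [← Fintype.card_subtype]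
      rfl
    have h4 : Fintype.card S = (Finset.univ.filter (fun q : N ⧸ C => q ∈ S)).card := by
      rw [← Fintype.card_subtype]
    rw [h3, h4]
    exact h2
  unfold indFun
  simp only [extendByZero_one]
  have h5 : ∑ y : G, (if y⁻¹ * (x : G) * y ∈ H'.map N.subtype then (1 : ℂ) else 0) =
      ∑ y : N, (if ((y : N ⧸ C))⁻¹ * (x : N ⧸ C) * (y : N ⧸ C) ∈ S then (1 : ℂ) else 0) := by
    symm
    apply Fintype.sum_of_injective (fun y : N => (y : G)) Subtype.val_injective
    · intro y hy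
      rw [if_neg]
      intro h
      exact hy ⟨⟨y, hyp y h⟩, rfl⟩
    · intro y
      have := hmem (y⁻¹ * x * y)
      simp only [Subgroup.coe_mul, Subgroup.coe_inv, QuotientGroup.mk_mul,
        QuotientGroup.mk_inv] at this
      simp only [this]
  rw [h5, sum_comp_mk C (fun q : N ⧸ C => if q⁻¹ * (x : N ⧸ C) * q ∈ S then (1 : ℂ) else 0), hcard]
  have hC : (Nat.card C : ℂ) ≠ 0 := by exact_mod_cast Nat.card_pos.ne'
  have hS : (Nat.card S : ℂ) ≠ 0 := by exact_mod_cast Nat.card_pos.ne'
  field_simp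

/-- The value of a permutation character at a `p`-element is congruent to the degree. -/
theorem indFun_one_pElement [Fintype G] (p : ℕ) [Fact p.Prime] (S : Subgroup G) (x : G) {a : ℕ}
    (hx : x ^ p ^ a = 1) : ∃ n : ℕ, indFun S (fun _ => (1 : ℂ)) x = n ∧ n ≡ S.index [MOD p] := by
  classical
  have h1 := congrFun (permChar_eq_indFun (G := G) (G ⧸ S) ((1 : G) : G ⧸ S)) x
  have hst : MulAction.stabilizer G ((1 : G) : G ⧸ S) = S := MulAction.stabilizer_quotient S
  rw [hst] at h1
  refine ⟨_, h1.symm, ?_⟩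
  have hP : IsPGroup p (Subgroup.zpowers x) := by
    rw [IsPGroup.iff_card]
    have h2 : orderOf x ∣ p ^ a := orderOf_dvd_of_pow_eq_one hx
    obtain ⟨k, -, hk⟩ := (Nat.dvd_prime_pow Fact.out).mp h2
    exact ⟨k, by rw [Nat.card_zpowers, hk]⟩
  have h3 := hP.card_modEq_card_fixedPoints (G ⧸ S)
  have h4 : (MulAction.fixedPoints (Subgroup.zpowers x) (G ⧸ S)) = MulAction.fixedBy (G ⧸ S) x := by
    ext q
    constructor
    · intro h
      exact h ⟨x, Subgroup.mem_zpowers x⟩
    · intro h z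
      have h5 : Subgroup.zpowers x ≤ MulAction.stabilizer G q := by
        rw [Subgroup.zpowers_le]
        exact h
      exact h5 z.2
  rw [h4] at h3
  exact h3.symm

end Cfsg.Agent.Lib.Helper7.Brauer4
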