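import Mathlib
import Cfsg.Prelude.Def_Characters
import Cfsg.Agent.Lib.Helper7.All1
import Cfsg.Agent.Lib.Helper7.CharKer
import Cfsg.Agent.Lib.Helper7.Brauer4

set_option autoImplicit false
set_option linter.style.haveILetI false
set_option linter.unusedSectionVars false
set_option linter.unusedVariables false
set_option linter.unusedSimpArgs false

namespace Cfsg.Agent.Lib.Helper7.Brauer5

open Module Representation Cfsg
open Cfsg.Agent.Lib.Helper7.CharBasic Cfsg.Agent.Lib.Helper7.CharIrr Cfsg.Agent.Lib.Helper7.CharDecomp Cfsg.Agent.Lib.Helper7.CharComplete Cfsg.Agent.Lib.Helper7.CharOrth Cfsg.Agent.Lib.Helper7.CharInd Cfsg.Agent.Lib.Helper7.CharIntegral Cfsg.Agent.Lib.Helper7.CharBurnside Cfsg.Agent.Lib.Helper7.CharLinear Cfsg.Agent.Lib.Helper7.CharEquiv Cfsg.Agent.Lib.Helper7.CharMore Cfsg.Agent.Lib.Helper7.CharCount Cfsg.Agent.Lib.Helper7.CharMisc Cfsg.Agent.Lib.Helper7.CharMisc2 Cfsg.Agent.Lib.Helper7.CharNormal Cfsg.Agent.Lib.Helper7.CharOdd Cfsg.Agent.Lib.Helper7.CharClifford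 Cfsg.Agent.Lib.Helper7.CharProd Cfsg.Agent.Lib.Helper7.CharPerm Cfsg.Agent.Lib.Helper7.CharClassAlg Cfsg.Agent.Lib.Helper7.CharClassAlg2 Cfsg.Agent.Lib.Helper7.CharCentral Cfsg.Agent.Lib.Helper7.CharNormal2 Cfsg.Agent.Lib.Helper7.CharCliffordCorr Cfsg.Agent.Lib.Helper7.CharKer Cfsg.Agent.Lib.Helper7.Brauer4
open scoped ComplexConjugate

variable {G : Type*} [Group G]

/-- `H` is a `p`-quasi-elementary subgroup. -/
def IsQE (p : ℕ) (H : Subgroup G) : Prop :=
  ∃ C : Subgroup G, C ≤ H ∧ H ≤ Subgroup.normalizer (C : Set G) ∧ IsCyclic C ∧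
    Nat.Coprime (Nat.card C) p ∧ ∃ k : ℕ, C.relIndex H = p ^ k

theorem mem_normalizer_of_conj_le [Finite G] (C : Subgroup G) (y : G)
    (h : ∀ c ∈ C, y⁻¹ * c * y ∈ C) : y ∈ Subgroup.normalizer (C : Set G) := by
  rw [Subgroup.mem_normalizer_iff'']
  intro c
  refine ⟨h c, fun hc => ?_⟩
  let φ : C → C := fun c => ⟨y⁻¹ * c * y, h c c.2⟩
  have hinj : Function.Injective φ := by
    intro a b hab
    have := congrArg Subtype.val hab
    simp only [φ] at this
    apply Subtype.ext
    simpa using this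
  obtain ⟨d, hd⟩ := (Finite.injective_iff_surjective.mp hinj) ⟨_, hc⟩
  have := congrArg Subtype.val hd
  simp only [φ] at this
  have h2 : (d : G) = c := by simpa using this
  rw [← h2]
  exact d.2

theorem exists_qe [Fintype G] (x : G) (p : ℕ) (hp : p.Prime) :
    ∃ H : Subgroup G, IsQE p H ∧ ∃ n : ℕ, indFun H (fun _ => (1 : ℂ)) x = (n : ℂ) ∧ ¬ p ∣ n := by
  classical
  haveI : Fact p.Prime := ⟨hp⟩
  obtain ⟨a, m, hm, hom⟩ := Nat.exists_eq_pow_mul_and_not_dvd (orderOf_pos x).ne' p hp.ne_one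
  have hoc : orderOf (x ^ p ^ a) = m := by
    rw [orderOf_pow_of_dvd (pow_ne_zero _ hp.ne_zero) (hom ▸ Dvd.intro _ rfl), hom,
      Nat.mul_div_cancel_left _ (pow_pos hp.pos _)]
  have hxN : x ∈ Subgroup.normalizer ((Subgroup.zpowers (x ^ p ^ a) : Subgroup G) : Set G) := by
    apply Subgroup.centralizer_le_normalizer
    rw [Subgroup.mem_centralizer_iff]
    intro h hh
    obtain ⟨k, rfl⟩ := Subgroup.mem_zpowers_iff.mp hh
    exact (((Commute.refl x).pow_left (p ^ a)).zpow_left k).eq
  obtain ⟨C, hC⟩ : ∃ C : Subgroup G, C = Subgroup.zpowers (x ^ p ^ a) := ⟨_, rfl⟩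
  rw [← hC] at hxN
  have hCcyc : IsCyclic C := by rw [hC]; infer_instance
  have hCcard : Nat.card C = m := by rw [hC, Nat.card_zpowers, hoc]
  have hcC : x ^ p ^ a ∈ C := by rw [hC]; exact Subgroup.mem_zpowers _
  haveI : Fintype (↥(Subgroup.normalizer (C : Set G)) ⧸
    C.subgroupOf (Subgroup.normalizer (C : Set G))) := Fintype.ofFinite _
  have hxbar : ((⟨x, hxN⟩ : Subgroup.normalizer (C : Set G)) :
      ↥(Subgroup.normalizer (C : Set G)) ⧸ C.subgroupOf (Subgroup.normalizer (C : Set G))) ^ p ^ a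
      = 1 := by
    rw [← QuotientGroup.mk_pow, QuotientGroup.eq_one_iff, Subgroup.mem_subgroupOf]
    exact hcC
  have hP : IsPGroup p (Subgroup.zpowers ((⟨x, hxN⟩ : Subgroup.normalizer (C : Set G)) :
      ↥(Subgroup.normalizer (C : Set G)) ⧸ C.subgroupOf (Subgroup.normalizer (C : Set G)))) := by
    rw [IsPGroup.iff_card]
    have h2 := orderOf_dvd_of_pow_eq_one hxbar
    obtain ⟨k, -, hk⟩ := (Nat.dvd_prime_pow hp).mp h2
    exact ⟨k, by rw [Nat.card_zpowers, hk]⟩
  obtain ⟨S, hS⟩ := hP.exists_le_sylow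
  refine ⟨((S : Subgroup (↥(Subgroup.normalizer (C : Set G)) ⧸
    C.subgroupOf (Subgroup.normalizer (C : Set G)))).comap (QuotientGroup.mk' (C.subgroupOf
          (Subgroup.normalizer (C : Set G))))).map (Subgroup.subtype _), ?_, ?_⟩
  · refine ⟨C, ?_, Subgroup.map_subtype_le _, hCcyc, ?_, ?_⟩
    · intro c hc
      refine ⟨⟨c, Subgroup.le_normalizer hc⟩, ?_, rfl⟩
      rw [SetLike.mem_coe, Subgroup.mem_comap]
      have : (QuotientGroup.mk' (C.subgroupOf (Subgroup.normalizer (C : Set G))))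
          ⟨c, Subgroup.le_normalizer hc⟩ = 1 := by
        rw [QuotientGroup.mk'_apply, QuotientGroup.eq_one_iff, Subgroup.mem_subgroupOf]
        exact hc
      rw [this]
      exact Subgroup.one_mem _
    · rw [hCcard]
      exact (Nat.Coprime.symm ((Nat.Prime.coprime_iff_not_dvd hp).mpr hm))
    · obtain ⟨k, hk⟩ := (IsPGroup.iff_card).mp S.2
      refine ⟨k, ?_⟩
      have h1 : C = (C.subgroupOf (Subgroup.normalizer (C : Set G))).map (Subgroup.subtype _) := by
        rw [Subgroup.subgroupOf_map_subtype, inf_eq_left.mpr Subgroup.le_normalizer]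
      have h2 : C.subgroupOf (Subgroup.normalizer (C : Set G)) =
          (⊥ : Subgroup _).comap (QuotientGroup.mk' (C.subgroupOf (Subgroup.normalizer (C : Set G)))) := by
        rw [MonoidHom.comap_bot, QuotientGroup.ker_mk']
      calc C.relIndex _ = ((C.subgroupOf (Subgroup.normalizer (C : Set G))).map
            (Subgroup.subtype _)).relIndex _ := congrArg (fun D => Subgroup.relIndex D _) h1
        _ = (C.subgroupOf (Subgroup.normalizer (C : Set G))).relIndex _ :=
            Subgroup.relIndex_map_map_of_injective _ _ (Subgroup.subtype_injective _)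
        _ = ((⊥ : Subgroup _).comap (QuotientGroup.mk' (C.subgroupOf
            (Subgroup.normalizer (C : Set G))))).relIndex _ :=
            congrArg (fun D => Subgroup.relIndex D _) h2
        _ = p ^ k := by
            rw [Subgroup.relIndex_comap, Subgroup.map_comap_eq_self_of_surjective
              (QuotientGroup.mk'_surjective _), Subgroup.relIndex_bot_left]
            exact hk
  · have hyp : ∀ y : G, y⁻¹ * ((⟨x, hxN⟩ : Subgroup.normalizer (C : Set G)) : G) * y ∈
        ((S : Subgroup _).comap (QuotientGroup.mk' (C.subgroupOf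
          (Subgroup.normalizer (C : Set G))))).map (Subgroup.subtype _) →
        y ∈ Subgroup.normalizer (C : Set G) := by
      intro y hy
      have hw : y⁻¹ * (x ^ p ^ a) * y ∈
        ((S : Subgroup _).comap (QuotientGroup.mk' (C.subgroupOf
          (Subgroup.normalizer (C : Set G))))).map (Subgroup.subtype _) := by
        have h1 := Subgroup.pow_mem _ hy (p ^ a)
        have h2 : (y⁻¹ * x * y) ^ p ^ a = y⁻¹ * (x ^ p ^ a) * y := by
          have := conj_pow (a := y⁻¹) (b := x) (i := p ^ a)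
          simpa using this
        rw [← h2]
        exact h1
      obtain ⟨z, hz, hzw⟩ := hw
      have hoz : orderOf z = m := by
        have h1 : orderOf (z : G) = orderOf z := Subgroup.orderOf_coe z
        rw [← h1]
        have h2 : (z : G) = y⁻¹ * (x ^ p ^ a) * y := hzw
        rw [h2, ← hoc]
        have := (MulAut.conj y⁻¹).orderOf_eq (x ^ p ^ a)
        simpa [MulAut.conj_apply] using this
      have hz1 : (z : ↥(Subgroup.normalizer (C : Set G)) ⧸
          C.subgroupOf (Subgroup.normalizer (C : Set G))) = 1 := by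
        have hzS : (z : ↥(Subgroup.normalizer (C : Set G)) ⧸
          C.subgroupOf (Subgroup.normalizer (C : Set G))) ∈ (S : Subgroup _) := hz
        obtain ⟨j, hj⟩ := S.2 ⟨_, hzS⟩
        have hj' : (z : ↥(Subgroup.normalizer (C : Set G)) ⧸
          C.subgroupOf (Subgroup.normalizer (C : Set G))) ^ p ^ j = 1 := by
          have := congrArg Subtype.val hj
          simpa using this
        have h3 : (z : ↥(Subgroup.normalizer (C : Set G)) ⧸
          C.subgroupOf (Subgroup.normalizer (C : Set G))) ^ m = 1 := by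
          rw [← QuotientGroup.mk_pow, ← hoz, pow_orderOf_eq_one]
          rfl
        have hcop : Nat.Coprime (p ^ j) m :=
          Nat.Coprime.pow_left _ ((Nat.Prime.coprime_iff_not_dvd hp).mpr hm)
        have := pow_gcd_eq_one.mpr ⟨hj', h3⟩
        rw [hcop, pow_one] at this
        exact this
      have hzC : y⁻¹ * (x ^ p ^ a) * y ∈ C := by
        rw [QuotientGroup.eq_one_iff, Subgroup.mem_subgroupOf] at hz1
        rw [← hzw]
        exact hz1
      apply mem_normalizer_of_conj_le
      intro c hc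
      rw [hC] at hc
      obtain ⟨k, rfl⟩ := Subgroup.mem_zpowers_iff.mp hc
      have h4 : y⁻¹ * (x ^ p ^ a) ^ k * y = (y⁻¹ * (x ^ p ^ a) * y) ^ k := by
        have := conj_zpow (a := y⁻¹) (b := x ^ p ^ a) (i := k)
        simpa using this.symm
      rw [h4]
      exact Subgroup.zpow_mem _ hzC k
    have h1 := indFun_one_comap (Subgroup.normalizer (C : Set G))
      (C.subgroupOf (Subgroup.normalizer (C : Set G))) (S : Subgroup _) ⟨x, hxN⟩ hyp
    obtain ⟨n, hn, hnS⟩ := indFun_one_pElement p (S : Subgroup _) _ hxbar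
    refine ⟨n, ?_, ?_⟩
    · rw [← hn, ← h1]
    · intro hd
      exact S.not_dvd_index ((hnS.dvd_iff (dvd_refl p)).mp hd)

end Cfsg.Agent.Lib.Helper7.Brauer5
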