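import Mathlib
import Cfsg.Prelude.Def_Characters
import Cfsg.Agent.Lib.Helper7.All1

set_option autoImplicit false
set_option linter.style.haveILetI false
set_option linter.unusedSectionVars false
set_option linter.unusedVariables false
set_option linter.unusedSimpArgs false

namespace Cfsg.Agent.Lib.Helper7.Brauer6

open Module Representation Cfsg
open Cfsg.Agent.Lib.Helper7.CharBasic Cfsg.Agent.Lib.Helper7.CharIrr Cfsg.Agent.Lib.Helper7.CharDecomp Cfsg.Agent.Lib.Helper7.CharComplete Cfsg.Agent.Lib.Helper7.CharOrth Cfsg.Agent.Lib.Helper7.CharInd Cfsg.Agent.Lib.Helper7.CharIntegral Cfsg.Agent.Lib.Helper7.CharBurnside Cfsg.Agent.Lib.Helper7.CharLinear Cfsg.Agent.Lib.Helper7.CharEquiv Cfsg.Agent.Lib.Helper7.CharMore Cfsg.Agent.Lib.Helper7.CharCount Cfsg.Agent.Lib.Helper7.CharMisc Cfsg.Agent.Lib.Helper7.CharMisc2 Cfsg.Agent.Lib.Helper7.CharNormal Cfsg.Agent.Lib.Helper7.CharOdd Cfsg.Agent.Lib.Helper7.CharClifford Cfsg.Agent.Lib.Helper7.CharProd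 Cfsg.Agent.Lib.Helper7.CharPerm Cfsg.Agent.Lib.Helper7.CharClassAlg Cfsg.Agent.Lib.Helper7.CharClassAlg2 Cfsg.Agent.Lib.Helper7.CharCentral Cfsg.Agent.Lib.Helper7.CharNormal2 Cfsg.Agent.Lib.Helper7.CharCliffordCorr
open scoped ComplexConjugate

variable {G : Type*} [Group G]

theorem invariant_linear_trivial [Finite G] (p : ℕ) [Fact p.Prime] (C P : Subgroup G)
    [hC : C.Normal] (hP : IsPGroup p P) (hcop : Nat.Coprime (Nat.card C) p)
    (lam : C → ℂ) (hlam : IsCharacter C lam ∧ lam 1 = 1)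
    (hinv : ∀ (g : G) (c : C), lam ⟨g * c * g⁻¹, hC.conj_mem (c : G) c.2 g⟩ = lam c)
    (hker : ∀ c : C, (c : G) ∈ Subgroup.centralizer (P : Set G) → lam c = 1) :
    lam = fun _ => 1 := by
  classical
  obtain ⟨l, hl⟩ := exists_hom_of_irr_of_one hlam.1 hlam.2
  have hl' : ∀ c : C, lam c = ((l c : ℂˣ) : ℂ) := fun c => congrFun hl c
  funext c₀
  let X := {c : C // lam c = lam c₀}
  let act : MulAction P X :=
    { smul := fun u c => ⟨⟨u * c.1 * (u : G)⁻¹, hC.conj_mem _ c.1.2 u⟩, by rw [hinv]; exact c.2⟩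
      one_smul := by
        intro c
        apply Subtype.ext; apply Subtype.ext
        show ((1 : P) : G) * (c.1 : G) * ((1 : P) : G)⁻¹ = (c.1 : G)
        simp
      mul_smul := by
        intro u v c
        apply Subtype.ext; apply Subtype.ext
        show ((u * v : P) : G) * (c.1 : G) * ((u * v : P) : G)⁻¹ =
          (u : G) * ((v : G) * (c.1 : G) * (v : G)⁻¹) * (u : G)⁻¹
        simp [mul_assoc] }
  have hcard : Nat.card X = Nat.card l.ker := by
    apply Nat.card_congr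
    refine ⟨fun c => ⟨c₀⁻¹ * c.1, ?_⟩, fun k => ⟨c₀ * k.1, ?_⟩, ?_, ?_⟩
    · rw [MonoidHom.mem_ker, map_mul, map_inv]
      have h1 : lam c.1 = lam c₀ := c.2
      have h2 : l c.1 = l c₀ := Units.ext ((hl' _).symm.trans (h1.trans (hl' _)))
      rw [h2, inv_mul_cancel]
    · rw [hl', hl', map_mul, MonoidHom.mem_ker.mp k.2, mul_one]
    · intro c; apply Subtype.ext; simp
    · intro k; apply Subtype.ext; simp
  have hnd : ¬ p ∣ Nat.card X := by
    rw [hcard]
    intro hd
    have h1 := hd.trans (Subgroup.card_subgroup_dvd_card l.ker)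
    have h2 := Nat.Coprime.eq_one_of_dvd hcop.symm h1
    exact (Fact.out : p.Prime).one_lt.ne' h2
  obtain ⟨c, hc⟩ := hP.nonempty_fixed_point_of_prime_not_dvd_card X hnd
  rw [← c.2]
  apply hker
  rw [Subgroup.mem_centralizer_iff]
  intro u hu
  have h1 := hc ⟨u, hu⟩
  have h2 : u * (c.1 : G) * u⁻¹ = (c.1 : G) := congrArg (fun z : X => ((z.1 : C) : G)) h1
  calc u * (c.1 : G) = (u * (c.1 : G) * u⁻¹) * u := by group
    _ = (c.1 : G) * u := by rw [h2]

end Cfsg.Agent.Lib.Helper7.Brauer6
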