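import Mathlib
import Cfsg.Prelude.Def_Characters
import Cfsg.Agent.Lib.Helper7.All1
import Cfsg.Agent.Lib.Helper7.CharKer
import Cfsg.Agent.Lib.Helper7.CharRes
import Cfsg.Agent.Lib.Helper7.CharGen
import Cfsg.Agent.Lib.Helper7.CharGallagher
import Cfsg.Agent.Lib.Helper7.CharZ
import Cfsg.Agent.Lib.Helper7.CharCenter
import Cfsg.Agent.Lib.Helper7.CharExtra
import Cfsg.Agent.Lib.Helper7.Brauer1
import Cfsg.Agent.Lib.Helper7.Brauer2
import Cfsg.Agent.Lib.Helper7.Brauer6

set_option autoImplicit false
set_option linter.style.haveILetI false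
set_option linter.unusedSectionVars false
set_option linter.unusedVariables false
set_option linter.unusedSimpArgs false

namespace Cfsg.Agent.Lib.Helper7.Brauer7

open Module Representation Cfsg
open Cfsg.Agent.Lib.Helper7.CharBasic Cfsg.Agent.Lib.Helper7.CharIrr Cfsg.Agent.Lib.Helper7.CharDecomp Cfsg.Agent.Lib.Helper7.CharComplete Cfsg.Agent.Lib.Helper7.CharOrth Cfsg.Agent.Lib.Helper7.CharInd Cfsg.Agent.Lib.Helper7.CharIntegral Cfsg.Agent.Lib.Helper7.CharBurnside Cfsg.Agent.Lib.Helper7.CharLinear Cfsg.Agent.Lib.Helper7.CharEquiv Cfsg.Agent.Lib.Helper7.CharMore Cfsg.Agent.Lib.Helper7.CharCount Cfsg.Agent.Lib.Helper7.CharMisc Cfsg.Agent.Lib.Helper7.CharMisc2 Cfsg.Agent.Lib.Helper7.CharNormal Cfsg.Agent.Lib.Helper7.CharOdd Cfsg.Agent.Lib.Helper7.CharClifford Cfsg.Agent.Lib.Helper7.CharProd Cfsg.Agent.Lib.Helper7.CharPerm Cfsg.Agent.Lib.Helper7.CharClassAlg Cfsg.Agent.Lib.Helper7.CharClassAlg2 Cfsg.Agent.Lib.Helper7.CharCentral Cfsg.Agent.Lib.Helper7.CharNormal2 Cfsg.Agent.Lib.Helper7.CharCliffordCorr Cfsg.Agent.Lib.Helper7.CharKer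 Cfsg.Agent.Lib.Helper7.CharRes Cfsg.Agent.Lib.Helper7.CharGen Cfsg.Agent.Lib.Helper7.CharGallagher Cfsg.Agent.Lib.Helper7.CharZ Cfsg.Agent.Lib.Helper7.CharCenter Cfsg.Agent.Lib.Helper7.CharExtra Cfsg.Agent.Lib.Helper7.Brauer1 Cfsg.Agent.Lib.Helper7.Brauer2 Cfsg.Agent.Lib.Helper7.Brauer6
open scoped ComplexConjugate

universe u

theorem isElementary_of_equiv {p : ℕ} {E E' : Type*} [Group E] [Group E'] (e : E ≃* E')
    (h : IsElementary p E) : IsElementary p E' := by
  obtain ⟨x, hx, hcop, k, hk⟩ := h
  refine ⟨e x, ?_, ?_, k, ?_⟩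
  · rw [Subgroup.mem_center_iff] at hx ⊢
    intro g
    obtain ⟨g', rfl⟩ := e.surjective g
    rw [← map_mul, ← map_mul, hx]
  · rw [e.orderOf_eq]; exact hcop
  · have h1 : Subgroup.zpowers (e x) = (Subgroup.zpowers x).map (e : E →* E') := by
      rw [MonoidHom.map_zpowers]; rfl
    rw [h1, Subgroup.index_map_equiv, hk]

/-- type-level `p`-quasi-elementary groups -/
def QE (p : ℕ) (G : Type*) [Group G] : Prop :=
  ∃ C : Subgroup G, C.Normal ∧ IsCyclic C ∧ Nat.Coprime (Nat.card C) p ∧ ∃ k : ℕ, C.index = p ^ k

theorem QE.subgroup {p : ℕ} (hp : p.Prime) {G : Type*} [Group G] [Finite G] (h : QE p G)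
    (T : Subgroup G) : QE p T := by
  obtain ⟨C, hC, hcyc, hcop, k, hk⟩ := h
  refine ⟨C.subgroupOf T, inferInstance, ?_, ?_, ?_⟩
  · let f : C.subgroupOf T →* C :=
      { toFun := fun x => ⟨(x : T), Subgroup.mem_subgroupOf.mp x.2⟩
        map_one' := rfl
        map_mul' := fun _ _ => rfl }
    apply isCyclic_of_injective f
    intro a b hab
    have := congrArg (fun z : C => (z : G)) hab
    exact Subtype.ext (Subtype.ext this)
  · have h1 : Nat.card (C.subgroupOf T) ∣ Nat.card C := by
      have : Nat.card (C.subgroupOf T) = Nat.card (C ⊓ T : Subgroup G) := by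
        rw [← Subgroup.subgroupOf_map_subtype]
        exact Nat.card_congr ((C.subgroupOf T).equivMapOfInjective T.subtype
          T.subtype_injective).toEquiv
      rw [this]
      exact Subgroup.card_dvd_of_le inf_le_left
    exact Nat.Coprime.coprime_dvd_left h1 hcop
  · have h1 : (C.subgroupOf T).index ∣ p ^ k := by
      rw [← hk]
      exact Subgroup.relIndex_dvd_index_of_normal C T
    obtain ⟨j, -, hj⟩ := (Nat.dvd_prime_pow hp).mp h1
    exact ⟨j, hj⟩

theorem comm_of_isCyclic {G : Type*} [Group G] (C : Subgroup G) [IsCyclic C] {a b : G}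
    (ha : a ∈ C) (hb : b ∈ C) : a * b = b * a := by
  obtain ⟨g, hg⟩ := IsCyclic.exists_generator (α := C)
  obtain ⟨i, hi⟩ := Subgroup.mem_zpowers_iff.mp (hg ⟨a, ha⟩)
  obtain ⟨j, hj⟩ := Subgroup.mem_zpowers_iff.mp (hg ⟨b, hb⟩)
  have h1 : (⟨a, ha⟩ : C) * ⟨b, hb⟩ = ⟨b, hb⟩ * ⟨a, ha⟩ := by
    rw [← hi, ← hj, ← zpow_add, ← zpow_add, add_comm]
  exact congrArg Subtype.val h1

theorem isElementary_of_central {p : ℕ} {G : Type*} [Group G] (C : Subgroup G) [IsCyclic C]
    (hcen : C ≤ Subgroup.center G) (hcop : Nat.Coprime (Nat.card C) p) {k : ℕ}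
    (hk : C.index = p ^ k) : IsElementary p G := by
  obtain ⟨g, hg⟩ := IsCyclic.exists_generator (α := C)
  have h1 : Subgroup.zpowers (g : G) = C := by
    ext y
    constructor
    · intro hy
      obtain ⟨i, rfl⟩ := Subgroup.mem_zpowers_iff.mp hy
      exact Subgroup.zpow_mem _ g.2 i
    · intro hy
      obtain ⟨i, hi⟩ := Subgroup.mem_zpowers_iff.mp (hg ⟨y, hy⟩)
      rw [Subgroup.mem_zpowers_iff]
      exact ⟨i, by simpa using congrArg Subtype.val hi⟩
  refine ⟨g, hcen g.2, ?_, k, ?_⟩
  · rw [← Nat.card_zpowers, h1]; exact hcop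
  · rw [h1, hk]

theorem sup_sylow_eq_top {p : ℕ} [Fact p.Prime] {G : Type*} [Group G] [Finite G] (C : Subgroup G)
    {k : ℕ} (hk : C.index = p ^ k) (P : Sylow p G) : C ⊔ (P : Subgroup G) = ⊤ := by
  rw [← Subgroup.index_eq_one]
  have h1 : (C ⊔ (P : Subgroup G)).index ∣ p ^ k := hk ▸ Subgroup.index_dvd_of_le le_sup_left
  have h2 : (C ⊔ (P : Subgroup G)).index ∣ (P : Subgroup G).index :=
    Subgroup.index_dvd_of_le le_sup_right
  obtain ⟨j, -, hj⟩ := (Nat.dvd_prime_pow Fact.out).mp h1
  rcases Nat.eq_zero_or_pos j with h0 | h0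
  · rw [hj, h0, pow_zero]
  · exfalso
    apply P.not_dvd_index
    exact (dvd_pow_self p h0.ne').trans (hj ▸ h2)

/-- nonlinear irreducible characters of quasi-elementary groups are imprimitive -/
theorem QE.induced {p : ℕ} [Fact p.Prime] {G : Type*} [Group G] [Fintype G] (h : QE p G)
    {χ : G → ℂ} (hχ : IsIrrCharacter G χ) (h1 : χ 1 ≠ 1) :
    ∃ T : Subgroup G, T ≠ ⊤ ∧ ∃ ψ : T → ℂ, IsIrrCharacter T ψ ∧ indFun T ψ = χ := by
  obtain ⟨C, hC, hcyc, hcop, k, hk⟩ := h
  obtain ⟨m, ρ, hirr, rfl⟩ := hχ
  haveI := hirr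
  by_cases hCZ : C ≤ repCenter ρ
  · have hne := repCenter_ne_top ρ h1
    haveI : Nontrivial (G ⧸ repCenter ρ) := by
      rw [QuotientGroup.nontrivial_iff]
      exact hne
    have hpg : IsPGroup p (G ⧸ repCenter ρ) := by
      rw [IsPGroup.iff_card]
      have h2 : (repCenter ρ).index ∣ p ^ k := hk ▸ Subgroup.index_dvd_of_le hCZ
      obtain ⟨j, -, hj⟩ := (Nat.dvd_prime_pow Fact.out).mp h2
      exact ⟨j, hj⟩
    have hc := hpg.bot_lt_center.ne'
    obtain ⟨q, hq, hq1⟩ := (Subgroup.bot_or_exists_ne_one _).resolve_left hc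
    exact induced_of_center_quot ρ ⟨q, hq, hq1⟩
  · obtain ⟨x, hxC, hx⟩ := SetLike.not_le_iff_exists.mp hCZ
    apply induced_of_normal_comm ρ C ?_ hxC hx
    intro u hu v hv
    rw [← map_mul, ← map_mul, comm_of_isCyclic C hu hv]

theorem one_mem_of_QE_aux (p : ℕ) [Fact p.Prime] (n : ℕ) : ∀ (G : Type u) [Group G] [Fintype G],
    Nat.card G = n → QE p G →
    (fun _ : G => (1 : ℂ)) ∈ IndSpan G (fun E => IsElementary p E) := by
  classical
  have hp : p.Prime := Fact.out
  induction n using Nat.strong_induction_on with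
  | _ n ih =>
    intro G _ _ hn hQE
    -- characters induced from proper subgroups lie in the span
    have hprop : ∀ (T : Subgroup G), T ≠ ⊤ → ∀ ψ : T → ℂ, IsCharacter T ψ →
        indFun T ψ ∈ IndSpan G (fun E => IsElementary p E) := by
      intro T hT ψ hψ
      haveI : Fintype T := Fintype.ofFinite _
      have hlt : Nat.card T < n := by
        rw [← hn]
        rcases (Subgroup.card_le_card_group T).lt_or_eq with h3 | h3
        · exact h3
        · exact absurd ((Subgroup.card_eq_iff_eq_top T).mp h3) hT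
      have h1 := ih (Nat.card T) hlt T rfl (hQE.subgroup hp T)
      have h2 := IndSpan.of_one_mem h1 (isGen_of_isCharacter hψ)
      apply IndSpan.ind T ?_ h2
      intro S hS
      exact isElementary_of_equiv (S.equivMapOfInjective T.subtype T.subtype_injective) hS
    obtain ⟨C, hC, hcyc, hcop, k, hk⟩ := id hQE
    by_cases hcen : C ≤ Subgroup.center G
    · have hE := isElementary_of_central C hcen hcop hk
      have h1 : IsElementary p (⊤ : Subgroup G) := isElementary_of_equiv Subgroup.topEquiv.symm hE
      have h2 := IndSpan.mem_of (𝓗 := fun E : Subgroup G => IsElementary p E) h1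
        (isCharacter_restrict ⊤ (isCharacter_one (G := G)))
      rwa [indFun_top (IsCharacter.isClassFunction isCharacter_one)] at h2
    · obtain ⟨P⟩ : Nonempty (Sylow p G) := inferInstance
      have htop := sup_sylow_eq_top C hk P
      have hPn : Subgroup.normalizer ((P : Subgroup G) : Set G) ≠ ⊤ := by
        intro hnt
        apply hcen
        have hPnorm : (P : Subgroup G).Normal := Subgroup.normalizer_eq_top_iff.mp hnt
        obtain ⟨j, hj⟩ := (IsPGroup.iff_card).mp P.2
        have hdis : Disjoint C (P : Subgroup G) := by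
          apply Subgroup.disjoint_of_coprime_natCard
          rw [hj]
          exact Nat.Coprime.pow_right _ hcop
        intro c hc
        have hle : C ⊔ (P : Subgroup G) ≤ Subgroup.centralizer {c} := by
          apply sup_le
          · intro d hd
            rw [Subgroup.mem_centralizer_singleton_iff]
            exact comm_of_isCyclic C hd hc
          · intro d hd
            rw [Subgroup.mem_centralizer_singleton_iff]
            exact (Subgroup.commute_of_normal_of_disjoint C P hC hPnorm hdis c d hc hd).eq.symm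
        rw [htop] at hle
        rw [Subgroup.mem_center_iff]
        intro g
        have := hle (Subgroup.mem_top g)
        rw [Subgroup.mem_centralizer_singleton_iff] at this
        exact this
      haveI : Fintype (IrrCharacter G) := Fintype.ofFinite _
      haveI : Fintype (Subgroup.normalizer ((P : Subgroup G) : Set G)) := Fintype.ofFinite _
      have hπ : IsCharacter G (indFun (Subgroup.normalizer ((P : Subgroup G) : Set G))
          (fun _ => (1 : ℂ))) := isCharacter_indFun _ _ isCharacter_one
      obtain ⟨m, hm, hsum⟩ := exists_mult hπ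
      let χ₀ : IrrCharacter G := ⟨fun _ => 1, isIrrCharacter_one⟩
      have hm0 : m χ₀ = 1 := by
        have h1 := hm χ₀
        rw [frobenius_reciprocity _ _ _ (IsIrrCharacter.isClassFunction χ₀.2)] at h1
        have h2 : classInner (fun _ : Subgroup.normalizer ((P : Subgroup G) : Set G) => (1 : ℂ))
            (fun h => (χ₀ : G → ℂ) h) = 1 :=
          (isIrrCharacter_iff_norm_one.mp isIrrCharacter_one).2
        rw [h2] at h1
        exact_mod_cast h1.symm
      have hrest : ∀ χ : IrrCharacter G, χ ≠ χ₀ →
          (m χ : ℂ) • (χ : G → ℂ) ∈ IndSpan G (fun E => IsElementary p E) := by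
        intro χ hχ
        by_cases hmχ : m χ = 0
        · rw [hmχ]; simp only [Nat.cast_zero, zero_smul]; exact AddSubgroup.zero_mem _
        · have hnl : (χ : G → ℂ) 1 ≠ 1 := by
            intro hlin
            apply hχ
            apply Subtype.ext
            show (χ : G → ℂ) = fun _ => 1
            obtain ⟨l, hl⟩ := exists_hom_of_irr_of_one (IsIrrCharacter.isCharacter χ.2) hlin
            -- χ is trivial on the normalizer
            have hc : classInner (fun _ : Subgroup.normalizer ((P : Subgroup G) : Set G) => (1 : ℂ))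
                (fun h => (χ : G → ℂ) h) ≠ 0 := by
              rw [← frobenius_reciprocity _ _ _ (IsIrrCharacter.isClassFunction χ.2), hm χ]
              exact_mod_cast hmχ
            have hirrN : IsIrrCharacter (Subgroup.normalizer ((P : Subgroup G) : Set G))
                (fun h => (χ : G → ℂ) h) := by
              rw [hl]
              exact isIrrCharacter_of_hom (l.comp (Subgroup.subtype _))
            have hN1 : (fun _ : Subgroup.normalizer ((P : Subgroup G) : Set G) => (1 : ℂ)) =
                (fun h : Subgroup.normalizer ((P : Subgroup G) : Set G) => (χ : G → ℂ) h) := by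
              by_contra hne
              rw [classInner_irr isIrrCharacter_one hirrN, if_neg hne] at hc
              exact hc rfl
            have hNker : ∀ g ∈ Subgroup.normalizer ((P : Subgroup G) : Set G),
                (χ : G → ℂ) g = 1 := fun g hg => (congrFun hN1 ⟨g, hg⟩).symm
            have hCker := invariant_linear_trivial p C P P.2 hcop (fun c : C => (χ : G → ℂ) c)
              ⟨isCharacter_restrict C (IsIrrCharacter.isCharacter χ.2), hlin⟩
              (fun g c => IsIrrCharacter.isClassFunction χ.2 c g)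
              (fun c hc => hNker c (Subgroup.centralizer_le_normalizer _ hc))
            have hle : C ⊔ (P : Subgroup G) ≤ l.ker := by
              apply sup_le
              · intro c hc
                rw [MonoidHom.mem_ker]
                apply Units.ext
                have := congrFun hCker ⟨c, hc⟩
                rw [hl] at this
                exact this
              · intro c hc
                rw [MonoidHom.mem_ker]
                apply Units.ext
                have := hNker c (Subgroup.le_normalizer hc)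
                rw [hl] at this
                exact this
            rw [htop] at hle
            rw [hl]
            funext g
            have := hle (Subgroup.mem_top g)
            rw [MonoidHom.mem_ker] at this
            simp [this]
          obtain ⟨T, hT, ψ, hψ, hind⟩ := hQE.induced χ.2 hnl
          have h3 := hprop T hT ψ (IsIrrCharacter.isCharacter hψ)
          rw [hind] at h3
          have := IndSpan.zsmul_mem h3 (m χ : ℤ)
          simpa using this
      have hπmem := hprop _ hPn (fun _ => (1 : ℂ)) isCharacter_one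
      have hfinal : (fun _ : G => (1 : ℂ)) =
          indFun (Subgroup.normalizer ((P : Subgroup G) : Set G)) (fun _ => (1 : ℂ)) -
          ∑ χ ∈ Finset.univ.erase χ₀, (m χ : ℂ) • (χ : G → ℂ) := by
        rw [eq_sub_iff_add_eq]
        conv_rhs => rw [hsum]
        rw [← Finset.add_sum_erase _ _ (Finset.mem_univ χ₀), hm0]
        simp [χ₀]
      rw [hfinal]
      apply AddSubgroup.sub_mem _ hπmem
      apply AddSubgroup.sum_mem
      intro χ hχ
      exact hrest χ (Finset.ne_of_mem_erase hχ)

theorem one_mem_of_QE (p : ℕ) [Fact p.Prime] {G : Type u} [Group G] [Fintype G] (h : QE p G) :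
    (fun _ : G => (1 : ℂ)) ∈ IndSpan G (fun E => IsElementary p E) :=
  one_mem_of_QE_aux p _ G rfl h

end Cfsg.Agent.Lib.Helper7.Brauer7
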