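import Mathlib
import Cfsg.Prelude.Def_Characters
import Cfsg.Agent.Lib.Helper7.All1
import Cfsg.Agent.Lib.Helper7.CharKer
import Cfsg.Agent.Lib.Helper7.CharRes
import Cfsg.Agent.Lib.Helper7.CharGen
import Cfsg.Agent.Lib.Helper7.CharGallagher
import Cfsg.Agent.Lib.Helper7.CharZ
import Cfsg.Agent.Lib.Helper7.CharCenter
import Cfsg.Agent.Lib.Helper7.CharExtra
import Cfsg.Agent.Lib.Helper7.Brauer1
import Cfsg.Agent.Lib.Helper7.Brauer2
import Cfsg.Agent.Lib.Helper7.Brauer3
import Cfsg.Agent.Lib.Helper7.Brauer4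
import Cfsg.Agent.Lib.Helper7.Brauer5
import Cfsg.Agent.Lib.Helper7.Brauer6
import Cfsg.Agent.Lib.Helper7.Brauer7

set_option autoImplicit false
set_option linter.style.haveILetI false
set_option linter.unusedSectionVars false
set_option linter.unusedVariables false
set_option linter.unusedSimpArgs false

namespace Cfsg.Agent.Lib.Helper7.Brauer8

open Module Representation Cfsg
open Cfsg.Agent.Lib.Helper7.CharBasic Cfsg.Agent.Lib.Helper7.CharIrr Cfsg.Agent.Lib.Helper7.CharDecomp Cfsg.Agent.Lib.Helper7.CharComplete Cfsg.Agent.Lib.Helper7.CharOrth Cfsg.Agent.Lib.Helper7.CharInd Cfsg.Agent.Lib.Helper7.CharIntegral Cfsg.Agent.Lib.Helper7.CharBurnside Cfsg.Agent.Lib.Helper7.CharLinear Cfsg.Agent.Lib.Helper7.CharEquiv Cfsg.Agent.Lib.Helper7.CharMore Cfsg.Agent.Lib.Helper7.CharCount Cfsg.Agent.Lib.Helper7.CharMisc Cfsg.Agent.Lib.Helper7.CharMisc2 Cfsg.Agent.Lib.Helper7.CharNormal Cfsg.Agent.Lib.Helper7.CharOdd Cfsg.Agent.Lib.Helper7.CharClifford Cfsg.Agent.Lib.Helper7.CharProd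 Cfsg.Agent.Lib.Helper7.CharPerm Cfsg.Agent.Lib.Helper7.CharClassAlg Cfsg.Agent.Lib.Helper7.CharClassAlg2 Cfsg.Agent.Lib.Helper7.CharCentral Cfsg.Agent.Lib.Helper7.CharNormal2 Cfsg.Agent.Lib.Helper7.CharCliffordCorr Cfsg.Agent.Lib.Helper7.CharKer Cfsg.Agent.Lib.Helper7.CharRes Cfsg.Agent.Lib.Helper7.CharGen Cfsg.Agent.Lib.Helper7.CharGallagher Cfsg.Agent.Lib.Helper7.CharZ Cfsg.Agent.Lib.Helper7.CharCenter Cfsg.Agent.Lib.Helper7.CharExtra Cfsg.Agent.Lib.Helper7.Brauer1 Cfsg.Agent.Lib.Helper7.Brauer2 Cfsg.Agent.Lib.Helper7.Brauer3 Cfsg.Agent.Lib.Helper7.Brauer4 Cfsg.Agent.Lib.Helper7.Brauer5 Cfsg.Agent.Lib.Helper7.Brauer6 Cfsg.Agent.Lib.Helper7.Brauer7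
open scoped ComplexConjugate

universe u

variable {G : Type u} [Group G]

theorem QE_of_isQE {p : ℕ} {H : Subgroup G} (h : IsQE p H) : QE p H := by
  obtain ⟨C, hCH, hHN, hcyc, hcop, k, hk⟩ := h
  refine ⟨C.subgroupOf H, (Subgroup.normal_subgroupOf_iff_le_normalizer hCH).mpr hHN, ?_, ?_, k, hk⟩
  · exact isCyclic_of_injective (Subgroup.subgroupOfEquivOfLe hCH).toMonoidHom
      (Subgroup.subgroupOfEquivOfLe hCH).injective
  · rw [Nat.card_congr (Subgroup.subgroupOfEquivOfLe hCH).toEquiv]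
    exact hcop

theorem indSpan_QE_le [Fintype G] (p : ℕ) [Fact p.Prime] :
    IndSpan G (fun H => IsQE p H) ≤ IndSpan G (fun E => IsElementary p E) := by
  unfold IndSpan
  rw [AddSubgroup.closure_le]
  rintro f ⟨H, φ, hH, hφ, rfl⟩
  haveI : Fintype H := Fintype.ofFinite _
  have h1 := one_mem_of_QE p (QE_of_isQE hH)
  have h2 := IndSpan.of_one_mem h1 (isGen_of_isCharacter hφ)
  apply IndSpan.ind H ?_ h2
  intro S hS
  exact isElementary_of_equiv (S.equivMapOfInjective H.subtype H.subtype_injective) hS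

/-- Brauer's induction theorem, local form. -/
theorem brauer_local [Fintype G] (p : ℕ) [Fact p.Prime] :
    ∃ m : ℤ, ¬ (p : ℤ) ∣ m ∧ (fun _ : G => (m : ℂ)) ∈ IndSpan G (fun E => IsElementary p E) := by
  obtain ⟨m, hm, hmem⟩ := banaschewski (IndSpan G (fun H => IsQE p H))
    (fun f hf g hg => IndSpan.mul_mem hf hg) p Fact.out (by
      intro x
      obtain ⟨H, hH, n, hn, hpn⟩ := exists_qe x p Fact.out
      refine ⟨_, IndSpan.mem_of hH isCharacter_one, n, by rw [hn]; simp, ?_⟩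
      intro hd
      exact hpn (by exact_mod_cast hd))
  exact ⟨m, hm, indSpan_QE_le p hmem⟩

theorem one_mem_of_forall_prime (I : AddSubgroup ℤ)
    (h : ∀ p : ℕ, p.Prime → ∃ m ∈ I, ¬ (p : ℤ) ∣ m) : (1 : ℤ) ∈ I := by
  have key : ∀ a : ℕ, 0 < a → (a : ℤ) ∈ I → (1 : ℤ) ∈ I := by
    intro a
    induction a using Nat.strong_induction_on with
    | _ a ih =>
      intro ha haI
      by_cases h1 : a = 1
      · rw [h1] at haI; exact_mod_cast haI
      · obtain ⟨p, hp, hpa⟩ := Nat.exists_prime_and_dvd h1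
        obtain ⟨m, hm, hpm⟩ := h p hp
        have hr : m % (a : ℤ) ∈ I := by
          rw [Int.emod_def]
          apply AddSubgroup.sub_mem _ hm
          have : (a : ℤ) * (m / a) = (m / a) • (a : ℤ) := by rw [smul_eq_mul, mul_comm]
          rw [this]
          exact AddSubgroup.zsmul_mem _ haI _
        have ha' : (0 : ℤ) < a := by exact_mod_cast ha
        have hr0 : 0 ≤ m % (a : ℤ) := Int.emod_nonneg _ ha'.ne'
        have hr1 : m % (a : ℤ) < a := Int.emod_lt_of_pos _ ha'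
        have hr2 : m % (a : ℤ) ≠ 0 := by
          intro h0
          apply hpm
          have h3 : (a : ℤ) ∣ m := Int.dvd_of_emod_eq_zero h0
          exact (by exact_mod_cast hpa : (p : ℤ) ∣ (a : ℤ)).trans h3
        obtain ⟨r, hr'⟩ := Int.eq_ofNat_of_zero_le hr0
        rw [hr'] at hr hr1 hr2
        exact ih r (by exact_mod_cast hr1) (by
          rcases Nat.eq_zero_or_pos r with h0 | h0
          · rw [h0] at hr2; exact absurd rfl hr2
          · exact h0) hr
  obtain ⟨m, hm, h2⟩ := h 2 Nat.prime_two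
  have hm0 : m ≠ 0 := by
    rintro rfl
    exact h2 (dvd_zero _)
  apply key m.natAbs (Int.natAbs_pos.mpr hm0)
  rcases Int.natAbs_eq m with h3 | h3
  · rw [← h3]; exact hm
  · have : ((m.natAbs : ℕ) : ℤ) = -m := by rw [h3]; simp
    rw [this]
    exact AddSubgroup.neg_mem _ hm

/-- Brauer's induction theorem for the trivial character. -/
theorem brauer_one [Fintype G] :
    (fun _ : G => (1 : ℂ)) ∈ IndSpan G (fun E => ∃ p : ℕ, p.Prime ∧ IsElementary p E) := by
  let φ : ℤ →+ (G → ℂ) :=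
    { toFun := fun m => fun _ => (m : ℂ)
      map_zero' := by funext g; simp
      map_add' := by intro a b; funext g; simp }
  have h1 := one_mem_of_forall_prime
    ((IndSpan G (fun E => ∃ p : ℕ, p.Prime ∧ IsElementary p E)).comap φ) (by
      intro p hp
      haveI : Fact p.Prime := ⟨hp⟩
      obtain ⟨m, hm, hmem⟩ := brauer_local (G := G) p
      exact ⟨m, IndSpan.mono (fun E hE => ⟨p, hp, hE⟩) hmem, hm⟩)
  have h2 : φ 1 ∈ IndSpan G (fun E => ∃ p : ℕ, p.Prime ∧ IsElementary p E) := h1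
  have h3 : φ 1 = fun _ : G => (1 : ℂ) := by funext g; simp [φ]
  rwa [h3] at h2

/-- Brauer's characterization of characters. -/
theorem brauer_characterization [Fintype G] {θ : G → ℂ} (hθ : IsClassFunction G θ)
    (hE : ∀ (E : Subgroup G) (p : ℕ), p.Prime → IsElementary p E →
      IsGeneralizedCharacter E (fun e : E => θ e)) : IsGeneralizedCharacter G θ := by
  have key : ∀ f ∈ IndSpan G (fun E => ∃ p : ℕ, p.Prime ∧ IsElementary p E),
      IsGeneralizedCharacter G (f * θ) := by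
    intro f hf
    induction hf using AddSubgroup.closure_induction with
    | mem f hf =>
      obtain ⟨H, φ, ⟨p, hp, hH⟩, hφ, rfl⟩ := hf
      rw [← indFun_mul_restrict H φ hθ]
      exact isGen_indFun H (isGen_mul (isGen_of_isCharacter hφ) (hE H p hp hH))
    | zero => rw [zero_mul]; exact isGen_zero
    | add f g _ _ h1 h2 => rw [add_mul]; exact isGen_add h1 h2
    | neg f _ h1 => rw [neg_mul]; exact isGen_neg h1
  have := key _ brauer_one
  have h2 : (fun _ : G => (1 : ℂ)) * θ = θ := by funext g; simp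
  rwa [h2] at this

theorem neg_list_sum [Fintype G] (l : List ((E : Subgroup G) × ((E → ℂ) × ℤ))) :
    -(l.map fun t => (t.2.2 : ℂ) • indFun t.1 t.2.1).sum =
      ((l.map (fun t => (⟨t.1, (t.2.1, -t.2.2)⟩ : (E : Subgroup G) × ((E → ℂ) × ℤ)))).map
        fun t => (t.2.2 : ℂ) • indFun t.1 t.2.1).sum := by
  induction l with
  | nil => simp
  | cons a l ih =>
    simp only [List.map_cons, List.sum_cons, neg_add_rev]
    rw [ih, add_comm]
    congr 1
    simp

/-- list presentation of the elements of `IndSpan` -/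
theorem IndSpan.exists_list [Fintype G] {𝓗 : Subgroup G → Prop} {f : G → ℂ}
    (hf : f ∈ IndSpan G 𝓗) :
    ∃ l : List ((E : Subgroup G) × ((E → ℂ) × ℤ)), (∀ t ∈ l, 𝓗 t.1 ∧ IsCharacter t.1 t.2.1) ∧
      f = (l.map fun t => (t.2.2 : ℂ) • indFun t.1 t.2.1).sum := by
  induction hf using AddSubgroup.closure_induction with
  | mem f hf =>
    obtain ⟨H, φ, hH, hφ, rfl⟩ := hf
    refine ⟨[⟨H, (φ, 1)⟩], ?_, by simp⟩
    intro t ht
    rw [List.mem_singleton] at ht
    subst ht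
    exact ⟨hH, hφ⟩
  | zero => exact ⟨[], by simp, by simp⟩
  | add f g _ _ h1 h2 =>
    obtain ⟨l1, h1a, rfl⟩ := h1
    obtain ⟨l2, h2a, rfl⟩ := h2
    refine ⟨l1 ++ l2, ?_, by simp⟩
    intro t ht
    rcases List.mem_append.mp ht with h | h
    · exact h1a t h
    · exact h2a t h
  | neg f _ h1 =>
    obtain ⟨l1, h1a, rfl⟩ := h1
    refine ⟨l1.map (fun t => ⟨t.1, (t.2.1, -t.2.2)⟩), ?_, ?_⟩
    · intro t ht
      obtain ⟨s, hs, rfl⟩ := List.mem_map.mp ht
      exact h1a s hs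
    · exact neg_list_sum l1

end Cfsg.Agent.Lib.Helper7.Brauer8
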