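import Mathlib
import Cfsg.Prelude.Def_Characters
import Cfsg.Agent.Lib.Helper7.All1
import Cfsg.Agent.Lib.Helper7.CharKer
import Cfsg.Agent.Lib.Helper7.CharRes
import Cfsg.Agent.Lib.Helper7.CharGen
import Cfsg.Agent.Lib.Helper7.CharZ
import Cfsg.Agent.Lib.Helper7.Brauer2
import Cfsg.Agent.Lib.Helper7.Brauer8
import Cfsg.Agent.Lib.Helper7.Brauer10

set_option autoImplicit false
set_option linter.style.haveILetI false
set_option linter.unusedSectionVars false
set_option linter.unusedVariables false
set_option linter.unusedSimpArgs false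

namespace Cfsg.Agent.Lib.Helper7.Brauer11

open Module Representation Cfsg
open Cfsg.Agent.Lib.Helper7.CharBasic Cfsg.Agent.Lib.Helper7.CharIrr Cfsg.Agent.Lib.Helper7.CharDecomp Cfsg.Agent.Lib.Helper7.CharComplete Cfsg.Agent.Lib.Helper7.CharOrth Cfsg.Agent.Lib.Helper7.CharInd Cfsg.Agent.Lib.Helper7.CharIntegral Cfsg.Agent.Lib.Helper7.CharBurnside Cfsg.Agent.Lib.Helper7.CharLinear Cfsg.Agent.Lib.Helper7.CharEquiv Cfsg.Agent.Lib.Helper7.CharMore Cfsg.Agent.Lib.Helper7.CharCount Cfsg.Agent.Lib.Helper7.CharMisc Cfsg.Agent.Lib.Helper7.CharMisc2 Cfsg.Agent.Lib.Helper7.CharNormal Cfsg.Agent.Lib.Helper7.CharOdd Cfsg.Agent.Lib.Helper7.CharClifford Cfsg.Agent.Lib.Helper7.CharProd Cfsg.Agent.Lib.Helper7.CharPerm Cfsg.Agent.Lib.Helper7.CharClassAlg Cfsg.Agent.Lib.Helper7.CharClassAlg2 Cfsg.Agent.Lib.Helper7.CharCentral Cfsg.Agent.Lib.Helper7.CharNormal2 Cfsg.Agent.Lib.Helper7.CharCliffordCorr Cfsg.Agent.Lib.Helper7.CharKer Cfsg.Agent.Lib.Helper7.CharRes Cfsg.Agent.Lib.Helper7.CharGen Cfsg.Agent.Lib.Helper7.CharZ Cfsg.Agent.Lib.Helper7.Brauer2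 Cfsg.Agent.Lib.Helper7.Brauer8 Cfsg.Agent.Lib.Helper7.Brauer10
open scoped ComplexConjugate

universe u

variable {G : Type u} [Group G]

/-- the restriction of `χ` to the `p`-regular elements -/
noncomputable def pReg (p : ℕ) (χ : G → ℂ) : G → ℂ := fun g => if p ∣ orderOf g then 0 else χ g

theorem isClassFunction_pReg (p : ℕ) {χ : G → ℂ} (hχ : IsClassFunction G χ) :
    IsClassFunction G (pReg p χ) := by
  intro g h
  have h1 : orderOf (h * g * h⁻¹) = orderOf g := by
    have := (MulAut.conj h).orderOf_eq g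
    simpa [MulAut.conj_apply] using this
  simp only [pReg, h1, hχ g h]

theorem classInner_pReg_restrict (p : ℕ) (χ : G → ℂ) (E : Subgroup G) [Fintype E]
    (D : Subgroup E) [Fintype D] (h1 : ∀ y : E, ¬ p ∣ orderOf y ↔ y ∈ D) (ψ : E → ℂ) :
    classInner (fun e : E => pReg p χ e) ψ =
      (Nat.card E : ℂ)⁻¹ * ∑ y : D, χ ((y : E) : G) * conj (ψ y) := by
  unfold classInner
  congr 1
  rw [← sum_extendByZero D (fun y : D => χ ((y : E) : G) * conj (ψ y))]
  apply Finset.sum_congr rfl
  intro e _
  by_cases he : e ∈ D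
  · rw [extendByZero_of_mem D _ he]
    have h2 := (h1 e).mpr he
    rw [← Subgroup.orderOf_coe] at h2
    simp only [pReg, if_neg h2]
  · rw [extendByZero_of_not_mem D _ he]
    have h2 : p ∣ orderOf (e : G) := by
      rw [Subgroup.orderOf_coe]
      by_contra h3
      exact he ((h1 e).mp h3)
    simp only [pReg, if_pos h2, zero_mul]

theorem exists_nat_inner (χ : G → ℂ) (hχ : IsCharacter G χ) (E : Subgroup G)
    (D : Subgroup E) [Fintype D] {ψ : E → ℂ} (hψ : IsCharacter E ψ) :
    ∃ n : ℕ, ∑ y : D, χ ((y : E) : G) * conj (ψ y) = (Nat.card D : ℂ) * n := by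
  obtain ⟨n, hn⟩ := classInner_isCharacter_nat
    (isCharacter_restrict D (isCharacter_restrict E hχ)) (isCharacter_restrict D hψ)
  refine ⟨n, ?_⟩
  rw [← hn]
  unfold classInner
  have : (Nat.card D : ℂ) ≠ 0 := by exact_mod_cast Nat.card_pos.ne'
  field_simp

/-- `|G|_p χ` restricted to the `p`-regular elements is a generalized character. -/
theorem isGen_pow_smul_pReg [Fintype G] (p : ℕ) (hp : p.Prime) {χ : G → ℂ} (hχ : IsCharacter G χ) :
    IsGeneralizedCharacter G
      (((p ^ (Nat.card G).factorization p : ℕ) : ℂ) • pReg p χ) := by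
  apply brauer_characterization
  · exact isClassFunction_smul _ (isClassFunction_pReg p (IsCharacter.isClassFunction hχ))
  · intro E q hq hE
    haveI : Fintype E := Fintype.ofFinite _
    obtain ⟨D, b, h1, h2, -⟩ := exists_pRegular_subgroup hq hE p hp
    haveI : Fintype D := Fintype.ofFinite _
    apply isGen_of_int
    · intro e h
      exact isClassFunction_smul _ (isClassFunction_pReg p (IsCharacter.isClassFunction hχ)) e h
    · intro ψ hψ
      have h3 : (fun e : E => (((p ^ (Nat.card G).factorization p : ℕ) : ℂ) • pReg p χ) e) =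
          ((p ^ (Nat.card G).factorization p : ℕ) : ℂ) • (fun e : E => pReg p χ e) := rfl
      rw [h3, classInner_smul_left, classInner_pReg_restrict p χ E D h1 ψ]
      obtain ⟨n, hn⟩ := exists_nat_inner χ hχ E D (IsIrrCharacter.isCharacter hψ)
      rw [hn, h2]
      have hb : p ^ b ∣ p ^ (Nat.card G).factorization p := by
        have h4 : p ^ b ∣ Nat.card G :=
          (Dvd.intro _ h2.symm).trans (Subgroup.card_subgroup_dvd_card E)
        exact pow_dvd_pow p ((hp.pow_dvd_iff_le_factorization Nat.card_pos.ne').mp h4)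
      obtain ⟨c, hc⟩ := hb
      refine ⟨(c * n : ℕ), ?_⟩
      rw [hc]
      have hD : (Nat.card D : ℂ) ≠ 0 := by exact_mod_cast Nat.card_pos.ne'
      have hpb : ((p : ℂ) ^ b) ≠ 0 := pow_ne_zero _ (by exact_mod_cast hp.ne_zero)
      push_cast
      field_simp

theorem card_centralizer_dvd [Finite G] (E : Subgroup G) (y : E) :
    Nat.card (Subgroup.centralizer ({y} : Set E)) ∣
      Nat.card (Subgroup.centralizer ({(y : G)} : Set G)) := by
  have h1 : (Subgroup.centralizer ({y} : Set E)).map E.subtype ≤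
      Subgroup.centralizer ({(y : G)} : Set G) := by
    rintro _ ⟨z, hz, rfl⟩
    rw [SetLike.mem_coe, Subgroup.mem_centralizer_singleton_iff] at hz
    rw [Subgroup.mem_centralizer_singleton_iff]
    exact congrArg Subtype.val hz
  have h2 := Subgroup.card_dvd_of_le h1
  rwa [Nat.card_congr ((Subgroup.centralizer ({y} : Set E)).equivMapOfInjective E.subtype
    E.subtype_injective).symm.toEquiv] at h2

/-- characters of `p`-defect zero: the restriction to `p`-regular elements is a generalized
character. -/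
theorem isGen_pReg_of_defect_zero [Fintype G] (p : ℕ) (hp : p.Prime) {m : ℕ}
    (ρ : Representation ℂ G (Fin m → ℂ)) [ρ.IsIrreducible]
    (hcop : Nat.Coprime (Nat.card G / m) p) :
    IsGeneralizedCharacter G (pReg p ρ.character) := by
  have hχ : IsCharacter G ρ.character := isCharacter_of_rep ρ
  have hm : finrank ℂ (Fin m → ℂ) = m := by simp
  have hmdvd : m ∣ Nat.card G := by
    have := finrank_dvd_card ρ
    rwa [hm] at this
  have hmpos : 0 < m := by
    have := finrank_pos_of_irr ρ
    rwa [hm] at this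
  apply brauer_characterization
  · exact isClassFunction_pReg p (IsCharacter.isClassFunction hχ)
  · intro E q hq hE
    haveI : Fintype E := Fintype.ofFinite _
    obtain ⟨D, b, h1, h2, h3⟩ := exists_pRegular_subgroup hq hE p hp
    haveI : Fintype D := Fintype.ofFinite _
    apply isGen_of_int
    · intro e h
      exact isClassFunction_pReg p (IsCharacter.isClassFunction hχ) e h
    · intro ψ hψ
      rw [classInner_pReg_restrict p ρ.character E D h1 ψ]
      obtain ⟨n, hn⟩ := exists_nat_inner ρ.character hχ E D (IsIrrCharacter.isCharacter hψ)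
      have hD : (Nat.card D : ℂ) ≠ 0 := by exact_mod_cast Nat.card_pos.ne'
      have hpb : ((p : ℂ) ^ b) ≠ 0 := pow_ne_zero _ (by exact_mod_cast hp.ne_zero)
      have hmC : (m : ℂ) ≠ 0 := by exact_mod_cast hmpos.ne'
      -- integrality
      have hint : IsIntegral ℤ (((Nat.card G / m * Nat.card D * n : ℕ) : ℂ) / ((p ^ b : ℕ) : ℂ)) := by
        have e1 : (((Nat.card G / m * Nat.card D * n : ℕ) : ℂ) / ((p ^ b : ℕ) : ℂ)) =
            ∑ y : D, (((Nat.card (Subgroup.centralizer ({((y : E) : G)} : Set G)) / p ^ b : ℕ) : ℂ) *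
              (((Subgroup.centralizer ({((y : E) : G)} : Set G)).index : ℂ) *
                ρ.character ((y : E) : G) / (finrank ℂ (Fin m → ℂ) : ℂ))) * conj (ψ y) := by
          have e2 : ∀ y : D,
              (((Nat.card (Subgroup.centralizer ({((y : E) : G)} : Set G)) / p ^ b : ℕ) : ℂ) *
              (((Subgroup.centralizer ({((y : E) : G)} : Set G)).index : ℂ) *
                ρ.character ((y : E) : G) / (finrank ℂ (Fin m → ℂ) : ℂ))) * conj (ψ y) =
              ((Nat.card G : ℂ) / (m : ℂ) / (p : ℂ) ^ b) *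
                (ρ.character ((y : E) : G) * conj (ψ y)) := by
            intro y
            have hd : p ^ b ∣ Nat.card (Subgroup.centralizer ({((y : E) : G)} : Set G)) :=
              (h3 y y.2).trans (card_centralizer_dvd E y)
            rw [Nat.cast_div hd (by exact_mod_cast (pow_pos hp.pos b).ne'), hm,
              ← index_mul_card_centralizer ((y : E) : G)]
            push_cast
            field_simp
          simp only [e2]
          rw [← Finset.mul_sum, hn, Nat.cast_mul, Nat.cast_mul,
            Nat.cast_div hmdvd hmC]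
          push_cast
          field_simp
        rw [e1]
        apply IsIntegral.sum
        intro y _
        apply IsIntegral.mul
        · apply IsIntegral.mul
          · exact isIntegral_natCast _
          · exact isIntegral_centralChar ρ _
        · obtain ⟨k, σ, -, rfl⟩ := hψ
          rw [← char_inv]
          exact isIntegral_char σ _
      have hdvd := nat_dvd_of_isIntegral_div (pow_pos hp.pos b).ne' hint
      have hpD : Nat.Coprime (p ^ b) (Nat.card D) := by
        apply Nat.Coprime.pow_left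
        rw [Nat.Prime.coprime_iff_not_dvd hp]
        intro hd
        haveI : Fact p.Prime := ⟨hp⟩
        obtain ⟨y, hy⟩ := exists_prime_orderOf_dvd_card' (G := D) p hd
        have h4 := (h1 (y : E)).mpr y.2
        rw [Subgroup.orderOf_coe, hy] at h4
        exact h4 (dvd_refl p)
      have hdvd2 : p ^ b ∣ n := by
        have h5 : Nat.Coprime (p ^ b) (Nat.card G / m * Nat.card D) :=
          Nat.Coprime.mul_right (Nat.Coprime.pow_left _ hcop.symm) hpD
        exact h5.dvd_of_dvd_mul_left hdvd
      obtain ⟨c, hc⟩ := hdvd2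
      refine ⟨(c : ℕ), ?_⟩
      rw [hn, h2, hc]
      push_cast
      field_simp

/-- An irreducible character of `p`-defect zero vanishes on the `p`-singular elements. -/
theorem defect_zero_vanish [Fintype G] (p : ℕ) (hp : p.Prime) {χ : G → ℂ}
    (hχ : IsIrrCharacter G χ) {d : ℕ} (hd : χ 1 = d) (hcop : Nat.Coprime (Nat.card G / d) p)
    (x : G) (hx : p ∣ orderOf x) : χ x = 0 := by
  classical
  obtain ⟨m, ρ, hirr, rfl⟩ := id hχ
  haveI := hirr
  have hmd : m = d := by
    rw [Representation.char_one] at hd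
    simp only [finrank_fintype_fun_eq_card, Fintype.card_fin] at hd
    exact_mod_cast hd
  subst hmd
  have hgen := isGen_pReg_of_defect_zero p hp ρ hcop
  obtain ⟨k, hk⟩ := classInner_gen_int hgen (IsIrrCharacter.isCharacter hχ)
  have hnorm := (isIrrCharacter_iff_norm_one.mp hχ).2
  -- both inner products as real sums
  have e1 : classInner (pReg p ρ.character) ρ.character =
      (((Nat.card G : ℝ)⁻¹ * ∑ g : G, (if p ∣ orderOf g then 0 else ‖ρ.character g‖ ^ 2) : ℝ) : ℂ) := by
    unfold classInner
    push_cast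
    congr 1
    apply Finset.sum_congr rfl
    intro g _
    by_cases hg : p ∣ orderOf g
    · simp [pReg, hg]
    · simp only [pReg, if_neg hg]
      rw [Complex.mul_conj, Complex.normSq_eq_norm_sq]
  have e2 := classInner_self_eq ρ.character
  rw [hnorm] at e2
  rw [hk] at e1
  have hGpos : (0 : ℝ) < Nat.card G := by exact_mod_cast Nat.card_pos
  have e1' : (k : ℝ) = (Nat.card G : ℝ)⁻¹ *
      ∑ g : G, (if p ∣ orderOf g then 0 else ‖ρ.character g‖ ^ 2) := by exact_mod_cast e1
  have e2' : (1 : ℝ) = (Nat.card G : ℝ)⁻¹ * ∑ g : G, ‖ρ.character g‖ ^ 2 := by exact_mod_cast e2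
  have hle : ∑ g : G, (if p ∣ orderOf g then 0 else ‖ρ.character g‖ ^ 2) ≤
      ∑ g : G, ‖ρ.character g‖ ^ 2 := by
    apply Finset.sum_le_sum
    intro g _
    split_ifs
    · positivity
    · exact le_rfl
  have hpos : 0 < ∑ g : G, (if p ∣ orderOf g then 0 else ‖ρ.character g‖ ^ 2) := by
    apply Finset.sum_pos'
    · intro g _
      split_ifs <;> positivity
    · refine ⟨1, Finset.mem_univ _, ?_⟩
      rw [if_neg (by rw [orderOf_one]; exact hp.one_lt.ne' ∘ Nat.dvd_one.mp)]
      have := irr_one_ne_zero hχ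
      positivity
  have hk1 : (0 : ℝ) < k := by rw [e1']; positivity
  have hk2 : (k : ℝ) ≤ 1 := by
    rw [e1', e2']
    exact mul_le_mul_of_nonneg_left hle (by positivity)
  have hk3 : k = 1 := by
    have h1 : 0 < k := by exact_mod_cast hk1
    have h2 : k ≤ 1 := by exact_mod_cast hk2
    omega
  rw [hk3] at e1'
  have heq : ∑ g : G, (if p ∣ orderOf g then 0 else ‖ρ.character g‖ ^ 2) =
      ∑ g : G, ‖ρ.character g‖ ^ 2 := by
    have h3 : (Nat.card G : ℝ)⁻¹ * ∑ g : G, (if p ∣ orderOf g then 0 else ‖ρ.character g‖ ^ 2) =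
        (Nat.card G : ℝ)⁻¹ * ∑ g : G, ‖ρ.character g‖ ^ 2 := by
      rw [← e1', ← e2']; simp
    exact mul_left_cancel₀ (by positivity) h3
  have hall := (Finset.sum_eq_sum_iff_of_le (fun g _ => by
    split_ifs
    · positivity
    · exact le_rfl)).mp heq x (Finset.mem_univ _)
  rw [if_pos hx] at hall
  have : ‖ρ.character x‖ = 0 := by
    have h4 : ‖ρ.character x‖ ^ 2 = 0 := hall.symm
    exact pow_eq_zero_iff (two_ne_zero) |>.mp h4
  exact norm_eq_zero.mp this

end Cfsg.Agent.Lib.Helper7.Brauer11
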