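import Mathlib
import Cfsg.Prelude.Def_Characters
import Cfsg.Agent.Lib.Helper7.All1
import Cfsg.Agent.Lib.Helper7.CharKer
import Cfsg.Agent.Lib.Helper7.CharRes
import Cfsg.Agent.Lib.Helper7.CharGen
import Cfsg.Agent.Lib.Helper7.CharZ
import Cfsg.Agent.Lib.Helper7.Brauer2
import Cfsg.Agent.Lib.Helper7.Brauer8
import Cfsg.Agent.Lib.Helper7.Brauer10
import Cfsg.Agent.Lib.Helper7.Brauer11

set_option autoImplicit false
set_option linter.style.haveILetI false
set_option linter.unusedSectionVars false
set_option linter.unusedVariables false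
set_option linter.unusedSimpArgs false

namespace Cfsg.Agent.Lib.Helper7.Brauer12

open Module Representation Cfsg
open Cfsg.Agent.Lib.Helper7.CharBasic Cfsg.Agent.Lib.Helper7.CharIrr Cfsg.Agent.Lib.Helper7.CharDecomp Cfsg.Agent.Lib.Helper7.CharComplete Cfsg.Agent.Lib.Helper7.CharOrth Cfsg.Agent.Lib.Helper7.CharInd Cfsg.Agent.Lib.Helper7.CharIntegral Cfsg.Agent.Lib.Helper7.CharBurnside Cfsg.Agent.Lib.Helper7.CharLinear Cfsg.Agent.Lib.Helper7.CharEquiv Cfsg.Agent.Lib.Helper7.CharMore Cfsg.Agent.Lib.Helper7.CharCount Cfsg.Agent.Lib.Helper7.CharMisc Cfsg.Agent.Lib.Helper7.CharMisc2 Cfsg.Agent.Lib.Helper7.CharNormal Cfsg.Agent.Lib.Helper7.CharOdd Cfsg.Agent.Lib.Helper7.CharClifford Cfsg.Agent.Lib.Helper7.CharProd Cfsg.Agent.Lib.Helper7.CharPerm Cfsg.Agent.Lib.Helper7.CharClassAlg Cfsg.Agent.Lib.Helper7.CharClassAlg2 Cfsg.Agent.Lib.Helper7.CharCentral Cfsg.Agent.Lib.Helper7.CharNormal2 Cfsg.Agent.Lib.Helper7.CharCliffordCorr Cfsg.Agent.Lib.Helper7.CharKer Cfsg.Agent.Lib.Helper7.CharRes Cfsg.Agent.Lib.Helper7.CharGen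 Cfsg.Agent.Lib.Helper7.CharZ Cfsg.Agent.Lib.Helper7.Brauer2 Cfsg.Agent.Lib.Helper7.Brauer8 Cfsg.Agent.Lib.Helper7.Brauer10 Cfsg.Agent.Lib.Helper7.Brauer11
open scoped ComplexConjugate

universe u

variable {G : Type u} [Group G]

/-- `p^(a-b) χ` restricted to the `p`-regular elements is a generalized character. -/
theorem isGen_pow_sub_smul_pReg [Fintype G] (p : ℕ) (hp : p.Prime) {m : ℕ}
    (ρ : Representation ℂ G (Fin m → ℂ)) [ρ.IsIrreducible] :
    IsGeneralizedCharacter G
      (((p ^ ((Nat.card G).factorization p - m.factorization p) : ℕ) : ℂ) •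
        pReg p ρ.character) := by
  have hχ : IsCharacter G ρ.character := isCharacter_of_rep ρ
  have hm : finrank ℂ (Fin m → ℂ) = m := by simp
  have hmdvd : m ∣ Nat.card G := by
    have := finrank_dvd_card ρ
    rwa [hm] at this
  have hmpos : 0 < m := by
    have := finrank_pos_of_irr ρ
    rwa [hm] at this
  obtain ⟨t, ht⟩ : ∃ t, t = (Nat.card G).factorization p - m.factorization p := ⟨_, rfl⟩
  rw [← ht]
  have hq0 : Nat.card G / m ≠ 0 :=
    (Nat.div_pos (Nat.le_of_dvd Nat.card_pos hmdvd) hmpos).ne'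
  have hfac : (Nat.card G / m).factorization p = t := by
    rw [Nat.factorization_div hmdvd, ht]
    rfl
  obtain ⟨r, hr⟩ : ∃ r, r = ordCompl[p] (Nat.card G / m) := ⟨_, rfl⟩
  have hr1 : p ^ t * r = Nat.card G / m := by
    rw [hr, ← hfac]
    exact Nat.ordProj_mul_ordCompl_eq_self _ _
  have hr2 : Nat.Coprime p r := by
    rw [hr]; exact Nat.coprime_ordCompl hp hq0
  apply brauer_characterization
  · exact isClassFunction_smul _ (isClassFunction_pReg p (IsCharacter.isClassFunction hχ))
  · intro E q hq hE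
    haveI : Fintype E := Fintype.ofFinite _
    obtain ⟨D, b, h1, h2, h3⟩ := exists_pRegular_subgroup hq hE p hp
    haveI : Fintype D := Fintype.ofFinite _
    apply isGen_of_int
    · intro e h
      exact isClassFunction_smul _ (isClassFunction_pReg p (IsCharacter.isClassFunction hχ)) e h
    · intro ψ hψ
      have h3' : (fun e : E => (((p ^ t : ℕ) : ℂ) • pReg p ρ.character) e) =
          ((p ^ t : ℕ) : ℂ) • (fun e : E => pReg p ρ.character e) := rfl
      rw [h3', classInner_smul_left, classInner_pReg_restrict p ρ.character E D h1 ψ]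
      obtain ⟨n, hn⟩ := exists_nat_inner ρ.character hχ E D (IsIrrCharacter.isCharacter hψ)
      have hD : (Nat.card D : ℂ) ≠ 0 := by exact_mod_cast Nat.card_pos.ne'
      have hpb : ((p : ℂ) ^ b) ≠ 0 := pow_ne_zero _ (by exact_mod_cast hp.ne_zero)
      have hmC : (m : ℂ) ≠ 0 := by exact_mod_cast hmpos.ne'
      -- integrality
      have hint : IsIntegral ℤ (((Nat.card G / m * Nat.card D * n : ℕ) : ℂ) / ((p ^ b : ℕ) : ℂ)) := by
        have e1 : (((Nat.card G / m * Nat.card D * n : ℕ) : ℂ) / ((p ^ b : ℕ) : ℂ)) =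
            ∑ y : D, (((Nat.card (Subgroup.centralizer ({((y : E) : G)} : Set G)) / p ^ b : ℕ) : ℂ) *
              (((Subgroup.centralizer ({((y : E) : G)} : Set G)).index : ℂ) *
                ρ.character ((y : E) : G) / (finrank ℂ (Fin m → ℂ) : ℂ))) * conj (ψ y) := by
          have e2 : ∀ y : D,
              (((Nat.card (Subgroup.centralizer ({((y : E) : G)} : Set G)) / p ^ b : ℕ) : ℂ) *
              (((Subgroup.centralizer ({((y : E) : G)} : Set G)).index : ℂ) *
                ρ.character ((y : E) : G) / (finrank ℂ (Fin m → ℂ) : ℂ))) * conj (ψ y) =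
              ((Nat.card G : ℂ) / (m : ℂ) / (p : ℂ) ^ b) *
                (ρ.character ((y : E) : G) * conj (ψ y)) := by
            intro y
            have hd : p ^ b ∣ Nat.card (Subgroup.centralizer ({((y : E) : G)} : Set G)) :=
              (h3 y y.2).trans (card_centralizer_dvd E y)
            rw [Nat.cast_div hd (by exact_mod_cast (pow_pos hp.pos b).ne'), hm,
              ← index_mul_card_centralizer ((y : E) : G)]
            push_cast
            field_simp
          simp only [e2]
          rw [← Finset.mul_sum, hn, Nat.cast_mul, Nat.cast_mul,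
            Nat.cast_div hmdvd hmC]
          push_cast
          field_simp
        rw [e1]
        apply IsIntegral.sum
        intro y _
        apply IsIntegral.mul
        · apply IsIntegral.mul
          · exact isIntegral_natCast _
          · exact isIntegral_centralChar ρ _
        · obtain ⟨k, σ, -, rfl⟩ := hψ
          rw [← char_inv]
          exact isIntegral_char σ _
      have hdvd := nat_dvd_of_isIntegral_div (pow_pos hp.pos b).ne' hint
      have hpD : Nat.Coprime (p ^ b) (Nat.card D) := by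
        apply Nat.Coprime.pow_left
        rw [Nat.Prime.coprime_iff_not_dvd hp]
        intro hd
        haveI : Fact p.Prime := ⟨hp⟩
        obtain ⟨y, hy⟩ := exists_prime_orderOf_dvd_card' (G := D) p hd
        have h4 := (h1 (y : E)).mpr y.2
        rw [Subgroup.orderOf_coe, hy] at h4
        exact h4 (dvd_refl p)
      have hdvd2 : p ^ b ∣ p ^ t * n := by
        have h5 : Nat.Coprime (p ^ b) (r * Nat.card D) :=
          Nat.Coprime.mul_right (Nat.Coprime.pow_left _ hr2) hpD
        apply h5.dvd_of_dvd_mul_left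
        have : r * Nat.card D * (p ^ t * n) = Nat.card G / m * Nat.card D * n := by
          rw [← hr1]; ring
        rw [this]
        exact hdvd
      obtain ⟨c, hc⟩ := hdvd2
      refine ⟨(c : ℕ), ?_⟩
      rw [hn, h2]
      have hc' : ((p : ℂ) ^ t) * n = (p : ℂ) ^ b * c := by exact_mod_cast hc
      push_cast
      field_simp
      linear_combination hc'

/-- a generalized character vanishing on the `p`-singular elements has degree divisible by the
full power of `p`. -/
theorem dvd_degree_of_vanish [Finite G] (p : ℕ) [hp : Fact p.Prime] {φ : G → ℂ}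
    (hφ : IsGeneralizedCharacter G φ) (h0 : ∀ g : G, p ∣ orderOf g → φ g = 0) :
    ∃ k : ℤ, φ 1 = ((p ^ (Nat.card G).factorization p : ℕ) : ℂ) * k := by
  classical
  obtain ⟨P⟩ : Nonempty (Sylow p G) := inferInstance
  haveI := Fintype.ofFinite (P : Subgroup G)
  obtain ⟨k, hk⟩ := classInner_gen_int (isGen_restrict (P : Subgroup G) hφ)
    (IsIrrCharacter.isCharacter (isIrrCharacter_one (G := (P : Subgroup G))))
  refine ⟨k, ?_⟩
  unfold classInner at hk
  simp only [map_one, mul_one] at hk
  rw [Finset.sum_eq_single (1 : (P : Subgroup G))] at hk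
  · rw [P.card_eq_multiplicity] at hk
    have h1 : ((p ^ (Nat.card G).factorization p : ℕ) : ℂ) ≠ 0 := by
      exact_mod_cast (pow_pos hp.out.pos _).ne'
    rw [← hk]
    field_simp
    rfl
  · intro b _ hb
    apply h0
    obtain ⟨j, hj⟩ := IsPGroup.iff_orderOf.mp P.isPGroup' b
    rw [Subgroup.orderOf_coe, hj]
    apply dvd_pow_self
    rintro rfl
    rw [pow_zero, orderOf_eq_one_iff] at hj
    exact hb hj
  · intro hh; exact absurd (Finset.mem_univ _) hh

end Cfsg.Agent.Lib.Helper7.Brauer12
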