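import Mathlib
import Cfsg.Prelude.Def_Blocks
import Cfsg.Agent.Lib.Helper2.BlockReg3
import Cfsg.Agent.Lib.Helper2.BlockLam
import Cfsg.Agent.Lib.Helper7.Brauer11
import Cfsg.Agent.Lib.Helper7.Brauer12
import Cfsg.Agent.Lib.Helper7.BPair2

set_option autoImplicit false
set_option linter.unusedSectionVars false
set_option linter.unusedVariables false
set_option linter.style.haveILetI false

/-! A block contains at most `p ^ (2 a)` characters. -/

namespace Cfsg.Agent.Lib.Helper7.BCount1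

open Cfsg Cfsg.Agent.Lib.Helper7.CharIrr Cfsg.Agent.Lib.Helper7.CharOrth
  Cfsg.Agent.Lib.Helper7.CharIntegral Cfsg.Agent.Lib.Helper7.CharMore
  Cfsg.Agent.Lib.Helper7.CharClassAlg Cfsg.Agent.Lib.Helper7.CharComplete
  Cfsg.Agent.Lib.Helper7.CharDeg Cfsg.Agent.Lib.Helper7.CharGalois
  Cfsg.Agent.Lib.Helper7.CharClassAlg2 Cfsg.Agent.Lib.Helper7.CharInd
  Cfsg.Agent.Lib.Helper7.CharBasic Cfsg.Agent.Lib.Helper7.CharGen Cfsg.Agent.Lib.Helper7.CharRes
  Cfsg.Agent.Lib.Helper7.Brauer11 Cfsg.Agent.Lib.Helper7.Brauer12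
  Cfsg.Agent.Lib.Helper2.LocRing Cfsg.Agent.Lib.Helper2.BlockLam
  Cfsg.Agent.Lib.Helper2.BlockZ Cfsg.Agent.Lib.Helper2.BlockDef Cfsg.Agent.Lib.Helper2.BlockCong
  Cfsg.Agent.Lib.Helper2.BlockHt Cfsg.Agent.Lib.Helper2.BlockReg Cfsg.Agent.Lib.Helper2.BlockBr2
  Cfsg.Agent.Lib.Helper2.BlockSub Cfsg.Agent.Lib.Helper2.BlockReg2 Cfsg.Agent.Lib.Helper2.BlockReg3
open scoped ComplexConjugate

variable {G : Type*} [Group G] [Fintype G]

/-- relation between `W ψ (creg p χ)` and the inner product of `pReg p χ` with `ψ` -/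
theorem conj_classInner_pReg (p : ℕ) (χ ψ : G → ℂ) (h1 : ψ 1 ≠ 0) :
    conj (classInner (pReg p χ) ψ) = (Nat.card G : ℂ)⁻¹ * (ψ 1 * W ψ (creg p χ)) := by
  unfold classInner W
  rw [map_mul, map_inv₀, Complex.conj_natCast, map_sum, mul_div_cancel₀ _ h1]
  congr 1
  apply Finset.sum_congr rfl
  intro g _
  rw [map_mul, Complex.conj_conj]
  unfold pReg creg
  split_ifs <;> simp

theorem classInner_pReg_ne_zero {M : Ideal AlgInt} {p : ℕ} [Fact p.Prime] (hM : IsPModular p M)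
    {B : Set (IrrCharacter G)} (hB : IsPBlock M B) {χ ψ : IrrCharacter G} (hχ : χ ∈ B)
    (hψ : ψ ∈ B) (h0 : blockHeight p B (χ : G → ℂ) = 0) :
    classInner (pReg p (χ : G → ℂ)) (ψ : G → ℂ) ≠ 0 := by
  haveI := hM.2.1.isPrime
  have hBe : B = blockOf M (χ : G → ℂ) :=
    block_eq_of_mem hB ⟨χ, rfl⟩ hχ (sameBlock_refl (M := M) _)
  rw [hBe] at h0
  have hF := W_creg_notMem_of_height_zero hM χ h0
  have hχc := IsIrrCharacter.isClassFunction χ.2
  have h1 := W_sub_mem_Iloc (sameBlock_of_mem hB hχ hψ) (creg_isClass p hχc) (creg_mem_Rloc p χ.2)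
  have h2 : W (ψ : G → ℂ) (creg p (χ : G → ℂ)) ∉ Iloc M := notMem_of_sub_mem h1 hF
  intro h3
  have h4 := conj_classInner_pReg p (χ : G → ℂ) (ψ : G → ℂ) (irr_one_ne_zero ψ.2)
  rw [h3, map_zero] at h4
  have h5 : (Nat.card G : ℂ)⁻¹ ≠ 0 := inv_ne_zero (Nat.cast_ne_zero.mpr Nat.card_pos.ne')
  have h6 := (mul_eq_zero.mp h4.symm).resolve_left h5
  have h7 := (mul_eq_zero.mp h6).resolve_left (irr_one_ne_zero ψ.2)
  apply h2
  rw [h7]
  exact (Iloc M).zero_mem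

theorem classInner_pReg_self_le (p : ℕ) {χ : G → ℂ} (hχ : IsIrrCharacter G χ) :
    ∃ r : ℝ, classInner (pReg p χ) (pReg p χ) = (r : ℂ) ∧ r ≤ 1 := by
  classical
  refine ⟨_, classInner_self_eq _, ?_⟩
  have h1 := classInner_self_eq χ
  rw [classInner_irr hχ hχ, if_pos rfl] at h1
  have h2 : (Nat.card G : ℝ)⁻¹ * ∑ g : G, ‖χ g‖ ^ 2 = 1 := by exact_mod_cast h1.symm
  rw [← h2]
  apply mul_le_mul_of_nonneg_left _ (by positivity)
  apply Finset.sum_le_sum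
  intro g _
  unfold pReg
  split_ifs
  · simp
  · exact le_rfl

theorem card_block_le {M : Ideal AlgInt} {p : ℕ} [Fact p.Prime] (hM : IsPModular p M)
    {B : Set (IrrCharacter G)} (hB : IsPBlock M B) {χ : IrrCharacter G} (hχ : χ ∈ B)
    (h0 : blockHeight p B (χ : G → ℂ) = 0) :
    Nat.card B ≤ p ^ (2 * (Nat.card G).factorization p) := by
  classical
  haveI := Fintype.ofFinite (IrrCharacter G)
  obtain ⟨a, ha⟩ : ∃ a, a = (Nat.card G).factorization p := ⟨_, rfl⟩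
  rw [← ha]
  have hgen := isGen_pow_smul_pReg p hM.1 (IsIrrCharacter.isCharacter χ.2)
  rw [← ha] at hgen
  obtain ⟨c, hc, -⟩ := gen_eq_sum hgen
  have hnorm := norm_gen (isGen_isClassFunction hgen) c hc
  obtain ⟨r, hr, hr1⟩ := classInner_pReg_self_le p χ.2
  rw [classInner_smul_left, classInner_smul_right, hr, Complex.conj_natCast] at hnorm
  have hnorm' : ((p ^ a : ℕ) : ℝ) * (((p ^ a : ℕ) : ℝ) * r) =
      ((∑ ψ : IrrCharacter G, c ψ ^ 2 : ℤ) : ℝ) := by exact_mod_cast hnorm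
  have hne : ∀ ψ ∈ B, c ψ ≠ 0 := by
    intro ψ hψ h
    have h1 := hc ψ
    rw [h, classInner_smul_left] at h1
    have h2 := classInner_pReg_ne_zero hM hB hχ hψ h0
    have h3 : ((p ^ a : ℕ) : ℂ) ≠ 0 := Nat.cast_ne_zero.mpr (pow_pos hM.1.pos a).ne'
    simp only [Int.cast_zero] at h1
    exact (mul_ne_zero h3 h2) h1
  have hcard : (Nat.card B : ℤ) ≤ ∑ ψ : IrrCharacter G, c ψ ^ 2 := by
    have e1 : Nat.card B = (Finset.univ.filter (fun ψ : IrrCharacter G => ψ ∈ B)).card := by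
      rw [Nat.card_eq_fintype_card, Fintype.card_subtype]
    rw [e1, Finset.card_eq_sum_ones]
    push_cast
    calc ∑ ψ ∈ Finset.univ.filter (fun ψ : IrrCharacter G => ψ ∈ B), (1 : ℤ)
        ≤ ∑ ψ ∈ Finset.univ.filter (fun ψ : IrrCharacter G => ψ ∈ B), c ψ ^ 2 := by
          apply Finset.sum_le_sum
          intro ψ hψ
          have := hne ψ (Finset.mem_filter.mp hψ).2
          have h2 : 0 < c ψ ^ 2 := by positivity
          omega
      _ ≤ ∑ ψ : IrrCharacter G, c ψ ^ 2 :=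
          Finset.sum_le_sum_of_subset_of_nonneg (Finset.filter_subset _ _)
            (fun ψ _ _ => by positivity)
  have hle : ((∑ ψ : IrrCharacter G, c ψ ^ 2 : ℤ) : ℝ) ≤ ((p ^ (2 * a) : ℕ) : ℝ) := by
    rw [← hnorm']
    have h1 : (0 : ℝ) ≤ ((p ^ a : ℕ) : ℝ) := by positivity
    calc ((p ^ a : ℕ) : ℝ) * (((p ^ a : ℕ) : ℝ) * r)
        ≤ ((p ^ a : ℕ) : ℝ) * (((p ^ a : ℕ) : ℝ) * 1) := by
          apply mul_le_mul_of_nonneg_left _ h1
          exact mul_le_mul_of_nonneg_left hr1 h1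
      _ = ((p ^ (2 * a) : ℕ) : ℝ) := by
          push_cast
          ring
  have hle' : (∑ ψ : IrrCharacter G, c ψ ^ 2 : ℤ) ≤ ((p ^ (2 * a) : ℕ) : ℤ) := by exact_mod_cast hle
  have := hcard.trans hle'
  exact_mod_cast this

end Cfsg.Agent.Lib.Helper7.BCount1
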