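import Mathlib
import Cfsg.Prelude.Def_Blocks
import Cfsg.Agent.Lib.Helper2.BlockReg3
import Cfsg.Agent.Lib.Helper2.BlockSM5
import Cfsg.Agent.Lib.Helper2.BlockLam
import Cfsg.Agent.Lib.Helper7.CharInd

set_option autoImplicit false
set_option linter.unusedSectionVars false
set_option linter.unusedVariables false
set_option linter.style.haveILetI false

/-! Height zero characters have nonzero components on every subsection. -/

namespace Cfsg.Agent.Lib.Helper7.BSub1

open Cfsg Cfsg.Agent.Lib.Helper7.CharIrr Cfsg.Agent.Lib.Helper7.CharOrth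
  Cfsg.Agent.Lib.Helper7.CharIntegral Cfsg.Agent.Lib.Helper7.CharMore
  Cfsg.Agent.Lib.Helper7.CharClassAlg Cfsg.Agent.Lib.Helper7.CharComplete
  Cfsg.Agent.Lib.Helper7.CharDeg Cfsg.Agent.Lib.Helper7.CharGalois
  Cfsg.Agent.Lib.Helper7.CharClassAlg2 Cfsg.Agent.Lib.Helper7.CharInd
  Cfsg.Agent.Lib.Helper7.CharBasic
  Cfsg.Agent.Lib.Helper2.LocRing Cfsg.Agent.Lib.Helper2.BlockLam
  Cfsg.Agent.Lib.Helper2.BlockZ Cfsg.Agent.Lib.Helper2.BlockDef Cfsg.Agent.Lib.Helper2.BlockCong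
  Cfsg.Agent.Lib.Helper2.BlockHt Cfsg.Agent.Lib.Helper2.BlockReg Cfsg.Agent.Lib.Helper2.BlockBr2
  Cfsg.Agent.Lib.Helper2.BlockSub Cfsg.Agent.Lib.Helper2.BlockReg2 Cfsg.Agent.Lib.Helper2.BlockReg3
  Cfsg.Agent.Lib.Helper2.BlockSM5
open scoped ComplexConjugate

variable {G : Type*} [Group G] [Fintype G]

theorem irr_conj_eq_inv {χ : G → ℂ} (hχ : IsIrrCharacter G χ) (g : G) : conj (χ g) = χ g⁻¹ := by
  obtain ⟨n, ρ, _, rfl⟩ := hχ
  rw [char_inv]

theorem subsection_ne_zero {M : Ideal AlgInt} {p : ℕ} [Fact p.Prime] (hM : IsPModular p M)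
    (x : G) (k : ℕ) (hx : x ^ p ^ k = 1) (H : Subgroup G) [Fintype H]
    (hH : ∀ h ∈ H, x * h = h * x)
    (b : Set (IrrCharacter H)) (B : Set (IrrCharacter G))
    (hind : IsInducedBlock M H b B) (χ : IrrCharacter G) (hχ : χ ∈ B)
    (h0 : blockHeight p B (χ : G → ℂ) = 0) :
    ∃ y : H, ¬ p ∣ orderOf y ∧ blockPart b (fun c : H => (χ : G → ℂ) (x * (c : G))) y ≠ 0 := by
  classical
  haveI := hM.2.1.isPrime
  haveI := Fintype.ofFinite (IrrCharacter H)
  by_contra hcon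
  push Not at hcon
  have hχc := IsIrrCharacter.isClassFunction χ.2
  have hBe : B = blockOf M (χ : G → ℂ) :=
    block_eq_of_mem hind.2.1 ⟨χ, rfl⟩ hχ (sameBlock_refl (M := M) _)
  rw [hBe] at h0
  have hF := W_creg_notMem_of_height_zero hM χ h0
  obtain ⟨ξ₀, hξ₀⟩ := block_nonempty hind.1
  have h1 := induced_W hind hξ₀ hχ (creg_isClass p hχc) (creg_mem_Rloc p χ.2)
  rw [creg_restrict] at h1
  have h2 : W (ξ₀ : H → ℂ) (creg p (fun h : H => (χ : G → ℂ) h)) ∉ Iloc M :=
    notMem_of_sub_mem (sub_mem_Iloc_symm h1) hF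
  obtain ⟨m, hm, hsum⟩ := exists_mult (isCharacter_restrict H (IsIrrCharacter.isCharacter χ.2))
  obtain ⟨T, hT⟩ : ∃ T : H → ℂ, T = ∑ ξ ∈ Finset.univ.filter (fun ξ : IrrCharacter H => ξ ∈ b),
    (m ξ : ℂ) • (ξ : H → ℂ) := ⟨_, rfl⟩
  have hTW : W (ξ₀ : H → ℂ) (creg p (fun h : H => (χ : G → ℂ) h)) =
      W (ξ₀ : H → ℂ) (creg p T) := by
    rw [hsum, hT, creg_sum, creg_sum, W_sum, W_sum, Finset.sum_filter]
    apply Finset.sum_congr rfl
    intro ξ _
    by_cases hξ : ξ ∈ b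
    · rw [if_pos hξ]
    · rw [if_neg hξ, W_smul, W_creg_eq_zero hM ξ ξ₀, mul_zero]
      intro hs
      apply hξ
      obtain ⟨ξ₁, rfl⟩ := hind.1
      exact sameBlock_trans (M := M) hξ₀ hs
  have hTb : ∀ y : H, T y = blockPart b (fun h : H => (χ : G → ℂ) h) y := by
    intro y
    rw [hT, blockPart, finsum_mem_eq_finite_toFinset_sum _ (Set.toFinite _)]
    simp only [Finset.sum_apply, Pi.smul_apply, smul_eq_mul]
    apply Finset.sum_congr
    · ext ξ
      simp
    · intro ξ _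
      rw [← hm ξ]
      congr!
  have hres : IsClassFunction H (fun h : H => (χ : G → ℂ) h) := restrict_isClass H hχc
  have hf : IsClassFunction H (fun c : H => (χ : G → ℂ) (x * (c : G))) := by
    intro c h
    have e : x * ((h * c * h⁻¹ : H) : G) = (h : G) * (x * c) * (h : G)⁻¹ := by
      have := hH h h.2
      calc x * ((h * c * h⁻¹ : H) : G) = (x * h) * c * (h : G)⁻¹ := by
            simp [mul_assoc]
        _ = (h * x) * c * (h : G)⁻¹ := by rw [this]
        _ = (h : G) * (x * c) * (h : G)⁻¹ := by simp [mul_assoc]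
    simp only
    rw [e, hχc]
  have key : ∀ y : H, ¬ p ∣ orderOf y → T y ∈ Iloc M := by
    intro y hy
    have e0 := hcon y hy
    rw [blockPart_eq_sum b hf] at e0
    rw [hTb, blockPart_eq_sum b hres, ← sub_zero (∑ k : H, _), ← e0, ← Finset.sum_sub_distrib]
    apply (Iloc M).sum_mem
    intro c _
    rw [← mul_sub]
    apply mul_mem_Iloc (blockCoeff_mem_Rloc b (block_closed hind.1) c)
    have e1 := char_congr hM (IsIrrCharacter.isCharacter χ.2) x ((c * y : H) : G)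
      (hH _ (c * y).2) k hx
    exact sub_mem_Iloc_symm e1
  have hTc : IsClassFunction H T := by
    rw [hT]
    exact isClassFunction_sum _ _ fun ξ _ =>
      isClassFunction_smul _ (IsIrrCharacter.isClassFunction ξ.2)
  have hTinv : ∀ y : H, conj (T y) = T y⁻¹ := by
    intro y
    rw [hT]
    simp only [Finset.sum_apply, Pi.smul_apply, smul_eq_mul, map_sum, map_mul, Complex.conj_natCast]
    apply Finset.sum_congr rfl
    intro ξ _
    rw [irr_conj_eq_inv ξ.2]
  apply h2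
  rw [hTW]
  apply W_mem_Iloc ξ₀ (creg_isClass p hTc)
  intro y
  by_cases hy : p ∣ orderOf y
  · rw [creg_sing _ hy]
    exact (Iloc M).zero_mem
  · rw [creg_reg _ hy, hTinv]
    apply key
    rwa [orderOf_inv]

end Cfsg.Agent.Lib.Helper7.BSub1
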