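import Mathlib
import Cfsg.Prelude.Def_Blocks
import Cfsg.Agent.Lib.Helper7.BCount1
import Cfsg.Agent.Lib.Helper7.BSub1

set_option autoImplicit false
set_option linter.unusedSectionVars false
set_option linter.unusedVariables false
set_option linter.style.haveILetI false

/-! Real characters of odd degree lie in the principal 2-block. -/

namespace Cfsg.Agent.Lib.Helper7.BCount2

open Cfsg Cfsg.Agent.Lib.Helper7.CharIrr Cfsg.Agent.Lib.Helper7.CharOrth
  Cfsg.Agent.Lib.Helper7.CharIntegral Cfsg.Agent.Lib.Helper7.CharMore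
  Cfsg.Agent.Lib.Helper7.CharClassAlg Cfsg.Agent.Lib.Helper7.CharComplete
  Cfsg.Agent.Lib.Helper7.CharDeg Cfsg.Agent.Lib.Helper7.CharGalois
  Cfsg.Agent.Lib.Helper7.CharClassAlg2 Cfsg.Agent.Lib.Helper7.CharInd
  Cfsg.Agent.Lib.Helper7.CharBasic Cfsg.Agent.Lib.Helper7.CharGen Cfsg.Agent.Lib.Helper7.CharRes
  Cfsg.Agent.Lib.Helper7.Brauer11 Cfsg.Agent.Lib.Helper7.Brauer12
  Cfsg.Agent.Lib.Helper2.LocRing Cfsg.Agent.Lib.Helper2.BlockLam
  Cfsg.Agent.Lib.Helper2.BlockZ Cfsg.Agent.Lib.Helper2.BlockDef Cfsg.Agent.Lib.Helper2.BlockCong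
  Cfsg.Agent.Lib.Helper2.BlockHt Cfsg.Agent.Lib.Helper2.BlockReg Cfsg.Agent.Lib.Helper2.BlockBr2
  Cfsg.Agent.Lib.Helper2.BlockSub Cfsg.Agent.Lib.Helper2.BlockReg2 Cfsg.Agent.Lib.Helper2.BlockReg3
  Cfsg.Agent.Lib.Helper7.BPair2 Cfsg.Agent.Lib.Helper7.BSub1
open scoped ComplexConjugate

variable {G : Type*} [Group G] [Fintype G]

theorem irr_isIntegral {χ : G → ℂ} (hχ : IsIrrCharacter G χ) (g : G) : IsIntegral ℤ (χ g) := by
  obtain ⟨n, ρ, _, rfl⟩ := hχ
  exact isIntegral_char ρ g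

theorem real_odd_mem_principal {M : Ideal AlgInt} (hM : IsPModular 2 M) (θ : IrrCharacter G)
    (hreal : ∀ g : G, ((θ : G → ℂ) g).im = 0) (hodd : Odd (charDegree (θ : G → ℂ))) :
    θ ∈ principalBlock M G := by
  classical
  haveI := hM.2.1.isPrime
  obtain ⟨S, hS⟩ : ∃ S : Finset G, S = Finset.univ.filter (fun g : G => ¬ 2 ∣ orderOf g ∧ g ≠ 1) :=
    ⟨_, rfl⟩
  have hv : ∀ g, IsIntegral ℤ ((θ : G → ℂ) g) := irr_isIntegral θ.2
  obtain ⟨v, hvdef⟩ : ∃ v : G → AlgInt, ∀ g, v g = ⟨(θ : G → ℂ) g, hv g⟩ := ⟨_, fun _ => rfl⟩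
  have hinv : ∀ g, v g⁻¹ = v g := by
    intro g
    rw [hvdef, hvdef]
    apply Subtype.ext
    change (θ : G → ℂ) g⁻¹ = (θ : G → ℂ) g
    rw [← irr_conj_eq_inv θ.2]
    exact Complex.conj_eq_iff_im.mpr (hreal g)
  have h2M : (2 : AlgInt) ∈ M := by
    have := hM.2.2
    exact_mod_cast this
  have hsum : ∑ g ∈ S, Ideal.Quotient.mk M (v g) = 0 := by
    apply Finset.sum_involution (fun g _ => g⁻¹)
    · intro g _
      rw [hinv, ← map_add, ← two_mul, Ideal.Quotient.eq_zero_iff_mem]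
      exact M.mul_mem_right _ h2M
    · intro g hg _ h
      rw [hS, Finset.mem_filter] at hg
      have h1 : g ^ 2 = 1 := by
        rw [pow_two]
        nth_rewrite 1 [← h]
        exact inv_mul_cancel g
      have h2 := orderOf_dvd_of_pow_eq_one h1
      rcases (Nat.dvd_prime Nat.prime_two).mp h2 with h3 | h3
      · exact hg.2.2 (orderOf_eq_one_iff.mp h3)
      · exact hg.2.1 (by rw [h3])
    · intro g _
      exact inv_inv g
    · intro g hg
      rw [hS, Finset.mem_filter] at hg ⊢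
      refine ⟨Finset.mem_univ _, ?_, inv_ne_one.mpr hg.2.2⟩
      rw [orderOf_inv]
      exact hg.2.1
  have hmem : ∑ g ∈ S, v g ∈ M := by
    rw [← Ideal.Quotient.eq_zero_iff_mem, map_sum]
    exact hsum
  have hs : ∑ g ∈ S, (θ : G → ℂ) g ∈ Iloc M := by
    refine ⟨∑ g ∈ S, v g, 1, hmem, fun h => this.ne_top ((Ideal.eq_top_iff_one M).mpr h), ?_⟩
    rw [AddSubmonoidClass.coe_finset_sum]
    simp only [OneMemClass.coe_one, div_one]
    apply Finset.sum_congr rfl
    intro g _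
    rw [hvdef]
  have hW : W (θ : G → ℂ) (creg 2 (fun _ : G => (1 : ℂ))) =
      1 + (∑ g ∈ S, (θ : G → ℂ) g) * ((charDegree (θ : G → ℂ) : ℕ) : ℂ)⁻¹ := by
    have h1 : (θ : G → ℂ) 1 ≠ 0 := irr_one_ne_zero θ.2
    rw [charDegree_cast (IsIrrCharacter.isCharacter θ.2)]
    unfold W
    have e1 : ∑ g, creg 2 (fun _ : G => (1 : ℂ)) g * (θ : G → ℂ) g =
        (θ : G → ℂ) 1 + ∑ g ∈ S, (θ : G → ℂ) g := by
      have pt : ∀ g : G, creg 2 (fun _ : G => (1 : ℂ)) g * (θ : G → ℂ) g =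
          (if g = 1 then (θ : G → ℂ) 1 else 0) +
            (if ¬ 2 ∣ orderOf g ∧ g ≠ 1 then (θ : G → ℂ) g else 0) := by
        intro g
        by_cases hg : g = 1
        · subst hg
          rw [creg_reg _ (by simp)]
          simp
        · by_cases h2 : 2 ∣ orderOf g
          · rw [creg_sing _ h2]
            simp [hg, h2]
          · rw [creg_reg _ h2]
            simp [hg, h2]
      rw [Finset.sum_congr rfl (fun g _ => pt g), Finset.sum_add_distrib, hS, Finset.sum_filter]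
      simp
    rw [e1]
    field_simp
  have hd : ¬ 2 ∣ charDegree (θ : G → ℂ) := by
    intro h
    exact (Nat.not_even_iff_odd.mpr hodd) (even_iff_two_dvd.mpr h)
  have key : W (θ : G → ℂ) (creg 2 (fun _ : G => (1 : ℂ))) ∉ Iloc M := by
    intro h
    rw [hW] at h
    have h1 := mul_mem_Iloc' hs (natCast_inv_mem_Rloc hM hd)
    have h2 := (Iloc M).sub_mem h h1
    rw [add_sub_cancel_right] at h2
    exact one_notMem_Iloc h2
  have h3 := sameBlock_of_W_creg hM (one G) θ key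
  exact sameBlock_symm (M := M) h3

end Cfsg.Agent.Lib.Helper7.BCount2
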