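import Mathlib
import Cfsg.Prelude.Def_Characters
import Cfsg.Agent.Lib.Helper7.All1

set_option autoImplicit false
set_option linter.style.haveILetI false
set_option linter.unusedSectionVars false
set_option linter.unusedVariables false

namespace Cfsg.Agent.Lib.Helper7.CharComm

open Module Representation Cfsg
open Cfsg.Agent.Lib.Helper7.CharBasic Cfsg.Agent.Lib.Helper7.CharIrr Cfsg.Agent.Lib.Helper7.CharDecomp Cfsg.Agent.Lib.Helper7.CharComplete Cfsg.Agent.Lib.Helper7.CharOrth Cfsg.Agent.Lib.Helper7.CharInd Cfsg.Agent.Lib.Helper7.CharIntegral Cfsg.Agent.Lib.Helper7.CharBurnside Cfsg.Agent.Lib.Helper7.CharLinear Cfsg.Agent.Lib.Helper7.CharEquiv Cfsg.Agent.Lib.Helper7.CharMore Cfsg.Agent.Lib.Helper7.CharCount Cfsg.Agent.Lib.Helper7.CharMisc Cfsg.Agent.Lib.Helper7.CharMisc2 Cfsg.Agent.Lib.Helper7.CharNormal Cfsg.Agent.Lib.Helper7.CharOdd Cfsg.Agent.Lib.Helper7.CharClifford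 Cfsg.Agent.Lib.Helper7.CharProd Cfsg.Agent.Lib.Helper7.CharPerm Cfsg.Agent.Lib.Helper7.CharClassAlg Cfsg.Agent.Lib.Helper7.CharClassAlg2 Cfsg.Agent.Lib.Helper7.CharCentral Cfsg.Agent.Lib.Helper7.CharNormal2 Cfsg.Agent.Lib.Helper7.CharCliffordCorr
open scoped ComplexConjugate

variable {G : Type*} [Group G]

theorem sum_comm_mul [Fintype G] {χ : G → ℂ} (hχ : IsIrrCharacter G χ) (h : G) :
    ∑ b : G, ∑ a : G, χ (a * b * a⁻¹ * b⁻¹ * h) = (Nat.card G : ℂ) ^ 2 * χ h / χ 1 ^ 2 := by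
  have h0 := irr_one_ne_zero hχ
  have h3 : ∀ b : G, ∑ a : G, χ (a * b * a⁻¹ * b⁻¹ * h) =
      (Nat.card G : ℂ) / χ 1 * (χ b * χ (b⁻¹ * h)) := by
    intro b
    have h4 : ∀ a : G, χ (a * b * a⁻¹ * b⁻¹ * h) = χ (a * b * a⁻¹ * (b⁻¹ * h)) := by
      intro a; rw [mul_assoc (a * b * a⁻¹)]
    simp only [h4]
    rw [irr_sum_conj_mul hχ b]
    field_simp
  simp only [h3]
  rw [← Finset.mul_sum, irr_sum_mul_inv hχ]
  field_simp

theorem comm_count [Fintype G] [Fintype (IrrCharacter G)] [DecidableEq G] (z : G) :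
    ∑ b : G, ∑ a : G, (if a * b * a⁻¹ * b⁻¹ = z then (1 : ℂ) else 0) =
      (Nat.card G : ℂ) * ∑ χ : IrrCharacter G, (χ : G → ℂ) z⁻¹ / (χ : G → ℂ) 1 := by
  have hG := card_ne_zero (G := G)
  have h1 : ∀ a b : G, (if a * b * a⁻¹ * b⁻¹ = z then (1 : ℂ) else 0) =
      (Nat.card G : ℂ)⁻¹ * ∑ χ : IrrCharacter G,
        (χ : G → ℂ) 1 * (χ : G → ℂ) (a * b * a⁻¹ * b⁻¹ * z⁻¹) := by
    intro a b
    rw [← delta_eq_sum]
    have : a * b * a⁻¹ * b⁻¹ * z⁻¹ = 1 ↔ a * b * a⁻¹ * b⁻¹ = z := by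
      rw [mul_inv_eq_one]
    simp only [this]
    split_ifs
    · field_simp
    · simp
  simp only [h1, ← Finset.mul_sum]
  have h7 : ∑ b : G, ∑ a : G, ∑ χ : IrrCharacter G,
      (χ : G → ℂ) 1 * (χ : G → ℂ) (a * b * a⁻¹ * b⁻¹ * z⁻¹) =
      ∑ χ : IrrCharacter G, (χ : G → ℂ) 1 * ∑ b : G, ∑ a : G,
      (χ : G → ℂ) (a * b * a⁻¹ * b⁻¹ * z⁻¹) := by
    simp only [Finset.mul_sum]
    rw [Finset.sum_congr rfl (fun s _ => Finset.sum_comm), Finset.sum_comm]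
  rw [h7]
  simp only [sum_comm_mul (Subtype.property _)]
  rw [Finset.mul_sum, Finset.mul_sum]
  apply Finset.sum_congr rfl
  intro χ _
  have h0 := irr_one_ne_zero χ.2
  field_simp

theorem comm_count2 [Fintype G] [Fintype (IrrCharacter G)] [DecidableEq G] (z : G) :
    ∑ d : G, ∑ c : G, ∑ b : G, ∑ a : G,
      (if (a * b * a⁻¹ * b⁻¹) * (c * d * c⁻¹ * d⁻¹) = z then (1 : ℂ) else 0) =
      (Nat.card G : ℂ) ^ 3 * ∑ χ : IrrCharacter G, (χ : G → ℂ) z⁻¹ / (χ : G → ℂ) 1 ^ 3 := by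
  have hG := card_ne_zero (G := G)
  have h1 : ∀ a b c d : G,
      (if (a * b * a⁻¹ * b⁻¹) * (c * d * c⁻¹ * d⁻¹) = z then (1 : ℂ) else 0) =
      (Nat.card G : ℂ)⁻¹ * ∑ χ : IrrCharacter G,
        (χ : G → ℂ) 1 * (χ : G → ℂ) (a * b * a⁻¹ * b⁻¹ * ((c * d * c⁻¹ * d⁻¹) * z⁻¹)) := by
    intro a b c d
    rw [← delta_eq_sum]
    have : a * b * a⁻¹ * b⁻¹ * ((c * d * c⁻¹ * d⁻¹) * z⁻¹) = 1 ↔
        (a * b * a⁻¹ * b⁻¹) * (c * d * c⁻¹ * d⁻¹) = z := by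
      rw [← mul_assoc, mul_inv_eq_one]
    simp only [this]
    split_ifs
    · field_simp
    · simp
  simp only [h1, ← Finset.mul_sum]
  have h7 : ∑ d : G, ∑ c : G, ∑ b : G, ∑ a : G, ∑ χ : IrrCharacter G,
      (χ : G → ℂ) 1 * (χ : G → ℂ) (a * b * a⁻¹ * b⁻¹ * ((c * d * c⁻¹ * d⁻¹) * z⁻¹)) =
      ∑ χ : IrrCharacter G, (χ : G → ℂ) 1 * ∑ d : G, ∑ c : G, ∑ b : G, ∑ a : G,
      (χ : G → ℂ) (a * b * a⁻¹ * b⁻¹ * ((c * d * c⁻¹ * d⁻¹) * z⁻¹)) := by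
    simp only [Finset.mul_sum]
    symm
    rw [Finset.sum_comm]
    apply Finset.sum_congr rfl
    intro d _
    rw [Finset.sum_comm]
    apply Finset.sum_congr rfl
    intro c _
    rw [Finset.sum_comm]
    apply Finset.sum_congr rfl
    intro b _
    rw [Finset.sum_comm]
  rw [h7]
  simp only [sum_comm_mul (Subtype.property _)]
  rw [Finset.mul_sum, Finset.mul_sum]
  apply Finset.sum_congr rfl
  intro χ _
  have h0 := irr_one_ne_zero χ.2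
  simp only [mul_div_assoc, ← Finset.mul_sum, ← Finset.sum_div]
  rw [sum_comm_mul χ.2]
  field_simp

end Cfsg.Agent.Lib.Helper7.CharComm
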