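import Mathlib
import Cfsg.Prelude.Def_Characters
import Cfsg.Agent.Lib.Helper7.All1
import Cfsg.Agent.Lib.Helper7.CharKer
import Cfsg.Agent.Lib.Helper7.CharRes
import Cfsg.Agent.Lib.Helper7.CharGen
import Cfsg.Agent.Lib.Helper7.CharGallagher

set_option autoImplicit false
set_option linter.style.haveILetI false
set_option linter.unusedSectionVars false
set_option linter.unusedVariables false
set_option linter.unusedSimpArgs false

namespace Cfsg.Agent.Lib.Helper7.CharGallagher2

open Module Representation Cfsg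
open Cfsg.Agent.Lib.Helper7.CharBasic Cfsg.Agent.Lib.Helper7.CharIrr Cfsg.Agent.Lib.Helper7.CharDecomp Cfsg.Agent.Lib.Helper7.CharComplete Cfsg.Agent.Lib.Helper7.CharOrth Cfsg.Agent.Lib.Helper7.CharInd Cfsg.Agent.Lib.Helper7.CharIntegral Cfsg.Agent.Lib.Helper7.CharBurnside Cfsg.Agent.Lib.Helper7.CharLinear Cfsg.Agent.Lib.Helper7.CharEquiv Cfsg.Agent.Lib.Helper7.CharMore Cfsg.Agent.Lib.Helper7.CharCount Cfsg.Agent.Lib.Helper7.CharMisc Cfsg.Agent.Lib.Helper7.CharMisc2 Cfsg.Agent.Lib.Helper7.CharNormal Cfsg.Agent.Lib.Helper7.CharOdd Cfsg.Agent.Lib.Helper7.CharClifford Cfsg.Agent.Lib.Helper7.CharProd Cfsg.Agent.Lib.Helper7.CharPerm Cfsg.Agent.Lib.Helper7.CharClassAlg Cfsg.Agent.Lib.Helper7.CharClassAlg2 Cfsg.Agent.Lib.Helper7.CharCentral Cfsg.Agent.Lib.Helper7.CharNormal2 Cfsg.Agent.Lib.Helper7.CharCliffordCorr Cfsg.Agent.Lib.Helper7.CharKer Cfsg.Agent.Lib.Helper7.CharRes Cfsg.Agent.Lib.Helper7.CharGen Cfsg.Agent.Lib.Helper7.CharGallagher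
open scoped ComplexConjugate

variable {G : Type*} [Group G]

theorem char_mul_of_mem_ker [Finite G] {β : G → ℂ} (hβ : IsCharacter G β) {n : G}
    (hn : β n = β 1) (g : G) : β (n * g) = β g := by
  obtain ⟨m, ρ, rfl⟩ := hβ
  rw [char_one, char_eq_finrank_iff] at hn
  simp only [Representation.character, map_mul, hn]
  rfl

theorem trivial_constituent_iff [Fintype G] (N : Subgroup G) [hN : N.Normal]
    {β : G → ℂ} (hβ : IsIrrCharacter G β) :
    classInner (indFun N (fun _ => 1)) β ≠ 0 ↔ ∀ n ∈ N, β n = β 1 := by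
  classical
  haveI := Fintype.ofFinite N
  rw [frobenius_reciprocity _ _ _ (IsIrrCharacter.isClassFunction hβ)]
  constructor
  · intro h
    apply restrict_const_of_trivial_constituent N hβ
    intro h0
    apply h
    rw [← classInner_conj_symm, h0, map_zero]
  · intro h
    have h1 : (fun n : N => β n) = β 1 • (fun _ : N => (1 : ℂ)) := by
      funext n
      simp [h n n.2]
    rw [h1, classInner_smul_right, (isIrrCharacter_iff_norm_one.mp (isIrrCharacter_one (G := N))).2,
      mul_one]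
    simpa using irr_one_ne_zero hβ

/-- Gallagher's theorem (Isaacs 6.17). -/
theorem gallagher [Fintype G] (N : Subgroup G) [hN : N.Normal] [Fintype N] {χ : G → ℂ}
    (hχ : IsIrrCharacter G χ) (hχN : IsIrrCharacter N (fun n : N => χ n)) :
    (∀ β : G → ℂ, IsIrrCharacter G β → (∀ n ∈ N, β n = β 1) → IsIrrCharacter G (β * χ)) ∧
    (∀ β γ : G → ℂ, IsIrrCharacter G β → (∀ n ∈ N, β n = β 1) →
      IsIrrCharacter G γ → (∀ n ∈ N, γ n = γ 1) → β * χ = γ * χ → β = γ) ∧
    (∀ ψ : G → ℂ, IsIrrCharacter G ψ →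
      classInner (fun n : N => ψ n) (fun n : N => χ n) ≠ 0 →
      ∃ β : G → ℂ, IsIrrCharacter G β ∧ (∀ n ∈ N, β n = β 1) ∧ β * χ = ψ) := by
  have hone : (fun _ : N => (1 : ℂ)) * (fun n : N => χ n) = fun n : N => χ n := by
    funext n; simp
  obtain ⟨h1, h2, h3⟩ := gallagher_prod N (fun _ => 1) (fun n : N => χ n) isIrrCharacter_one
    (fun g => rfl) (fun g => conjFun_restrict N (IsIrrCharacter.isClassFunction hχ) g)
    (by rw [hone]; exact hχN) χ hχ (fun n => rfl)
  refine ⟨?_, ?_, ?_⟩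
  · intro β hβ hk
    exact (h1 β hβ ((trivial_constituent_iff N hβ).mpr hk)).1
  · intro β γ hβ hkβ hγ hkγ h
    exact h2 β γ hβ ((trivial_constituent_iff N hβ).mpr hkβ) hγ
      ((trivial_constituent_iff N hγ).mpr hkγ) h
  · intro ψ hψ hc
    rw [hone] at h3
    obtain ⟨β, hβ1, hβ2, hβ3⟩ := h3 ψ hψ (by
      rw [frobenius_reciprocity _ _ _ (IsIrrCharacter.isClassFunction hψ)]
      intro h0
      apply hc
      rw [← classInner_conj_symm, h0, map_zero])
    exact ⟨β, hβ1, (trivial_constituent_iff N hβ1).mp hβ2, hβ3⟩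

/-- average over the cosets of `N`. -/
noncomputable def cosetAvg (N : Subgroup G) [Fintype N] (F : G → ℂ) : G → ℂ :=
  fun g => (Nat.card N : ℂ)⁻¹ * ∑ n : N, F ((n : G) * g)

theorem isClassFunction_cosetAvg (N : Subgroup G) [hN : N.Normal] [Fintype N] {F : G → ℂ}
    (hF : IsClassFunction G F) : IsClassFunction G (cosetAvg N F) := by
  intro g x
  unfold cosetAvg
  congr 1
  rw [← Equiv.sum_comp (MulAut.conjNormal x : N ≃* N).toEquiv]
  apply Finset.sum_congr rfl
  intro n _
  have h1 : (((MulAut.conjNormal x : N ≃* N).toEquiv n : N) : G) = x * n * x⁻¹ := by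
    simp
  rw [h1]
  have h2 : x * ↑n * x⁻¹ * (x * g * x⁻¹) = x * (n * g) * x⁻¹ := by group
  rw [h2, hF]

theorem classInner_cosetAvg [Fintype G] (N : Subgroup G) [hN : N.Normal] [Fintype N] (F : G → ℂ)
    {γ : G → ℂ} (hγ : IsIrrCharacter G γ) [Decidable (∀ n ∈ N, γ n = γ 1)] :
    classInner (cosetAvg N F) γ = if (∀ n ∈ N, γ n = γ 1) then classInner F γ else 0 := by
  have hN0 : (Nat.card N : ℂ) ≠ 0 := card_ne_zero
  have h1 : ∑ g : G, cosetAvg N F g * conj (γ g) =
      (Nat.card N : ℂ)⁻¹ * ∑ g : G, F g * conj (∑ n : N, γ ((n : G) * g)) := by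
    unfold cosetAvg
    simp only [mul_assoc, Finset.sum_mul, ← Finset.mul_sum]
    congr 1
    rw [Finset.sum_comm]
    simp only [map_sum, Finset.mul_sum]
    rw [Finset.sum_comm (s := Finset.univ (α := G))]
    rw [← Equiv.sum_comp (Equiv.inv N)]
    apply Finset.sum_congr rfl
    intro n _
    rw [← Equiv.sum_comp (Equiv.mulLeft (n : G))]
    apply Finset.sum_congr rfl
    intro g _
    simp
  unfold classInner
  rw [h1]
  split_ifs with hk
  · have h2 : ∀ g : G, ∑ n : N, γ ((n : G) * g) = (Nat.card N : ℂ) * γ g := by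
      intro g
      simp only [char_mul_of_mem_ker (IsIrrCharacter.isCharacter hγ) (hk _ (Subtype.property _)),
        Finset.sum_const, Finset.card_univ, nsmul_eq_mul, Nat.card_eq_fintype_card]
    simp only [h2, map_mul, map_natCast]
    congr 1
    rw [Finset.mul_sum]
    apply Finset.sum_congr rfl
    intro g _
    field_simp
  · push Not at hk
    simp only [sum_coset_eq_zero N hγ hk, map_zero, mul_zero, Finset.sum_const_zero]

end Cfsg.Agent.Lib.Helper7.CharGallagher2
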