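import Mathlib
import Cfsg.Prelude.Def_Characters
import Cfsg.Agent.Lib.Helper7.All1
import Cfsg.Agent.Lib.Helper7.CharKer
import Cfsg.Agent.Lib.Helper7.CharRes
import Cfsg.Agent.Lib.Helper7.CharGen
import Cfsg.Agent.Lib.Helper7.GalC
import Cfsg.Agent.Lib.Helper7.CharGalois

set_option autoImplicit false
set_option linter.style.haveILetI false
set_option linter.unusedSectionVars false
set_option linter.unusedVariables false
set_option linter.unusedSimpArgs false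

namespace Cfsg.Agent.Lib.Helper7.CharZeros

open Module Representation Cfsg
open Cfsg.Agent.Lib.Helper7.CharBasic Cfsg.Agent.Lib.Helper7.CharIrr Cfsg.Agent.Lib.Helper7.CharDecomp Cfsg.Agent.Lib.Helper7.CharComplete Cfsg.Agent.Lib.Helper7.CharOrth Cfsg.Agent.Lib.Helper7.CharInd Cfsg.Agent.Lib.Helper7.CharIntegral Cfsg.Agent.Lib.Helper7.CharBurnside Cfsg.Agent.Lib.Helper7.CharLinear Cfsg.Agent.Lib.Helper7.CharEquiv Cfsg.Agent.Lib.Helper7.CharMore Cfsg.Agent.Lib.Helper7.CharCount Cfsg.Agent.Lib.Helper7.CharMisc Cfsg.Agent.Lib.Helper7.CharMisc2 Cfsg.Agent.Lib.Helper7.CharNormal Cfsg.Agent.Lib.Helper7.CharOdd Cfsg.Agent.Lib.Helper7.CharClifford Cfsg.Agent.Lib.Helper7.CharProd Cfsg.Agent.Lib.Helper7.CharPerm Cfsg.Agent.Lib.Helper7.CharClassAlg Cfsg.Agent.Lib.Helper7.CharClassAlg2 Cfsg.Agent.Lib.Helper7.CharCentral Cfsg.Agent.Lib.Helper7.CharNormal2 Cfsg.Agent.Lib.Helper7.CharCliffordCorr Cfsg.Agent.Lib.Helper7.CharKer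 Cfsg.Agent.Lib.Helper7.CharRes Cfsg.Agent.Lib.Helper7.CharGen Cfsg.Agent.Lib.Helper7.GalC Cfsg.Agent.Lib.Helper7.CharGalois
open scoped ComplexConjugate

variable {G : Type*} [Group G]

theorem card_le_sum_of_one_le_prod {ι : Type*} (s : Finset ι) (z : ι → ℝ) (hz : ∀ i ∈ s, 0 < z i)
    (hp : 1 ≤ ∏ i ∈ s, z i) : (s.card : ℝ) ≤ ∑ i ∈ s, z i := by
  have h1 : ∑ i ∈ s, Real.log (z i) ≤ ∑ i ∈ s, (z i - 1) :=
    Finset.sum_le_sum (fun i hi => Real.log_le_sub_one_of_pos (hz i hi))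
  rw [← Real.log_prod (fun i hi => (hz i hi).ne')] at h1
  have h2 : 0 ≤ Real.log (∏ i ∈ s, z i) := Real.log_nonneg hp
  rw [Finset.sum_sub_distrib] at h1
  simp only [Finset.sum_const, nsmul_eq_mul, mul_one] at h1
  linarith

/-- `g` raised to the power given by a unit modulo `|G|`. -/
noncomputable def gp (g : G) (u : (ZMod (Nat.card G))ˣ) : G := g ^ (u : ZMod (Nat.card G)).val

theorem gp_pow [Finite G] (g : G) (u : (ZMod (Nat.card G))ˣ) {m : ℕ}
    (hm : m.Coprime (Nat.card G)) : (gp g u) ^ m = gp g (u * ZMod.unitOfCoprime m hm) := by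
  haveI : NeZero (Nat.card G) := ⟨Nat.card_pos.ne'⟩
  unfold gp
  rw [← pow_mul, Units.val_mul, ZMod.coe_unitOfCoprime, ZMod.val_mul, ZMod.val_natCast]
  rw [pow_eq_pow_iff_modEq]
  apply Nat.ModEq.of_dvd (orderOf_dvd_natCard g)
  unfold Nat.ModEq
  rw [Nat.mod_mod, Nat.mul_mod_mod]

theorem prod_gp_int [Finite G] [Fintype (ZMod (Nat.card G))ˣ] {χ : G → ℂ} (hχ : IsCharacter G χ)
    (g : G) : ∃ n : ℤ, ∏ u : (ZMod (Nat.card G))ˣ, χ (gp g u) = n := by
  have hint : IsIntegral ℤ (∏ u : (ZMod (Nat.card G))ˣ, χ (gp g u)) :=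
    IsIntegral.prod _ (fun u _ => isIntegral_of_isCharacter hχ _)
  have h1 : ∃ q : ℚ, ∏ u : (ZMod (Nat.card G))ˣ, χ (gp g u) = (q : ℂ) := by
    apply rational_of_fixed hint.tower_top
    intro σ
    obtain ⟨k, hk, hσ⟩ := exists_pow_of_aut_char (G := G) σ
    rw [map_prod]
    simp only [hσ χ hχ, gp_pow g _ hk]
    exact Equiv.prod_comp (Equiv.mulRight (ZMod.unitOfCoprime k hk)) (fun u => χ (gp g u))
  obtain ⟨q, hq⟩ := h1
  have h2 : IsIntegral ℤ q := by
    rw [hq] at hint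
    exact (isIntegral_algebraMap_iff (algebraMap ℚ ℂ).injective).mp hint
  obtain ⟨n, hn⟩ := IsIntegrallyClosed.isIntegral_iff.mp h2
  exact ⟨n, by rw [hq, ← hn]; simp⟩

theorem char_pow_ne_zero [Finite G] {χ : G → ℂ} (hχ : IsCharacter G χ) {g : G} (h0 : χ g ≠ 0)
    {k : ℕ} (hk : k.Coprime (Nat.card G)) : χ (g ^ k) ≠ 0 := by
  obtain ⟨σ, hσ⟩ := exists_aut_of_pow_char (G := G) hk
  rw [← hσ χ hχ]
  simpa using h0

theorem sum_units_norm_sq_ge [Finite G] [Fintype (ZMod (Nat.card G))ˣ] {χ : G → ℂ}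
    (hχ : IsCharacter G χ) {g : G} (h0 : χ g ≠ 0) :
    (Fintype.card (ZMod (Nat.card G))ˣ : ℝ) ≤ ∑ u : (ZMod (Nat.card G))ˣ, ‖χ (gp g u)‖ ^ 2 := by
  have hne : ∀ u : (ZMod (Nat.card G))ˣ, χ (gp g u) ≠ 0 :=
    fun u => char_pow_ne_zero hχ h0 (ZMod.val_coe_unit_coprime u)
  rw [← Finset.card_univ]
  apply card_le_sum_of_one_le_prod
  · intro u _
    have := norm_pos_iff.mpr (hne u)
    positivity
  · rw [Finset.prod_pow, ← norm_prod]
    obtain ⟨n, hn⟩ := prod_gp_int hχ g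
    have hn0 : n ≠ 0 := by
      intro h
      rw [h, Int.cast_zero, Finset.prod_eq_zero_iff] at hn
      obtain ⟨u, _, hu⟩ := hn
      exact hne u hu
    rw [hn, Complex.norm_intCast]
    have h1 : (1 : ℝ) ≤ |(n : ℝ)| := by
      rw [← Int.cast_abs]
      exact_mod_cast Int.one_le_abs hn0
    nlinarith

/-- Burnside-type inequality: on a subset closed under coprime powers, the sum of `|χ|²` is at
least the number of non-zeros. -/
theorem card_nonzero_le_sum [Fintype G] {χ : G → ℂ} (hχ : IsCharacter G χ)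
    (S : G → Prop) [DecidablePred S]
    (hS : ∀ g : G, ∀ k : ℕ, k.Coprime (Nat.card G) → (S (g ^ k) ↔ S g)) :
    ∑ g : G, (if S g ∧ χ g ≠ 0 then (1 : ℝ) else 0) ≤ ∑ g : G, (if S g then ‖χ g‖ ^ 2 else 0) := by
  classical
  haveI : NeZero (Nat.card G) := ⟨Nat.card_pos.ne'⟩
  set U := (ZMod (Nat.card G))ˣ with hU
  have hcard : (0 : ℝ) < Fintype.card U := by exact_mod_cast Fintype.card_pos
  have h1 : ∀ u : U, ∑ g : G, (if S g then ‖χ (gp g u)‖ ^ 2 else 0) =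
      ∑ g : G, (if S g then ‖χ g‖ ^ 2 else 0) := by
    intro u
    have hc := ZMod.val_coe_unit_coprime u
    rw [← Equiv.sum_comp (powCoprime hc.symm) (fun g => if S g then ‖χ g‖ ^ 2 else 0)]
    apply Finset.sum_congr rfl
    intro g _
    have : (powCoprime hc.symm) g = g ^ (u : ZMod (Nat.card G)).val := rfl
    rw [this]
    simp only [hS g _ hc]
    rfl
  have h2 : (Fintype.card U : ℝ) * ∑ g : G, (if S g then ‖χ g‖ ^ 2 else 0) =
      ∑ g : G, (if S g then ∑ u : U, ‖χ (gp g u)‖ ^ 2 else 0) := by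
    have : ∑ u : U, ∑ g : G, (if S g then ‖χ (gp g u)‖ ^ 2 else 0) =
        (Fintype.card U : ℝ) * ∑ g : G, (if S g then ‖χ g‖ ^ 2 else 0) := by
      simp only [h1, Finset.sum_const, Finset.card_univ, nsmul_eq_mul]
    rw [← this, Finset.sum_comm]
    apply Finset.sum_congr rfl
    intro g _
    split_ifs
    · rfl
    · simp
  have h3 : (Fintype.card U : ℝ) * ∑ g : G, (if S g ∧ χ g ≠ 0 then (1 : ℝ) else 0) ≤
      ∑ g : G, (if S g then ∑ u : U, ‖χ (gp g u)‖ ^ 2 else 0) := by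
    rw [Finset.mul_sum]
    apply Finset.sum_le_sum
    intro g _
    by_cases hs : S g
    · by_cases h0 : χ g = 0
      · rw [if_neg (by simp [h0]), if_pos hs, mul_zero]
        positivity
      · rw [if_pos ⟨hs, h0⟩, if_pos hs, mul_one]
        exact sum_units_norm_sq_ge hχ h0
    · rw [if_neg (by simp [hs]), if_neg hs, mul_zero]
  rw [← h2] at h3
  exact le_of_mul_le_mul_left h3 hcard

end Cfsg.Agent.Lib.Helper7.CharZeros
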