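import Mathlib
import Cfsg.Prelude.Def_Characters
import Cfsg.Agent.Lib.Helper7.All1

set_option autoImplicit false
set_option linter.style.haveILetI false
set_option linter.unusedSectionVars false
set_option linter.unusedVariables false
set_option linter.unusedSimpArgs false

namespace Cfsg.Agent.Lib.Helper7.ProjExt1

open Module Representation Cfsg
open Cfsg.Agent.Lib.Helper7.CharBasic Cfsg.Agent.Lib.Helper7.CharIrr Cfsg.Agent.Lib.Helper7.CharDecomp Cfsg.Agent.Lib.Helper7.CharComplete Cfsg.Agent.Lib.Helper7.CharOrth Cfsg.Agent.Lib.Helper7.CharInd Cfsg.Agent.Lib.Helper7.CharIntegral Cfsg.Agent.Lib.Helper7.CharBurnside Cfsg.Agent.Lib.Helper7.CharLinear Cfsg.Agent.Lib.Helper7.CharEquiv Cfsg.Agent.Lib.Helper7.CharMore Cfsg.Agent.Lib.Helper7.CharCount Cfsg.Agent.Lib.Helper7.CharMisc Cfsg.Agent.Lib.Helper7.CharMisc2 Cfsg.Agent.Lib.Helper7.CharNormal Cfsg.Agent.Lib.Helper7.CharOdd Cfsg.Agent.Lib.Helper7.CharClifford Cfsg.Agent.Lib.Helper7.CharProd Cfsg.Agent.Lib.Helper7.CharPerm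 Cfsg.Agent.Lib.Helper7.CharClassAlg Cfsg.Agent.Lib.Helper7.CharClassAlg2 Cfsg.Agent.Lib.Helper7.CharCentral Cfsg.Agent.Lib.Helper7.CharNormal2 Cfsg.Agent.Lib.Helper7.CharCliffordCorr
open scoped ComplexConjugate

variable {G : Type*} [Group G] (N : Subgroup G) [hN : N.Normal] {d : ℕ}
  (σ : Representation ℂ N (Fin d → ℂ))

/-- The central extension of `G` on which an invariant representation of `N` becomes
extendible. -/
def Gam (m : ℕ) : Subgroup (G × (Module.End ℂ (Fin d → ℂ))ˣ) where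
  carrier := {x | (∀ n : N, (x.2 : Module.End ℂ (Fin d → ℂ)) * σ n =
      σ (MulAut.conjNormal x.1 n) * (x.2 : Module.End ℂ (Fin d → ℂ))) ∧
      LinearMap.det (x.2 : Module.End ℂ (Fin d → ℂ)) ^ m = 1}
  mul_mem' := by
    rintro x y ⟨hx1, hx2⟩ ⟨hy1, hy2⟩
    refine ⟨?_, ?_⟩
    · intro n
      simp only [Prod.snd_mul, Prod.fst_mul, Units.val_mul, map_mul, MulAut.mul_apply]
      rw [mul_assoc, hy1 n, ← mul_assoc, hx1, mul_assoc]
    · simp only [Prod.snd_mul, Units.val_mul, map_mul, mul_pow, hx2, hy2, mul_one]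
  one_mem' := by
    refine ⟨?_, ?_⟩
    · intro n
      simp
    · simp
  inv_mem' := by
    rintro x ⟨hx1, hx2⟩
    refine ⟨?_, ?_⟩
    · intro n
      simp only [Prod.snd_inv, Prod.fst_inv, map_inv]
      have h := hx1 ((MulAut.conjNormal x.1)⁻¹ n)
      rw [MulAut.apply_inv_self] at h
      calc ((x.2⁻¹ : (Module.End ℂ (Fin d → ℂ))ˣ) : Module.End ℂ (Fin d → ℂ)) * σ n
          = ((x.2⁻¹ : (Module.End ℂ (Fin d → ℂ))ˣ) : Module.End ℂ (Fin d → ℂ)) * (σ n *
            (x.2 : Module.End ℂ (Fin d → ℂ))) *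
            ((x.2⁻¹ : (Module.End ℂ (Fin d → ℂ))ˣ) : Module.End ℂ (Fin d → ℂ)) := by
              rw [mul_assoc, mul_assoc, Units.mul_inv, mul_one]
        _ = _ := by
              rw [← h, ← mul_assoc, Units.inv_mul, one_mul]
    · have h1 : LinearMap.det ((x.2⁻¹ : (Module.End ℂ (Fin d → ℂ))ˣ) : Module.End ℂ (Fin d → ℂ)) *
          LinearMap.det (x.2 : Module.End ℂ (Fin d → ℂ)) = 1 := by
        rw [← map_mul, Units.inv_mul, map_one]
      have h2 := congrArg (· ^ m) h1
      simp only [mul_pow, hx2, mul_one, one_pow] at h2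
      exact h2

theorem mem_Gam (m : ℕ) (x : G × (Module.End ℂ (Fin d → ℂ))ˣ) :
    x ∈ Gam N σ m ↔ (∀ n : N, (x.2 : Module.End ℂ (Fin d → ℂ)) * σ n =
      σ (MulAut.conjNormal x.1 n) * (x.2 : Module.End ℂ (Fin d → ℂ))) ∧
      LinearMap.det (x.2 : Module.End ℂ (Fin d → ℂ)) ^ m = 1 := Iff.rfl

/-- projection to `G`. -/
def prG (m : ℕ) : Gam N σ m →* G := (MonoidHom.fst _ _).comp (Gam N σ m).subtype

/-- the tautological representation of the extension. -/
def tau (m : ℕ) : Representation ℂ (Gam N σ m) (Fin d → ℂ) :=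
  (Units.coeHom _).comp ((MonoidHom.snd _ _).comp (Gam N σ m).subtype)

theorem tau_apply (m : ℕ) (x : Gam N σ m) : tau N σ m x = (x.1.2 : Module.End ℂ (Fin d → ℂ)) := rfl

theorem prG_apply (m : ℕ) (x : Gam N σ m) : prG N σ m x = x.1.1 := rfl

/-- scalars as units of the endomorphism ring. -/
def scal (d : ℕ) : ℂˣ →* (Module.End ℂ (Fin d → ℂ))ˣ :=
  Units.map (algebraMap ℂ (Module.End ℂ (Fin d → ℂ))).toMonoidHom

theorem scal_coe (c : ℂˣ) : ((scal d c : (Module.End ℂ (Fin d → ℂ))ˣ) : Module.End ℂ (Fin d → ℂ)) =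
    (c : ℂ) • (1 : Module.End ℂ (Fin d → ℂ)) := by
  simp [scal, Algebra.algebraMap_eq_smul_one]

theorem det_scal (c : ℂˣ) :
    LinearMap.det ((scal d c : (Module.End ℂ (Fin d → ℂ))ˣ) : Module.End ℂ (Fin d → ℂ)) =
      (c : ℂ) ^ d := by
  rw [scal_coe, LinearMap.det_smul, Module.finrank_fin_fun, map_one, mul_one]

theorem conjNormal_self (n n' : N) : MulAut.conjNormal (n : G) n' = n * n' * n⁻¹ := by
  apply Subtype.ext
  simp

theorem det_pow_card [Finite G] (n : N) : LinearMap.det (σ n) ^ Nat.card N = 1 := by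
  rw [← map_pow, ← map_pow, pow_card_eq_one', map_one, map_one]

/-- the copy of `N` inside the extension. -/
def jN {m : ℕ} (hm : ∀ n : N, LinearMap.det (σ n) ^ m = 1) : N →* Gam N σ m where
  toFun n := ⟨((n : G), MonoidHom.toHomUnits σ n), by
    rw [mem_Gam]
    refine ⟨?_, ?_⟩
    · intro n'
      simp only [MonoidHom.coe_toHomUnits]
      rw [conjNormal_self, ← map_mul, ← map_mul]
      congr 1
      group
    · simpa using hm n⟩
  map_one' := by
    apply Subtype.ext
    simp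
  map_mul' a b := by
    apply Subtype.ext
    simp

theorem prG_jN {m : ℕ} (hm : ∀ n : N, LinearMap.det (σ n) ^ m = 1) (n : N) :
    prG N σ m (jN N σ hm n) = n := rfl

theorem tau_jN {m : ℕ} (hm : ∀ n : N, LinearMap.det (σ n) ^ m = 1) (n : N) :
    tau N σ m (jN N σ hm n) = σ n := rfl

theorem prG_surjective [Finite G] [σ.IsIrreducible]
    (hinv : ∀ (g : G) (n : N), σ.character (MulAut.conjNormal g n) = σ.character n) {m : ℕ}
    (hm : 0 < m) : Function.Surjective (prG N σ m) := by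
  intro g
  let σg : Representation ℂ N (Fin d → ℂ) := σ.comp (MulAut.conjNormal g).toMonoidHom
  have hchar : σ.character = σg.character := by
    funext n
    exact (hinv g n).symm
  obtain ⟨e⟩ := equiv_of_char_eq σ σg hchar
  let T₀ : (Module.End ℂ (Fin d → ℂ))ˣ :=
    ⟨e.toLinearEquiv.toLinearMap, e.toLinearEquiv.symm.toLinearMap,
      LinearMap.ext fun v => e.toLinearEquiv.apply_symm_apply v,
      LinearMap.ext fun v => e.toLinearEquiv.symm_apply_apply v⟩
  have hT₀ : ∀ n : N, (T₀ : Module.End ℂ (Fin d → ℂ)) * σ n =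
      σ (MulAut.conjNormal g n) * (T₀ : Module.End ℂ (Fin d → ℂ)) := fun n => e.isIntertwining' n
  have hdet : LinearMap.det (T₀ : Module.End ℂ (Fin d → ℂ)) ≠ 0 :=
    (T₀.isUnit.map LinearMap.det).ne_zero
  have hd : 0 < d := by
    have := finrank_pos_of_irr σ
    rwa [Module.finrank_fin_fun] at this
  obtain ⟨c, hc⟩ := IsAlgClosed.exists_pow_nat_eq
    ((LinearMap.det (T₀ : Module.End ℂ (Fin d → ℂ)) ^ m)⁻¹) (Nat.mul_pos hd hm)
  have hc0 : c ≠ 0 := by
    intro h
    rw [h, zero_pow (Nat.mul_pos hd hm).ne'] at hc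
    exact inv_ne_zero (pow_ne_zero m hdet) hc.symm
  refine ⟨⟨(g, scal d (Units.mk0 c hc0) * T₀), ?_⟩, rfl⟩
  rw [mem_Gam]
  refine ⟨?_, ?_⟩
  · intro n
    simp only [Units.val_mul, scal_coe, Units.val_mk0]
    rw [mul_assoc, hT₀ n]
    simp
  · simp only [Units.val_mul, map_mul, det_scal, Units.val_mk0, mul_pow]
    rw [← pow_mul, hc, inv_mul_cancel₀ (pow_ne_zero m hdet)]

theorem scal_injective (hd : 0 < d) : Function.Injective (scal d) := by
  intro a b h
  have h1 := congrArg (fun u : (Module.End ℂ (Fin d → ℂ))ˣ =>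
    (u : Module.End ℂ (Fin d → ℂ)) (fun _ => 1) ⟨0, hd⟩) h
  simp only [scal_coe] at h1
  apply Units.ext
  simpa using h1

theorem scal_comm (c : ℂˣ) (T : (Module.End ℂ (Fin d → ℂ))ˣ) : scal d c * T = T * scal d c := by
  apply Units.ext
  simp [scal_coe]

/-- Schur: two twisted intertwiners differ by a scalar. -/
theorem exists_scal_of_intertwine [σ.IsIrreducible] (g : G) (T T' : (Module.End ℂ (Fin d → ℂ))ˣ)
    (hT : ∀ n : N, (T : Module.End ℂ (Fin d → ℂ)) * σ n =
      σ (MulAut.conjNormal g n) * (T : Module.End ℂ (Fin d → ℂ)))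
    (hT' : ∀ n : N, (T' : Module.End ℂ (Fin d → ℂ)) * σ n =
      σ (MulAut.conjNormal g n) * (T' : Module.End ℂ (Fin d → ℂ))) :
    ∃ c : ℂˣ, T' = scal d c * T := by
  have hd : 0 < d := by
    have := finrank_pos_of_irr σ
    rwa [Module.finrank_fin_fun] at this
  have hcomm : ∀ n : N, ((T⁻¹ * T' : (Module.End ℂ (Fin d → ℂ))ˣ) : Module.End ℂ (Fin d → ℂ)) * σ n
      = σ n * ((T⁻¹ * T' : (Module.End ℂ (Fin d → ℂ))ˣ) : Module.End ℂ (Fin d → ℂ)) := by
    intro n
    have h1 : ((T⁻¹ : (Module.End ℂ (Fin d → ℂ))ˣ) : Module.End ℂ (Fin d → ℂ)) *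
        σ (MulAut.conjNormal g n) = σ n * ((T⁻¹ : (Module.End ℂ (Fin d → ℂ))ˣ) :
          Module.End ℂ (Fin d → ℂ)) := by
      calc _ = ((T⁻¹ : (Module.End ℂ (Fin d → ℂ))ˣ) : Module.End ℂ (Fin d → ℂ)) *
            (σ (MulAut.conjNormal g n) * (T : Module.End ℂ (Fin d → ℂ))) *
            ((T⁻¹ : (Module.End ℂ (Fin d → ℂ))ˣ) : Module.End ℂ (Fin d → ℂ)) := by
              rw [mul_assoc, mul_assoc, Units.mul_inv, mul_one]
        _ = _ := by rw [← hT n, ← mul_assoc, Units.inv_mul, one_mul]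
    rw [Units.val_mul, mul_assoc, hT' n, ← mul_assoc, h1, mul_assoc]
  obtain ⟨c, hc⟩ := exists_scalar_of_irr σ
    ⟨((T⁻¹ * T' : (Module.End ℂ (Fin d → ℂ))ˣ) : Module.End ℂ (Fin d → ℂ)), hcomm⟩
  change ((T⁻¹ * T' : (Module.End ℂ (Fin d → ℂ))ˣ) : Module.End ℂ (Fin d → ℂ)) =
    c • LinearMap.id at hc
  have hc0 : c ≠ 0 := by
    intro h0
    rw [h0, zero_smul] at hc
    have h2 := (T⁻¹ * T').isUnit
    rw [hc] at h2
    haveI : Nontrivial (Fin d → ℂ) := by
      haveI : Nonempty (Fin d) := ⟨⟨0, hd⟩⟩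
      infer_instance
    exact not_isUnit_zero h2
  refine ⟨Units.mk0 c hc0, ?_⟩
  have h3 : T⁻¹ * T' = scal d (Units.mk0 c hc0) := by
    apply Units.ext
    rw [hc, scal_coe]
    rfl
  rw [scal_comm, ← h3, mul_inv_cancel_left]

/-- the central subgroup of scalars. -/
def zH (m : ℕ) : rootsOfUnity (d * m) ℂ →* Gam N σ m where
  toFun c := ⟨(1, scal d c), by
    rw [mem_Gam]
    refine ⟨?_, ?_⟩
    · intro n
      simp [scal_coe]
    · rw [det_scal, ← pow_mul]
      have := c.2
      rw [mem_rootsOfUnity] at this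
      have h2 := congrArg (fun u : ℂˣ => (u : ℂ)) this
      simpa using h2⟩
  map_one' := by
    apply Subtype.ext
    simp
  map_mul' a b := by
    apply Subtype.ext
    simp

theorem tau_zH (m : ℕ) (c : rootsOfUnity (d * m) ℂ) :
    tau N σ m (zH N σ m c) = ((c : ℂˣ) : ℂ) • (1 : Module.End ℂ (Fin d → ℂ)) := by
  rw [tau_apply]
  exact scal_coe _

theorem zH_comm (m : ℕ) (c : rootsOfUnity (d * m) ℂ) (x : Gam N σ m) :
    zH N σ m c * x = x * zH N σ m c := by
  apply Subtype.ext
  apply Prod.ext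
  · simp [zH]
  · simp only [zH, MonoidHom.coe_mk, OneHom.coe_mk, Subgroup.coe_mul, Prod.snd_mul]
    exact scal_comm _ _

theorem ker_prG [σ.IsIrreducible] (m : ℕ) : (prG N σ m).ker = (zH N σ m).range := by
  ext x
  rw [MonoidHom.mem_ker, MonoidHom.mem_range]
  constructor
  · intro hx
    rw [prG_apply] at hx
    obtain ⟨hx1, hx2⟩ := (mem_Gam N σ m x.1).mp x.2
    obtain ⟨c, hc⟩ := exists_scal_of_intertwine N σ 1 1 x.1.2 (by intro n; simp)
      (by rw [← hx]; exact hx1)
    rw [mul_one] at hc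
    have hc2 : c ∈ rootsOfUnity (d * m) ℂ := by
      rw [mem_rootsOfUnity]
      rw [hc, det_scal, ← pow_mul] at hx2
      apply Units.ext
      simpa using hx2
    refine ⟨⟨c, hc2⟩, ?_⟩
    apply Subtype.ext
    apply Prod.ext
    · exact hx.symm
    · exact hc.symm
  · rintro ⟨c, rfl⟩
    rfl

theorem finite_Gam [Finite G] [σ.IsIrreducible] {m : ℕ} (hm : 0 < m) : Finite (Gam N σ m) := by
  have hd : 0 < d := by
    have := finrank_pos_of_irr σ
    rwa [Module.finrank_fin_fun] at this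
  haveI : NeZero (d * m) := ⟨(Nat.mul_pos hd hm).ne'⟩
  rw [MonoidHom.finite_iff_finite_ker_range (prG N σ m), ker_prG]
  exact ⟨Set.finite_range _, inferInstance⟩

section RepTools

variable {Γ K Q V : Type*} [Group Γ] [Group K] [Group Q] [AddCommGroup V] [Module ℂ V]

theorem isIrreducible_of_comp (ρ : Representation ℂ Γ V) (j : K →* Γ)
    (h : Representation.IsIrreducible (MonoidHom.comp ρ j : Representation ℂ K V)) :
    ρ.IsIrreducible := by
  refine { exists_pair_ne := ⟨⊥, ⊤, ?_⟩, eq_bot_or_eq_top := ?_ }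
  · intro hbt
    have h1 := congrArg Subrepresentation.toSubmodule hbt
    have : (⊥ : Subrepresentation (MonoidHom.comp ρ j : Representation ℂ K V)) = ⊤ :=
      Subrepresentation.toSubmodule_injective h1
    exact bot_ne_top this
  · intro W
    let W' : Subrepresentation (MonoidHom.comp ρ j : Representation ℂ K V) :=
      ⟨W.toSubmodule, fun g v hv => W.apply_mem_toSubmodule (j g) hv⟩
    rcases eq_bot_or_eq_top W' with h1 | h1
    · left
      have h2 := congrArg Subrepresentation.toSubmodule h1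
      exact Subrepresentation.toSubmodule_injective h2
    · right
      have h2 := congrArg Subrepresentation.toSubmodule h1
      exact Subrepresentation.toSubmodule_injective h2

theorem isIrreducible_comp_of_surjective (ρ : Representation ℂ Q V) (f : Γ →* Q)
    (hf : Function.Surjective f) [h : ρ.IsIrreducible] :
    Representation.IsIrreducible (MonoidHom.comp ρ f : Representation ℂ Γ V) := by
  refine { exists_pair_ne := ⟨⊥, ⊤, ?_⟩, eq_bot_or_eq_top := ?_ }
  · intro hbt
    have h1 := congrArg Subrepresentation.toSubmodule hbt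
    have : (⊥ : Subrepresentation ρ) = ⊤ := Subrepresentation.toSubmodule_injective h1
    exact bot_ne_top this
  · intro W
    let W' : Subrepresentation ρ :=
      ⟨W.toSubmodule, fun g v hv => by
        obtain ⟨x, rfl⟩ := hf g
        exact W.apply_mem_toSubmodule x hv⟩
    rcases eq_bot_or_eq_top W' with h1 | h1
    · left
      have h2 := congrArg Subrepresentation.toSubmodule h1
      exact Subrepresentation.toSubmodule_injective h2
    · right
      have h2 := congrArg Subrepresentation.toSubmodule h1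
      exact Subrepresentation.toSubmodule_injective h2

theorem isIrrCharacter_comp_of_surjective (f : Γ →* Q) (hf : Function.Surjective f) {χ : Q → ℂ}
    (hχ : IsIrrCharacter Q χ) : IsIrrCharacter Γ (fun x => χ (f x)) := by
  obtain ⟨n, ρ, hρ, rfl⟩ := hχ
  exact ⟨n, MonoidHom.comp ρ f, isIrreducible_comp_of_surjective ρ f hf, rfl⟩

theorem rep_eq_of_map_eq (f : Γ →* Q) (ρ : Representation ℂ Γ V)
    (hker : ∀ x, f x = 1 → ρ x = 1) {x y : Γ} (h : f x = f y) : ρ x = ρ y := by
  have h1 : ρ (x * y⁻¹) = 1 := hker _ (by rw [map_mul, map_inv, h, mul_inv_cancel])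
  calc ρ x = ρ (x * y⁻¹ * y) := by rw [inv_mul_cancel_right]
    _ = ρ y := by rw [map_mul, h1, one_mul]

/-- descend a representation along a surjection. -/
noncomputable def descend (f : Γ →* Q) (hf : Function.Surjective f) (ρ : Representation ℂ Γ V)
    (hker : ∀ x, f x = 1 → ρ x = 1) : Representation ℂ Q V where
  toFun g := ρ (Function.surjInv hf g)
  map_one' := by
    rw [← map_one ρ]
    exact rep_eq_of_map_eq f ρ hker (by rw [Function.surjInv_eq hf, map_one])
  map_mul' a b := by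
    rw [← map_mul ρ]
    exact rep_eq_of_map_eq f ρ hker (by simp only [Function.surjInv_eq hf, map_mul])

theorem descend_apply (f : Γ →* Q) (hf : Function.Surjective f) (ρ : Representation ℂ Γ V)
    (hker : ∀ x, f x = 1 → ρ x = 1) (x : Γ) : descend f hf ρ hker (f x) = ρ x :=
  rep_eq_of_map_eq f ρ hker (Function.surjInv_eq hf (f x))

/-- twist a representation by a linear character. -/
def twist (β : Γ →* ℂˣ) (ρ : Representation ℂ Γ V) : Representation ℂ Γ V where
  toFun x := ((β x : ℂˣ) : ℂ) • ρ x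
  map_one' := by simp
  map_mul' a b := by
    simp only [map_mul, Units.val_mul]
    rw [smul_mul_smul_comm]

theorem twist_apply (β : Γ →* ℂˣ) (ρ : Representation ℂ Γ V) (x : Γ) :
    twist β ρ x = ((β x : ℂˣ) : ℂ) • ρ x := rfl

end RepTools

theorem exists_ext_of_hom [Finite G] [hσ : σ.IsIrreducible]
    (hinv : ∀ (g : G) (n : N), σ.character (MulAut.conjNormal g n) = σ.character n) {m : ℕ}
    (hm0 : 0 < m) (hm : ∀ n : N, LinearMap.det (σ n) ^ m = 1) (β : Gam N σ m →* ℂˣ)
    (h1 : ∀ n : N, β (jN N σ hm n) = 1)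
    (h2 : ∀ c : rootsOfUnity (d * m) ℂ, β (zH N σ m c) * c = 1) :
    ∃ ρ : Representation ℂ G (Fin d → ℂ), ρ.IsIrreducible ∧ (∀ n : N, ρ n = σ n) ∧
      ∀ x : Gam N σ m, ρ (prG N σ m x) = ((β x : ℂˣ) : ℂ) • tau N σ m x := by
  have hsurj := prG_surjective N σ hinv hm0
  have hker : ∀ x, prG N σ m x = 1 → twist β (tau N σ m) x = 1 := by
    intro x hx
    have hx' : x ∈ (prG N σ m).ker := hx
    rw [ker_prG] at hx'
    obtain ⟨c, rfl⟩ := hx'
    rw [twist_apply, tau_zH, smul_smul]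
    have := congrArg (fun u : ℂˣ => (u : ℂ)) (h2 c)
    simp only [Units.val_mul, Units.val_one] at this
    rw [this, one_smul]
  have hN' : ∀ n : N, descend (prG N σ m) hsurj (twist β (tau N σ m)) hker n = σ n := by
    intro n
    have := descend_apply (prG N σ m) hsurj (twist β (tau N σ m)) hker (jN N σ hm n)
    rw [prG_jN] at this
    rw [this, twist_apply, h1, tau_jN]
    simp
  refine ⟨descend (prG N σ m) hsurj (twist β (tau N σ m)) hker, ?_, hN', ?_⟩
  · apply isIrreducible_of_comp _ N.subtype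
    have : (MonoidHom.comp (descend (prG N σ m) hsurj (twist β (tau N σ m)) hker) N.subtype :
        Representation ℂ N (Fin d → ℂ)) = σ := by
      ext1 n
      exact hN' n
    rw [this]
    exact hσ
  · intro x
    rw [descend_apply, twist_apply]

end Cfsg.Agent.Lib.Helper7.ProjExt1
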