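import Mathlib
import Cfsg.Prelude.Def_Characters
import Cfsg.Agent.Lib.Helper7.All1

set_option autoImplicit false
set_option linter.style.haveILetI false
set_option linter.unusedSectionVars false
set_option linter.unusedVariables false
set_option linter.unusedSimpArgs false

namespace Cfsg.Agent.Lib.Helper7.Transfer1

open Module Representation Cfsg
open Cfsg.Agent.Lib.Helper7.CharBasic Cfsg.Agent.Lib.Helper7.CharIrr Cfsg.Agent.Lib.Helper7.CharDecomp Cfsg.Agent.Lib.Helper7.CharComplete Cfsg.Agent.Lib.Helper7.CharOrth Cfsg.Agent.Lib.Helper7.CharInd Cfsg.Agent.Lib.Helper7.CharIntegral Cfsg.Agent.Lib.Helper7.CharBurnside Cfsg.Agent.Lib.Helper7.CharLinear Cfsg.Agent.Lib.Helper7.CharEquiv Cfsg.Agent.Lib.Helper7.CharMore Cfsg.Agent.Lib.Helper7.CharCount Cfsg.Agent.Lib.Helper7.CharMisc Cfsg.Agent.Lib.Helper7.CharMisc2 Cfsg.Agent.Lib.Helper7.CharNormal Cfsg.Agent.Lib.Helper7.CharOdd Cfsg.Agent.Lib.Helper7.CharClifford Cfsg.Agent.Lib.Helper7.CharProd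 Cfsg.Agent.Lib.Helper7.CharPerm Cfsg.Agent.Lib.Helper7.CharClassAlg Cfsg.Agent.Lib.Helper7.CharClassAlg2 Cfsg.Agent.Lib.Helper7.CharCentral Cfsg.Agent.Lib.Helper7.CharNormal2 Cfsg.Agent.Lib.Helper7.CharCliffordCorr
open scoped ComplexConjugate

open scoped Pointwise

theorem transfer_normal {G : Type*} [Group G] {H : Subgroup G} [H.FiniteIndex] {A : Type*}
    [CommGroup A] (ϕ : H →* A) (a : G) (ha : ∀ g : G, g⁻¹ * a * g ∈ H) (b : A)
    (hinv : ∀ g : G, ϕ ⟨g⁻¹ * a * g, ha g⟩ = b) :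
    MonoidHom.transfer ϕ a = b ^ H.index := by
  classical
  let T : H.LeftTransversal := default
  rw [MonoidHom.transfer_def ϕ T a]
  unfold Subgroup.leftTransversals.diff
  letI := H.fintypeQuotientOfFiniteIndex
  have hfix : ∀ q : G ⧸ H, a⁻¹ • q = q := by
    intro q
    obtain ⟨g, rfl⟩ := QuotientGroup.mk_surjective q
    change ((a⁻¹ * g : G) : G ⧸ H) = (g : G ⧸ H)
    rw [QuotientGroup.eq]
    have := ha g
    simpa [mul_assoc] using this
  have key : ∀ q : G ⧸ H, ((T.2.leftQuotientEquiv q : G))⁻¹ * ((a • T).2.leftQuotientEquiv q : G) =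
      ((T.2.leftQuotientEquiv q : G))⁻¹ * a * (T.2.leftQuotientEquiv q : G) := by
    intro q
    rw [Subgroup.smul_apply_eq_smul_apply_inv_smul, hfix q, smul_eq_mul, mul_assoc]
  calc _ = ∏ q : G ⧸ H, b := by
        apply Finset.prod_congr rfl
        intro q _
        rw [← hinv (T.2.leftQuotientEquiv q : G)]
        congr 1
        exact Subtype.ext (key q)
    _ = b ^ H.index := by
        rw [Finset.prod_const, Finset.card_univ, Subgroup.index_eq_card, Nat.card_eq_fintype_card]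

theorem orderOf_hom_dvd_card {N : Type*} [Group N] [Finite N] (lam : N →* ℂˣ) :
    orderOf lam ∣ Nat.card N := by
  apply orderOf_dvd_of_pow_eq_one
  ext n
  simp only [MonoidHom.pow_apply, MonoidHom.one_apply]
  rw [← map_pow, pow_card_eq_one', map_one]

/-- The ideal of exponents `k` such that `lam ^ k` extends. -/
def extIdeal {G : Type*} [Group G] (N : Subgroup G) (lam : N →* ℂˣ) : Ideal ℤ where
  carrier := {k | ∃ μ : G →* ℂˣ, ∀ n : N, μ n = lam n ^ k}
  add_mem' := by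
    rintro a b ⟨μ, hμ⟩ ⟨ν, hν⟩
    exact ⟨μ * ν, fun n => by rw [MonoidHom.mul_apply, hμ, hν, zpow_add]⟩
  zero_mem' := ⟨1, fun n => by simp⟩
  smul_mem' := by
    rintro c a ⟨μ, hμ⟩
    exact ⟨μ ^ c, fun n => by
      rw [smul_eq_mul, mul_comm, zpow_mul, ← hμ]
      rfl⟩

theorem index_mem_extIdeal {G : Type*} [Group G] [Finite G] (N : Subgroup G) [hN : N.Normal]
    (lam : N →* ℂˣ)
    (hinv : ∀ (g : G) (n : N), lam ⟨g * n * g⁻¹, hN.conj_mem n n.2 g⟩ = lam n)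
    (H : Subgroup G) (hNH : N ≤ H) (ν : H →* ℂˣ) (hν : ∀ n : N, ν ⟨n, hNH n.2⟩ = lam n) :
    (H.index : ℤ) ∈ extIdeal N lam := by
  refine ⟨MonoidHom.transfer ν, fun n => ?_⟩
  have ha : ∀ g : G, g⁻¹ * (n : G) * g ∈ N := fun g => by
    have := hN.conj_mem n n.2 g⁻¹
    simpa using this
  rw [transfer_normal ν (n : G) (fun g => hNH (ha g)) (lam n), zpow_natCast]
  intro g
  have h1 := hν ⟨g⁻¹ * (n : G) * g, ha g⟩
  have h2 := hinv g⁻¹ n
  rw [← h2]
  refine h1.trans ?_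
  congr 1
  apply Subtype.ext
  simp

theorem extend_hom_of_sylow {G : Type*} [Group G] [Finite G] (N : Subgroup G) [hN : N.Normal]
    (lam : N →* ℂˣ)
    (hinv : ∀ (g : G) (n : N), lam ⟨g * n * g⁻¹, hN.conj_mem n n.2 g⟩ = lam n)
    (hsyl : ∀ p : ℕ, p.Prime → p ∣ orderOf lam → ∃ (H : Subgroup G) (hNH : N ≤ H) (ν : H →* ℂˣ),
      Nat.Coprime H.index p ∧ ∀ n : N, ν ⟨n, hNH n.2⟩ = lam n) :
    ∃ μ : G →* ℂˣ, ∀ n : N, μ n = lam n := by
  obtain ⟨k, hk⟩ := (IsPrincipalIdealRing.principal (extIdeal N lam)).principal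
  have hmem : ∀ a : ℤ, a ∈ extIdeal N lam ↔ k ∣ a := by
    intro a
    rw [hk]
    exact Ideal.mem_span_singleton
  have ho : (orderOf lam : ℤ) ∈ extIdeal N lam := by
    refine ⟨1, fun n => ?_⟩
    rw [zpow_natCast, ← MonoidHom.pow_apply, pow_orderOf_eq_one]
    rfl
  have hopos : 0 < orderOf lam :=
    Nat.pos_of_dvd_of_pos (orderOf_hom_dvd_card lam) Nat.card_pos
  have hk1 : k.natAbs = 1 := by
    by_contra hne
    obtain ⟨p, hp, hpk⟩ := Nat.exists_prime_and_dvd hne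
    have hpk' : (p : ℤ) ∣ k := Int.natCast_dvd.mpr hpk
    have h1 : p ∣ orderOf lam := Int.natCast_dvd_natCast.mp (hpk'.trans ((hmem _).mp ho))
    obtain ⟨H, hNH, ν, hcop, hν⟩ := hsyl p hp h1
    have h2 : p ∣ H.index := Int.natCast_dvd_natCast.mp
      (hpk'.trans ((hmem _).mp (index_mem_extIdeal N lam hinv H hNH ν hν)))
    have h3 : p ∣ Nat.gcd H.index p := Nat.dvd_gcd h2 dvd_rfl
    rw [hcop] at h3
    exact hp.one_lt.ne' (Nat.dvd_one.mp h3)
  have h1 : (1 : ℤ) ∈ extIdeal N lam := by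
    rw [hmem]
    exact Int.natAbs_dvd_natAbs.mp (by rw [hk1]; simp)
  obtain ⟨μ, hμ⟩ := h1
  exact ⟨μ, fun n => by rw [hμ, zpow_one]⟩

/-- homs to `ℂˣ` as functions. -/
def homToFun (N : Type*) [Group N] : (N →* ℂˣ) →* (N → ℂ) where
  toFun l := fun n => ((l n : ℂˣ) : ℂ)
  map_one' := by funext n; simp
  map_mul' a b := by funext n; simp

theorem homToFun_injective (N : Type*) [Group N] : Function.Injective (homToFun N) := by
  intro a b h
  ext n
  exact congrFun h n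

theorem orderOf_homToFun {N : Type*} [Group N] (l : N →* ℂˣ) :
    orderOf (fun n => ((l n : ℂˣ) : ℂ)) = orderOf l :=
  orderOf_injective (homToFun N) (homToFun_injective N) l

theorem pow_index_eq_one_of_trivial {G : Type*} [Group G] (N : Subgroup G) [hN : N.Normal]
    (δ : G →* ℂˣ) (h : ∀ n : N, δ n = 1) : δ ^ N.index = 1 := by
  ext g
  simp only [MonoidHom.pow_apply, MonoidHom.one_apply]
  rw [← map_pow]
  have := h ⟨g ^ N.index, Subgroup.pow_index_mem N g⟩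
  rw [this]

theorem coprime_ext {G : Type*} [Group G] [Finite G] (N : Subgroup G) [hN : N.Normal]
    (lam : N →* ℂˣ)
    (hinv : ∀ (g : G) (n : N), lam ⟨g * n * g⁻¹, hN.conj_mem n n.2 g⟩ = lam n)
    (hcop : Nat.Coprime N.index (orderOf lam)) :
    ∃ μ : G →* ℂˣ, (∀ n : N, μ n = lam n) ∧ orderOf μ = orderOf lam ∧
      ∀ μ' : G →* ℂˣ, (∀ n : N, μ' n = lam n) → Nat.Coprime N.index (orderOf μ') → μ' = μ := by
  obtain ⟨μ₀, hμ₀⟩ := extend_hom_of_sylow N lam hinv (fun p hp hpo =>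
    ⟨N, le_rfl, lam, Nat.Coprime.coprime_dvd_right hpo hcop, fun n => rfl⟩)
  set o := orderOf lam with ho
  set i := N.index with hi
  have hopos : 0 < o := Nat.pos_of_dvd_of_pos (orderOf_hom_dvd_card lam) Nat.card_pos
  -- Bezout
  have hbez : (i : ℤ) * Nat.gcdA i o + (o : ℤ) * Nat.gcdB i o = 1 := by
    have := Nat.gcd_eq_gcd_ab i o
    rw [hcop] at this
    simpa using this.symm
  set c : ℤ := (i : ℤ) * Nat.gcdA i o with hc
  have hlamo : ∀ n : N, lam n ^ (o : ℤ) = 1 := by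
    intro n
    rw [zpow_natCast, ← MonoidHom.pow_apply, ho, pow_orderOf_eq_one]
    rfl
  have hres : ∀ n : N, (μ₀ ^ c) n = lam n := by
    intro n
    have h1 : c = 1 - (o : ℤ) * Nat.gcdB i o := by linarith
    change (μ₀ n) ^ c = lam n
    rw [hμ₀, h1, zpow_sub, zpow_one, zpow_mul, hlamo, one_zpow, inv_one, mul_one]
  have hμ₀o : (μ₀ ^ o) ^ i = 1 := by
    apply pow_index_eq_one_of_trivial N
    intro n
    change (μ₀ n) ^ o = 1
    rw [hμ₀, ← zpow_natCast]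
    exact hlamo n
  have hpow : (μ₀ ^ c) ^ o = 1 := by
    refine MonoidHom.ext fun g => ?_
    have h := congrArg (fun f : G →* ℂˣ => f g) hμ₀o
    change ((μ₀ g) ^ o) ^ i = 1 at h
    change ((μ₀ g) ^ c) ^ o = 1
    have hx : (μ₀ g) ^ ((o : ℤ) * i) = 1 := by
      rw [zpow_mul, zpow_natCast, zpow_natCast]; exact h
    rw [← zpow_natCast, ← zpow_mul, hc,
      show (i : ℤ) * Nat.gcdA i o * (o : ℤ) = (o : ℤ) * i * Nat.gcdA i o by ring, zpow_mul, hx,
      one_zpow]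
  have hord : orderOf (μ₀ ^ c) = o := by
    apply Nat.dvd_antisymm (orderOf_dvd_of_pow_eq_one hpow)
    rw [ho]
    apply orderOf_dvd_of_pow_eq_one
    ext n
    have h2 : ((μ₀ ^ c) ^ orderOf (μ₀ ^ c)) (n : G) = 1 := by
      rw [pow_orderOf_eq_one]; rfl
    rw [MonoidHom.pow_apply, hres] at h2
    rw [MonoidHom.pow_apply, h2]
    rfl
  refine ⟨μ₀ ^ c, hres, hord, ?_⟩
  intro μ' hμ' hcop'
  set δ := μ' * (μ₀ ^ c)⁻¹ with hδ
  have h1 : δ ^ i = 1 := by
    apply pow_index_eq_one_of_trivial N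
    intro n
    change μ' n * ((μ₀ ^ c) n)⁻¹ = 1
    rw [hμ', hres, mul_inv_cancel]
  have h2 : δ ^ (orderOf μ' * o) = 1 := by
    refine MonoidHom.ext fun g => ?_
    have ha := congrArg (fun f : G →* ℂˣ => f g) (pow_orderOf_eq_one μ')
    change (μ' g) ^ orderOf μ' = 1 at ha
    have hb := congrArg (fun f : G →* ℂˣ => f g) hpow
    change ((μ₀ ^ c) g) ^ o = 1 at hb
    change (μ' g * ((μ₀ ^ c) g)⁻¹) ^ (orderOf μ' * o) = 1
    rw [mul_pow, pow_mul, ha, one_pow, one_mul, inv_pow, mul_comm, pow_mul, hb, one_pow, inv_one]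
  have h4 : Nat.gcd i (orderOf μ' * o) = 1 := Nat.Coprime.mul_right hcop' hcop
  refine MonoidHom.ext fun g => ?_
  have h1g := congrArg (fun f : G →* ℂˣ => f g) h1
  change (δ g) ^ i = 1 at h1g
  have h2g := congrArg (fun f : G →* ℂˣ => f g) h2
  change (δ g) ^ (orderOf μ' * o) = 1 at h2g
  have h3 : (δ g) ^ Nat.gcd i (orderOf μ' * o) = 1 := pow_gcd_eq_one.mpr ⟨h1g, h2g⟩
  rw [h4, pow_one] at h3
  change μ' g * ((μ₀ ^ c) g)⁻¹ = 1 at h3
  exact mul_inv_eq_one.mp h3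

end Cfsg.Agent.Lib.Helper7.Transfer1
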