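import Mathlib
import Cfsg.Prelude.Def_Characters
import Cfsg.Agent.Lib.Helper7.All1
import Cfsg.Agent.Lib.Helper7.ProjExt1
import Cfsg.Agent.Lib.Helper7.Transfer1

set_option autoImplicit false
set_option linter.style.haveILetI false
set_option linter.unusedSectionVars false
set_option linter.unusedVariables false
set_option linter.unusedSimpArgs false

namespace Cfsg.Agent.Lib.Helper7.ProjExt2

open Module Representation Cfsg
open Cfsg.Agent.Lib.Helper7.CharBasic Cfsg.Agent.Lib.Helper7.CharIrr Cfsg.Agent.Lib.Helper7.CharDecomp Cfsg.Agent.Lib.Helper7.CharComplete Cfsg.Agent.Lib.Helper7.CharOrth Cfsg.Agent.Lib.Helper7.CharInd Cfsg.Agent.Lib.Helper7.CharIntegral Cfsg.Agent.Lib.Helper7.CharBurnside Cfsg.Agent.Lib.Helper7.CharLinear Cfsg.Agent.Lib.Helper7.CharEquiv Cfsg.Agent.Lib.Helper7.CharMore Cfsg.Agent.Lib.Helper7.CharCount Cfsg.Agent.Lib.Helper7.CharMisc Cfsg.Agent.Lib.Helper7.CharMisc2 Cfsg.Agent.Lib.Helper7.CharNormal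 Cfsg.Agent.Lib.Helper7.CharOdd Cfsg.Agent.Lib.Helper7.CharClifford Cfsg.Agent.Lib.Helper7.CharProd Cfsg.Agent.Lib.Helper7.CharPerm Cfsg.Agent.Lib.Helper7.CharClassAlg Cfsg.Agent.Lib.Helper7.CharClassAlg2 Cfsg.Agent.Lib.Helper7.CharCentral Cfsg.Agent.Lib.Helper7.CharNormal2 Cfsg.Agent.Lib.Helper7.CharCliffordCorr Cfsg.Agent.Lib.Helper7.ProjExt1
open scoped ComplexConjugate
open Cfsg.Agent.Lib.Helper7.Transfer1

variable {G : Type*} [Group G] (N : Subgroup G) [hN : N.Normal] {d : ℕ}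
  (σ : Representation ℂ N (Fin d → ℂ))

theorem exists_hom_of_scal {H : Type*} [Group H] (hd : 0 < d)
    (A B : H →* (Module.End ℂ (Fin d → ℂ))ˣ) (h : ∀ x, ∃ c : ℂˣ, A x = scal d c * B x) :
    ∃ ν : H →* ℂˣ, ∀ x, A x = scal d (ν x) * B x := by
  choose ν hν using h
  refine ⟨MonoidHom.mk' ν ?_, hν⟩
  intro x y
  apply scal_injective hd
  have h1 : scal d (ν (x * y)) * B (x * y) = scal d (ν x * ν y) * B (x * y) := by
    rw [← hν, map_mul, hν x, hν y, map_mul, map_mul, mul_assoc, mul_assoc,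
      ← mul_assoc (B x), ← scal_comm, mul_assoc]
  exact mul_right_cancel h1

theorem exists_hom_of_ext [Finite G] [hσ : σ.IsIrreducible] {m : ℕ}
    (hm : ∀ n : N, LinearMap.det (σ n) ^ m = 1) (P : Subgroup G) (hNP : N ≤ P)
    (η : P → ℂ) (hη : IsCharacter P η) (hηN : ∀ n : N, η ⟨n, hNP n.2⟩ = σ.character n) :
    ∃ ν : (P.comap (prG N σ m)) →* ℂˣ,
      (∀ (n : N) (h : jN N σ hm n ∈ P.comap (prG N σ m)), ν ⟨jN N σ hm n, h⟩ = 1) ∧
      (∀ (c : rootsOfUnity (d * m) ℂ) (h : zH N σ m c ∈ P.comap (prG N σ m)),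
        ν ⟨zH N σ m c, h⟩ * c = 1) := by
  have hd : 0 < d := by
    have := finrank_pos_of_irr σ
    rwa [Module.finrank_fin_fun] at this
  obtain ⟨d', τ, hτ⟩ := hη
  have hdd : d' = d := by
    have h1 := hηN 1
    rw [← hτ] at h1
    have h2 : (⟨((1 : N) : G), hNP (1 : N).2⟩ : P) = 1 := rfl
    rw [h2, char_one, char_one, Module.finrank_fin_fun, Module.finrank_fin_fun] at h1
    exact_mod_cast h1
  subst hdd
  let τN : Representation ℂ N (Fin d' → ℂ) := MonoidHom.comp τ (Subgroup.inclusion hNP)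
  have hchar : τN.character = σ.character := by
    funext n
    rw [← hηN n, ← hτ]
    rfl
  obtain ⟨e⟩ := equiv_of_char_eq τN σ hchar
  let E : (Module.End ℂ (Fin d' → ℂ))ˣ :=
    ⟨e.toLinearEquiv.toLinearMap, e.toLinearEquiv.symm.toLinearMap,
      LinearMap.ext fun v => e.toLinearEquiv.apply_symm_apply v,
      LinearMap.ext fun v => e.toLinearEquiv.symm_apply_apply v⟩
  have hE : ∀ n : N, (E : Module.End ℂ (Fin d' → ℂ)) * τ (Subgroup.inclusion hNP n) =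
      σ n * (E : Module.End ℂ (Fin d' → ℂ)) := fun n => e.isIntertwining' n
  let τ' : P →* (Module.End ℂ (Fin d' → ℂ))ˣ :=
    (MulAut.conj E).toMonoidHom.comp (MonoidHom.toHomUnits τ)
  have hτ' : ∀ n : N, τ' (Subgroup.inclusion hNP n) = MonoidHom.toHomUnits σ n := by
    intro n
    apply Units.ext
    change (E : Module.End ℂ (Fin d' → ℂ)) * τ (Subgroup.inclusion hNP n) *
      ((E⁻¹ : (Module.End ℂ (Fin d' → ℂ))ˣ) : Module.End ℂ (Fin d' → ℂ)) = σ n
    rw [hE n, mul_assoc, Units.mul_inv, mul_one]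
  let A : (P.comap (prG N σ m)) →* (Module.End ℂ (Fin d' → ℂ))ˣ :=
    τ'.comp ((prG N σ m).subgroupComap P)
  let B : (P.comap (prG N σ m)) →* (Module.End ℂ (Fin d' → ℂ))ˣ :=
    ((MonoidHom.snd _ _).comp (Gam N σ m).subtype).comp (P.comap (prG N σ m)).subtype
  have hAB : ∀ x, ∃ c : ℂˣ, A x = scal d' c * B x := by
    intro x
    apply exists_scal_of_intertwine N σ (x.1.1.1)
    · exact ((mem_Gam N σ m x.1.1).mp x.1.2).1
    · intro n
      have h1 : (σ n : Module.End ℂ (Fin d' → ℂ)) =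
          ((τ' (Subgroup.inclusion hNP n) : (Module.End ℂ (Fin d' → ℂ))ˣ) :
            Module.End ℂ (Fin d' → ℂ)) := by rw [hτ']; rfl
      have h2 : (σ (MulAut.conjNormal x.1.1.1 n) : Module.End ℂ (Fin d' → ℂ)) =
          ((τ' (Subgroup.inclusion hNP (MulAut.conjNormal x.1.1.1 n)) :
            (Module.End ℂ (Fin d' → ℂ))ˣ) : Module.End ℂ (Fin d' → ℂ)) := by rw [hτ']; rfl
      rw [h1, h2, ← Units.val_mul, ← Units.val_mul]
      congr 1
      change τ' _ * τ' _ = τ' _ * τ' _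
      rw [← map_mul, ← map_mul]
      congr 1
      apply Subtype.ext
      change x.1.1.1 * (n : G) = ((MulAut.conjNormal x.1.1.1 n : N) : G) * x.1.1.1
      rw [MulAut.conjNormal_apply, inv_mul_cancel_right]
  obtain ⟨ν, hν⟩ := exists_hom_of_scal hd A B hAB
  refine ⟨ν, ?_, ?_⟩
  · intro n h
    have h1 := hν ⟨jN N σ hm n, h⟩
    have h2 : A ⟨jN N σ hm n, h⟩ = MonoidHom.toHomUnits σ n := hτ' n
    have h3 : B ⟨jN N σ hm n, h⟩ = MonoidHom.toHomUnits σ n := rfl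
    rw [h2, h3] at h1
    apply scal_injective hd
    rw [map_one]
    exact (mul_eq_right.mp h1.symm)
  · intro c h
    have h1 := hν ⟨zH N σ m c, h⟩
    have h2 : A ⟨zH N σ m c, h⟩ = 1 := by
      change τ' _ = 1
      rw [← map_one τ']
      rfl
    have h3 : B ⟨zH N σ m c, h⟩ = scal d' c := rfl
    rw [h2, h3, ← map_mul] at h1
    apply scal_injective hd
    rw [map_one]
    exact h1.symm

theorem exists_eq_zH_mul_jN [hσ : σ.IsIrreducible] {m : ℕ}
    (hm : ∀ n : N, LinearMap.det (σ n) ^ m = 1) (x : Gam N σ m) (hx : prG N σ m x ∈ N) :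
    ∃ (c : rootsOfUnity (d * m) ℂ) (n : N), x = zH N σ m c * jN N σ hm n := by
  have h1 : x * (jN N σ hm ⟨prG N σ m x, hx⟩)⁻¹ ∈ (prG N σ m).ker := by
    rw [MonoidHom.mem_ker, map_mul, map_inv, prG_jN, mul_inv_cancel]
  rw [ker_prG] at h1
  obtain ⟨c, hc⟩ := h1
  exact ⟨c, ⟨prG N σ m x, hx⟩, by rw [hc, inv_mul_cancel_right]⟩

theorem conj_jN {m : ℕ} (hm : ∀ n : N, LinearMap.det (σ n) ^ m = 1) (x : Gam N σ m) (n : N) :
    x * jN N σ hm n * x⁻¹ = jN N σ hm (MulAut.conjNormal (prG N σ m x) n) := by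
  rw [mul_inv_eq_iff_eq_mul]
  apply Subtype.ext
  apply Prod.ext
  · change x.1.1 * (n : G) = ((MulAut.conjNormal x.1.1 n : N) : G) * x.1.1
    rw [MulAut.conjNormal_apply, inv_mul_cancel_right]
  · apply Units.ext
    exact ((mem_Gam N σ m x.1).mp x.2).1 n

/-- a hom on a subgroup of the extension which kills `N` and inverts the scalars. -/
def IsGood {m : ℕ} (hm : ∀ n : N, LinearMap.det (σ n) ^ m = 1) (H : Subgroup (Gam N σ m))
    (ν : H →* ℂˣ) : Prop :=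
  (∀ (n : N) (h : jN N σ hm n ∈ H), ν ⟨jN N σ hm n, h⟩ = 1) ∧
  (∀ (c : rootsOfUnity (d * m) ℂ) (h : zH N σ m c ∈ H), ν ⟨zH N σ m c, h⟩ * c = 1)

theorem IsGood.apply {m : ℕ} {hm : ∀ n : N, LinearMap.det (σ n) ^ m = 1}
    {H : Subgroup (Gam N σ m)} {ν : H →* ℂˣ} (hν : IsGood N σ hm H ν)
    (c : rootsOfUnity (d * m) ℂ) (n : N) (h1 : zH N σ m c ∈ H) (h2 : jN N σ hm n ∈ H) :
    ν ⟨zH N σ m c * jN N σ hm n, H.mul_mem h1 h2⟩ = (c : ℂˣ)⁻¹ := by
  have : (⟨zH N σ m c * jN N σ hm n, H.mul_mem h1 h2⟩ : H) =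
      ⟨zH N σ m c, h1⟩ * ⟨jN N σ hm n, h2⟩ := rfl
  rw [this, map_mul, hν.1 n h2, mul_one]
  exact eq_inv_of_mul_eq_one_left (hν.2 c h1)

theorem exists_ext_of_sylow [Finite G] [hσ : σ.IsIrreducible]
    (hinv : ∀ (g : G) (n : N), σ.character (MulAut.conjNormal g n) = σ.character n)
    (hsyl : ∀ p : ℕ, p.Prime → ∃ (P : Subgroup G) (hNP : N ≤ P) (η : P → ℂ),
      Nat.Coprime P.index p ∧ IsCharacter P η ∧ ∀ n : N, η ⟨n, hNP n.2⟩ = σ.character n) :
    ∃ ρ : Representation ℂ G (Fin d → ℂ), ρ.IsIrreducible ∧ ∀ n : N, ρ n = σ n := by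
  have hm0 : 0 < Nat.card N := Nat.card_pos
  have hm := det_pow_card N σ
  haveI := finite_Gam N σ hm0
  have hsurj := prG_surjective N σ hinv hm0
  obtain ⟨lam, hlam⟩ := exists_hom_of_ext N σ hm N le_rfl σ.character ⟨d, σ, rfl⟩ (fun n => rfl)
  have hlam' : IsGood N σ hm _ lam := hlam
  have hzA : ∀ c, zH N σ (Nat.card N) c ∈ N.comap (prG N σ (Nat.card N)) := fun c => N.one_mem
  have hjA : ∀ n, jN N σ hm n ∈ N.comap (prG N σ (Nat.card N)) := fun n => n.2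
  obtain ⟨β, hβ⟩ := extend_hom_of_sylow (N.comap (prG N σ (Nat.card N))) lam
    (by
      intro x a
      obtain ⟨c, n, hcn⟩ := exists_eq_zH_mul_jN N σ hm a.1 a.2
      have h1 : x * a.1 * x⁻¹ = zH N σ _ c * jN N σ hm (MulAut.conjNormal (prG N σ _ x) n) := by
        rw [hcn, ← conj_jN, ← mul_assoc, ← mul_assoc, ← zH_comm]
        simp only [mul_assoc]
      have h2 : a = ⟨zH N σ _ c * jN N σ hm n, Subgroup.mul_mem _ (hzA c) (hjA n)⟩ :=
        Subtype.ext hcn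
      have h3 : (⟨x * a.1 * x⁻¹, Subgroup.Normal.conj_mem inferInstance a.1 a.2 x⟩ :
          N.comap (prG N σ (Nat.card N))) =
          ⟨zH N σ _ c * jN N σ hm (MulAut.conjNormal (prG N σ _ x) n),
            Subgroup.mul_mem _ (hzA c) (hjA _)⟩ := Subtype.ext h1
      rw [h3, IsGood.apply N σ hlam' c _ (hzA c) (hjA _), h2,
        IsGood.apply N σ hlam' c n (hzA c) (hjA n)])
    (by
      intro p hp _
      obtain ⟨P, hNP, η, hcop, hη, hηN⟩ := hsyl p hp
      obtain ⟨ν, hν⟩ := exists_hom_of_ext N σ hm P hNP η hη hηN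
      have hν' : IsGood N σ hm _ ν := hν
      refine ⟨P.comap (prG N σ (Nat.card N)), Subgroup.comap_mono hNP, ν, ?_, ?_⟩
      · rw [Subgroup.index_comap_of_surjective P hsurj]
        exact hcop
      · intro a
        obtain ⟨c, n, hcn⟩ := exists_eq_zH_mul_jN N σ hm a.1 a.2
        have h2 : a = ⟨zH N σ _ c * jN N σ hm n, Subgroup.mul_mem _ (hzA c) (hjA n)⟩ :=
          Subtype.ext hcn
        have h3 : (⟨a.1, Subgroup.comap_mono hNP a.2⟩ : P.comap (prG N σ (Nat.card N))) =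
          ⟨zH N σ _ c * jN N σ hm n, Subgroup.mul_mem _ (Subgroup.comap_mono hNP (hzA c))
            (Subgroup.comap_mono hNP (hjA n))⟩ := Subtype.ext hcn
        rw [h3, IsGood.apply N σ hν' c n (Subgroup.comap_mono hNP (hzA c))
          (Subgroup.comap_mono hNP (hjA n)), h2, IsGood.apply N σ hlam' c n (hzA c) (hjA n)])
  obtain ⟨ρ, h1, h2, -⟩ := exists_ext_of_hom N σ hinv hm0 hm β
    (fun n => by
      have := hβ ⟨jN N σ hm n, hjA n⟩
      rw [this]
      exact hlam'.1 n _)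
    (fun c => by
      have := hβ ⟨zH N σ _ c, hzA c⟩
      rw [this]
      exact hlam'.2 c _)
  exact ⟨ρ, h1, h2⟩

end Cfsg.Agent.Lib.Helper7.ProjExt2
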