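import Mathlib
import Cfsg.Prelude.Def_Characters
import Cfsg.Agent.Lib.Helper7.All1
import Cfsg.Agent.Lib.Helper7.ProjExt1
import Cfsg.Agent.Lib.Helper7.ProjExt2
import Cfsg.Agent.Lib.Helper7.Transfer1

set_option autoImplicit false
set_option linter.style.haveILetI false
set_option linter.unusedSectionVars false
set_option linter.unusedVariables false
set_option linter.unusedSimpArgs false

namespace Cfsg.Agent.Lib.Helper7.ProjExt4

open Module Representation Cfsg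
open Cfsg.Agent.Lib.Helper7.CharBasic Cfsg.Agent.Lib.Helper7.CharIrr Cfsg.Agent.Lib.Helper7.CharDecomp Cfsg.Agent.Lib.Helper7.CharComplete Cfsg.Agent.Lib.Helper7.CharOrth Cfsg.Agent.Lib.Helper7.CharInd Cfsg.Agent.Lib.Helper7.CharIntegral Cfsg.Agent.Lib.Helper7.CharBurnside Cfsg.Agent.Lib.Helper7.CharLinear Cfsg.Agent.Lib.Helper7.CharEquiv Cfsg.Agent.Lib.Helper7.CharMore Cfsg.Agent.Lib.Helper7.CharCount Cfsg.Agent.Lib.Helper7.CharMisc Cfsg.Agent.Lib.Helper7.CharMisc2 Cfsg.Agent.Lib.Helper7.CharNormal Cfsg.Agent.Lib.Helper7.CharOdd Cfsg.Agent.Lib.Helper7.CharClifford Cfsg.Agent.Lib.Helper7.CharProd Cfsg.Agent.Lib.Helper7.CharPerm Cfsg.Agent.Lib.Helper7.CharClassAlg Cfsg.Agent.Lib.Helper7.CharClassAlg2 Cfsg.Agent.Lib.Helper7.CharCentral Cfsg.Agent.Lib.Helper7.CharNormal2 Cfsg.Agent.Lib.Helper7.CharCliffordCorr Cfsg.Agent.Lib.Helper7.ProjExt1 Cfsg.Agent.Lib.Helper7.ProjExt2 Cfsg.Agent.Lib.Helper7.Transfer1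
open scoped ComplexConjugate

variable {G : Type*} [Group G]

theorem exists_over [Fintype G] (N : Subgroup G) [Fintype N] {θ : N → ℂ}
    (hθ : IsIrrCharacter N θ) :
    ∃ χ : G → ℂ, IsIrrCharacter G χ ∧ classInner (fun n : N => χ n) θ ≠ 0 := by
  have h0 : indFun N θ ≠ 0 := by
    intro h
    have h1 := congrFun h 1
    rw [indFun_one] at h1
    have h2 : (N.index : ℂ) ≠ 0 := by exact_mod_cast Subgroup.index_ne_zero_of_finite
    exact mul_ne_zero h2 (irr_one_ne_zero hθ) h1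
  obtain ⟨χ, hχ, hc⟩ := exists_constituent (indFun_isClassFunction N θ) h0
  refine ⟨χ, hχ, ?_⟩
  rw [frobenius_reciprocity N θ χ (IsIrrCharacter.isClassFunction hχ)] at hc
  intro h
  apply hc
  rw [← classInner_conj_symm, h, map_zero]

theorem restrict_of_invariant [Fintype G] (N : Subgroup G) [hN : N.Normal] [Fintype N]
    {χ : G → ℂ} (hχ : IsIrrCharacter G χ) {θ : N → ℂ} (hθ : IsIrrCharacter N θ)
    (hinv : ∀ (g : G) (n : N), θ ⟨g * n * g⁻¹, hN.conj_mem n n.2 g⟩ = θ n)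
    (hcon : classInner (fun n : N => χ n) θ ≠ 0) (n : N) : χ n = χ 1 / θ 1 * θ n := by
  have h1 := restrict_eq_smul_sum_conjFun N hχ hθ hcon
  have h2 : ∀ s : G, conjFun N θ s = θ := fun s => funext fun n => hinv s n
  simp only [h2, Finset.sum_const, Finset.card_univ] at h1
  have h3 := congrFun h1 1
  have h4 := congrFun h1 n
  simp only [Pi.smul_apply, smul_eq_mul, Subgroup.coe_one] at h3 h4
  rw [h4, h3]
  have := irr_one_ne_zero hθ
  simp only [nsmul_eq_mul]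
  field_simp

theorem exists_dec_of_cyclic (A : Subgroup G) [hA : A.Normal] (hcyc : IsCyclic (G ⧸ A)) :
    ∃ x : G, ∀ y : G, ∃ (i : ℤ) (a : A), y = x ^ i * a := by
  obtain ⟨q, hq⟩ := hcyc.exists_generator
  obtain ⟨x, rfl⟩ := QuotientGroup.mk_surjective q
  refine ⟨x, ?_⟩
  intro y
  obtain ⟨i, hi⟩ := Subgroup.mem_zpowers_iff.mp (hq (y : G ⧸ A))
  have h1 : ((x ^ i : G) : G ⧸ A) = (y : G ⧸ A) := by
    rw [← hi]; rfl
  rw [QuotientGroup.eq] at h1
  exact ⟨i, ⟨_, h1⟩, by simp⟩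

theorem extend_hom_of_dec [Finite G] (A : Subgroup G) [hA : A.Normal]
    (x : G) (hdec : ∀ y : G, ∃ (i : ℤ) (a : A), y = x ^ i * a) (lam : A →* ℂˣ)
    (hinv : ∀ (g : G) (n : A), lam ⟨g * n * g⁻¹, hA.conj_mem n n.2 g⟩ = lam n) :
    ∃ μ : G →* ℂˣ, ∀ a : A, μ a = lam a := by
  classical
  haveI := Fintype.ofFinite G
  have hθ := isIrrCharacter_of_hom lam
  obtain ⟨χ, hχ, hcon⟩ := exists_over A hθ
  have hres := restrict_of_invariant A hχ hθ (fun g n => by rw [hinv g n]) hcon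
  simp only [map_one, Units.val_one, div_one] at hres
  obtain ⟨k, ρ, hρ, hρχ⟩ := hχ
  haveI := hρ
  have hk : χ 1 = (k : ℂ) := by rw [← hρχ, char_one, Module.finrank_fin_fun]
  have hscal : ∀ a : A, ∃ ω : ℂ, ρ a = ω • (LinearMap.id : (Fin k → ℂ) →ₗ[ℂ] (Fin k → ℂ)) := by
    intro a
    rw [← norm_char_eq_finrank_iff, hρχ, hres a, hk, Module.finrank_fin_fun, norm_mul]
    have h1 : ‖((lam a : ℂˣ) : ℂ)‖ = 1 := by
      have h2 : ((lam a : ℂˣ) : ℂ) ^ Nat.card A = 1 := by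
        rw [← Units.val_pow_eq_pow_val, ← map_pow, pow_card_eq_one', map_one, Units.val_one]
      exact Complex.norm_eq_one_of_pow_eq_one h2 Nat.card_pos.ne'
    rw [h1, mul_one]
    simp
  have hAc : ∀ a : A, (a : G) ∈ repCenter ρ := fun a => by
    obtain ⟨ω, hω⟩ := hscal a
    exact mem_repCenter_of_scalar ρ hω
  have hx : x ∈ repCenter ρ := by
    intro y
    obtain ⟨i, a, rfl⟩ := hdec y
    have h1 := hAc a x
    have h2 : ρ x * ρ (x ^ i) = ρ (x ^ i) * ρ x := by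
      rw [← map_mul, ← map_mul, ← zpow_one_add, ← zpow_add_one, add_comm]
    rw [map_mul, ← mul_assoc, h2, mul_assoc, mul_assoc, h1]
  have hall : ∀ y, ∃ ω : ℂ, ρ y = ω • (LinearMap.id : (Fin k → ℂ) →ₗ[ℂ] (Fin k → ℂ)) := by
    intro y
    obtain ⟨i, a, rfl⟩ := hdec y
    exact exists_scalar_of_mem_repCenter ρ
      ((repCenter ρ).mul_mem ((repCenter ρ).zpow_mem hx i) (hAc a))
  have hk1 := finrank_eq_one_of_forall_scalar ρ hall
  rw [Module.finrank_fin_fun] at hk1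
  obtain ⟨μ, hμ⟩ := exists_hom_of_irr_of_one (χ := χ) ⟨k, ρ, hρχ⟩ (by rw [hk, hk1]; simp)
  refine ⟨μ, fun a => ?_⟩
  apply Units.ext
  have h1 := hres a
  rw [hk, hk1, hμ] at h1
  simpa using h1

section Canon

variable (N : Subgroup G) [hN : N.Normal] {d : ℕ} (σ : Representation ℂ N (Fin d → ℂ))

theorem zH_mem_comap (m : ℕ) (c : rootsOfUnity (d * m) ℂ) :
    zH N σ m c ∈ N.comap (prG N σ m) := N.one_mem

theorem jN_mem_comap {m : ℕ} (hm : ∀ n : N, LinearMap.det (σ n) ^ m = 1) (n : N) :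
    jN N σ hm n ∈ N.comap (prG N σ m) := n.2

theorem good_invariant [hσ : σ.IsIrreducible] {m : ℕ}
    (hm : ∀ n : N, LinearMap.det (σ n) ^ m = 1) (lam : (N.comap (prG N σ m)) →* ℂˣ)
    (hlam : IsGood N σ hm _ lam) (x : Gam N σ m) (a : N.comap (prG N σ m)) :
    lam ⟨x * a * x⁻¹, Subgroup.Normal.conj_mem inferInstance a.1 a.2 x⟩ = lam a := by
  obtain ⟨c, n, hcn⟩ := exists_eq_zH_mul_jN N σ hm a.1 a.2
  have h1 : x * a.1 * x⁻¹ = zH N σ _ c * jN N σ hm (MulAut.conjNormal (prG N σ _ x) n) := by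
    rw [hcn, ← conj_jN, ← mul_assoc, ← mul_assoc, ← zH_comm]
    simp only [mul_assoc]
  have h2 : a = ⟨zH N σ _ c * jN N σ hm n,
      Subgroup.mul_mem _ (zH_mem_comap N σ m c) (jN_mem_comap N σ hm n)⟩ := Subtype.ext hcn
  have h3 : (⟨x * a.1 * x⁻¹, Subgroup.Normal.conj_mem inferInstance a.1 a.2 x⟩ :
      N.comap (prG N σ m)) =
      ⟨zH N σ _ c * jN N σ hm (MulAut.conjNormal (prG N σ _ x) n),
        Subgroup.mul_mem _ (zH_mem_comap N σ m c) (jN_mem_comap N σ hm _)⟩ := Subtype.ext h1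
  rw [h3, IsGood.apply N σ hlam c _ (zH_mem_comap N σ m c) (jN_mem_comap N σ hm _), h2,
    IsGood.apply N σ hlam c n (zH_mem_comap N σ m c) (jN_mem_comap N σ hm n)]

theorem exists_good [Finite G] [hσ : σ.IsIrreducible] {m : ℕ}
    (hm : ∀ n : N, LinearMap.det (σ n) ^ m = 1) :
    ∃ lam : (N.comap (prG N σ m)) →* ℂˣ, IsGood N σ hm _ lam :=
  exists_hom_of_ext N σ hm N le_rfl σ.character ⟨d, σ, rfl⟩ (fun n => rfl)

theorem exists_ext_of_good [Finite G] [hσ : σ.IsIrreducible]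
    (hinv : ∀ (g : G) (n : N), σ.character (MulAut.conjNormal g n) = σ.character n) {m : ℕ}
    (hm0 : 0 < m) (hm : ∀ n : N, LinearMap.det (σ n) ^ m = 1)
    (lam : (N.comap (prG N σ m)) →* ℂˣ) (hlam : IsGood N σ hm _ lam)
    (β : Gam N σ m →* ℂˣ) (hβ : ∀ a : N.comap (prG N σ m), β a = lam a) :
    ∃ ρ : Representation ℂ G (Fin d → ℂ), ρ.IsIrreducible ∧ (∀ n : N, ρ n = σ n) ∧
      ∀ x : Gam N σ m, ρ (prG N σ m x) = ((β x : ℂˣ) : ℂ) • tau N σ m x :=
  exists_ext_of_hom N σ hinv hm0 hm β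
    (fun n => by
      have := hβ ⟨jN N σ hm n, jN_mem_comap N σ hm n⟩
      rw [this]
      exact hlam.1 n _)
    (fun c => by
      have := hβ ⟨zH N σ _ c, zH_mem_comap N σ m c⟩
      rw [this]
      exact hlam.2 c _)

theorem exists_ext_of_cyclic [Finite G] [hσ : σ.IsIrreducible]
    (hinv : ∀ (g : G) (n : N), σ.character (MulAut.conjNormal g n) = σ.character n)
    (hcyc : IsCyclic (G ⧸ N)) :
    ∃ ρ : Representation ℂ G (Fin d → ℂ), ρ.IsIrreducible ∧ ∀ n : N, ρ n = σ n := by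
  have hm0 : 0 < Nat.card N := Nat.card_pos
  have hm := det_pow_card N σ
  haveI := finite_Gam N σ hm0
  have hsurj := prG_surjective N σ hinv hm0
  obtain ⟨lam, hlam⟩ := exists_good N σ hm
  obtain ⟨g₀, hg₀⟩ := exists_dec_of_cyclic N hcyc
  obtain ⟨x₀, hx₀⟩ := hsurj g₀
  obtain ⟨β, hβ⟩ := extend_hom_of_dec (N.comap (prG N σ (Nat.card N))) x₀ (by
    intro y
    obtain ⟨i, a, hia⟩ := hg₀ (prG N σ _ y)
    refine ⟨i, ⟨(x₀ ^ i)⁻¹ * y, ?_⟩, by simp⟩
    rw [Subgroup.mem_comap, map_mul, map_inv, map_zpow, hx₀, hia, inv_mul_cancel_left]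
    exact a.2) lam (good_invariant N σ hm lam hlam)
  obtain ⟨ρ, h1, h2, -⟩ := exists_ext_of_good N σ hinv hm0 hm lam hlam β hβ
  exact ⟨ρ, h1, h2⟩

end Canon

end Cfsg.Agent.Lib.Helper7.ProjExt4
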