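import Mathlib
import Cfsg.Prelude.Def_Characters
import Cfsg.Prelude.Def_CharExt
import Cfsg.Agent.Lib.Helper7.All1
import Cfsg.Agent.Lib.Helper7.ProjExt1
import Cfsg.Agent.Lib.Helper7.ProjExt2
import Cfsg.Agent.Lib.Helper7.Transfer1
import Cfsg.Agent.Lib.Helper7.ProjExt4
import Cfsg.Agent.Lib.Helper7.CharGallagher
import Cfsg.Agent.Lib.Helper7.CharGallagher2

set_option autoImplicit false
set_option linter.style.haveILetI false
set_option linter.unusedSectionVars false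
set_option linter.unusedVariables false
set_option linter.unusedSimpArgs false

namespace Cfsg.Agent.Lib.Helper7.ProjExt5

open Module Representation Cfsg
open Cfsg.Agent.Lib.Helper7.CharBasic Cfsg.Agent.Lib.Helper7.CharIrr Cfsg.Agent.Lib.Helper7.CharDecomp Cfsg.Agent.Lib.Helper7.CharComplete Cfsg.Agent.Lib.Helper7.CharOrth Cfsg.Agent.Lib.Helper7.CharInd Cfsg.Agent.Lib.Helper7.CharIntegral Cfsg.Agent.Lib.Helper7.CharBurnside Cfsg.Agent.Lib.Helper7.CharLinear Cfsg.Agent.Lib.Helper7.CharEquiv Cfsg.Agent.Lib.Helper7.CharMore Cfsg.Agent.Lib.Helper7.CharCount Cfsg.Agent.Lib.Helper7.CharMisc Cfsg.Agent.Lib.Helper7.CharMisc2 Cfsg.Agent.Lib.Helper7.CharNormal Cfsg.Agent.Lib.Helper7.CharOdd Cfsg.Agent.Lib.Helper7.CharClifford Cfsg.Agent.Lib.Helper7.CharProd Cfsg.Agent.Lib.Helper7.CharPerm Cfsg.Agent.Lib.Helper7.CharClassAlg Cfsg.Agent.Lib.Helper7.CharClassAlg2 Cfsg.Agent.Lib.Helper7.CharCentral Cfsg.Agent.Lib.Helper7.CharNormal2 Cfsg.Agent.Lib.Helper7.CharCliffordCorr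 Cfsg.Agent.Lib.Helper7.ProjExt1 Cfsg.Agent.Lib.Helper7.ProjExt2 Cfsg.Agent.Lib.Helper7.Transfer1 Cfsg.Agent.Lib.Helper7.ProjExt4 Cfsg.Agent.Lib.Helper7.CharGallagher Cfsg.Agent.Lib.Helper7.CharGallagher2
open scoped ComplexConjugate

variable {G : Type*} [Group G]

theorem det_eq_of_char_eq [Finite G] {n n' : ℕ} (ρ : Representation ℂ G (Fin n → ℂ))
    (ρ' : Representation ℂ G (Fin n' → ℂ)) (h : ρ'.character = ρ.character) (g : G) :
    LinearMap.det (ρ' g) = LinearMap.det (ρ g) := by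
  obtain ⟨e⟩ := equiv_of_char_eq ρ' ρ h
  have h1 : ρ g = (e.toLinearEquiv : (Fin n' → ℂ) →ₗ[ℂ] (Fin n → ℂ)) ∘ₗ ρ' g ∘ₗ
      (e.toLinearEquiv.symm : (Fin n → ℂ) →ₗ[ℂ] (Fin n' → ℂ)) := by
    have h2 := e.isIntertwining' g
    refine LinearMap.ext fun v => ?_
    have h3 := congrArg (fun f => f (e.toLinearEquiv.symm v)) h2
    simp only [LinearMap.comp_apply] at h3
    have h4 : e.toLinearMap (e.toLinearEquiv.symm v) = v :=
      e.toLinearEquiv.apply_symm_apply _
    rw [h4] at h3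
    exact h3.symm
  rw [h1, LinearMap.det_conj]

theorem detChar_eq [Finite G] {n : ℕ} (ρ : Representation ℂ G (Fin n → ℂ)) :
    detChar ρ.character = fun g => LinearMap.det (ρ g) := by
  have h : IsCharacter G ρ.character := ⟨n, ρ, rfl⟩
  unfold detChar
  rw [dif_pos h]
  funext g
  exact det_eq_of_char_eq ρ _ (Classical.choose_spec (Classical.choose_spec h)) g

/-- the determinant as a hom. -/
noncomputable def detHom {n : ℕ} (ρ : Representation ℂ G (Fin n → ℂ)) : G →* ℂˣ :=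
  MonoidHom.toHomUnits (LinearMap.det.comp ρ)

theorem detHom_coe {n : ℕ} (ρ : Representation ℂ G (Fin n → ℂ)) (g : G) :
    ((detHom ρ g : ℂˣ) : ℂ) = LinearMap.det (ρ g) := rfl

theorem detHom_twist {n : ℕ} (β : G →* ℂˣ) (ρ : Representation ℂ G (Fin n → ℂ)) (g : G) :
    detHom (twist β ρ) g = β g ^ n * detHom ρ g := by
  apply Units.ext
  rw [detHom_coe, twist_apply, LinearMap.det_smul, Module.finrank_fin_fun]
  simp [detHom_coe]

theorem char_twist {n : ℕ} (β : G →* ℂˣ) (ρ : Representation ℂ G (Fin n → ℂ)) (g : G) :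
    (twist β ρ).character g = ((β g : ℂˣ) : ℂ) * ρ.character g := by
  simp [Representation.character, twist_apply]

theorem isIrreducible_twist {n : ℕ} (β : G →* ℂˣ) (ρ : Representation ℂ G (Fin n → ℂ))
    [h : ρ.IsIrreducible] : (twist β ρ).IsIrreducible := by
  refine { exists_pair_ne := ⟨⊥, ⊤, ?_⟩, eq_bot_or_eq_top := ?_ }
  · intro hbt
    have h1 := congrArg Subrepresentation.toSubmodule hbt
    have : (⊥ : Subrepresentation ρ) = ⊤ := Subrepresentation.toSubmodule_injective h1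
    exact bot_ne_top this
  · intro W
    let W' : Subrepresentation ρ :=
      ⟨W.toSubmodule, fun g v hv => by
        have h1 := W.apply_mem_toSubmodule g hv
        rw [twist_apply] at h1
        have h2 := W.toSubmodule.smul_mem (((β g)⁻¹ : ℂˣ) : ℂ) h1
        simpa [smul_smul] using h2⟩
    rcases eq_bot_or_eq_top W' with h1 | h1
    · left
      have h2 := congrArg Subrepresentation.toSubmodule h1
      exact Subrepresentation.toSubmodule_injective h2
    · right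
      have h2 := congrArg Subrepresentation.toSubmodule h1
      exact Subrepresentation.toSubmodule_injective h2

theorem eq_of_pow_eq_of_coprime (N : Subgroup G) [hN : N.Normal] {d : ℕ}
    (hcop : Nat.Coprime N.index d) (β γ : G →* ℂˣ) (hβ : ∀ n : N, β n = 1) (hγ : ∀ n : N, γ n = 1)
    (h : ∀ g, γ g ^ d = β g ^ d) : γ = β := by
  refine MonoidHom.ext fun g => ?_
  have h1 := pow_index_eq_one_of_trivial N (γ * β⁻¹) (fun n => by
    rw [MonoidHom.mul_apply, MonoidHom.inv_apply, hβ, hγ]; simp)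
  have h1g := congrArg (fun f : G →* ℂˣ => f g) h1
  change (γ g * (β g)⁻¹) ^ N.index = 1 at h1g
  have h2g : (γ g * (β g)⁻¹) ^ d = 1 := by
    rw [mul_pow, inv_pow, h g, mul_inv_cancel]
  have h3 : (γ g * (β g)⁻¹) ^ Nat.gcd N.index d = 1 := pow_gcd_eq_one.mpr ⟨h1g, h2g⟩
  rw [hcop, pow_one] at h3
  exact mul_inv_eq_one.mp h3

theorem exists_root_of_coprime (N : Subgroup G) [hN : N.Normal] {d : ℕ}
    (hcop : Nat.Coprime N.index d) (δ : G →* ℂˣ) (hδ : ∀ n : N, δ n = 1) :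
    ∃ β : G →* ℂˣ, (∀ n : N, β n = 1) ∧ ∀ g, β g ^ d = δ g := by
  have hbez : (N.index : ℤ) * Nat.gcdA N.index d + (d : ℤ) * Nat.gcdB N.index d = 1 := by
    have := Nat.gcd_eq_gcd_ab N.index d
    rw [hcop] at this
    simpa using this.symm
  refine ⟨(zpowGroupHom (Nat.gcdB N.index d)).comp δ, fun n => ?_, fun g => ?_⟩
  · simp [hδ n]
  · have h1 := pow_index_eq_one_of_trivial N δ hδ
    have h1g := congrArg (fun f : G →* ℂˣ => f g) h1
    change (δ g) ^ N.index = 1 at h1g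
    simp only [MonoidHom.comp_apply, zpowGroupHom_apply]
    rw [← zpow_natCast, ← zpow_mul, mul_comm,
      show (d : ℤ) * Nat.gcdB N.index d = 1 - (N.index : ℤ) * Nat.gcdA N.index d by linarith,
      zpow_sub, zpow_one, zpow_mul, zpow_natCast, h1g, one_zpow, inv_one, mul_one]

theorem exists_unique_ext_det (N : Subgroup G) [hN : N.Normal] {d : ℕ}
    (ρ : Representation ℂ G (Fin d → ℂ)) (hcop : Nat.Coprime N.index d) (μ : G →* ℂˣ)
    (hμ : ∀ n : N, μ n = detHom ρ n) :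
    ∃ β : G →* ℂˣ, (∀ n : N, β n = 1) ∧ (∀ g, detHom (twist β ρ) g = μ g) ∧
      ∀ γ : G →* ℂˣ, (∀ n : N, γ n = 1) → (∀ g, detHom (twist γ ρ) g = μ g) → γ = β := by
  obtain ⟨β, hβ1, hβ2⟩ := exists_root_of_coprime N hcop (μ * (detHom ρ)⁻¹) (fun n => by
    rw [MonoidHom.mul_apply, MonoidHom.inv_apply, hμ, mul_inv_cancel])
  refine ⟨β, hβ1, fun g => ?_, fun γ hγ1 hγ2 => ?_⟩
  · rw [detHom_twist, hβ2, MonoidHom.mul_apply, MonoidHom.inv_apply, inv_mul_cancel_right]
  · apply eq_of_pow_eq_of_coprime N hcop β γ hβ1 hγ1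
    intro g
    have h1 := hγ2 g
    rw [detHom_twist] at h1
    rw [hβ2, MonoidHom.mul_apply, MonoidHom.inv_apply, ← h1, mul_inv_cancel_right]

/-- Isaacs 6.24-style statement, in terms of characters. -/
theorem unique_ext_det [Finite G] (N : Subgroup G) [hN : N.Normal] (ϑ : N → ℂ)
    (hϑ : IsIrrCharacter N ϑ) (d : ℕ) (hd : ϑ 1 = d) (hcop : Nat.Coprime N.index d)
    (hext : ∃ η : G → ℂ, IsIrrCharacter G η ∧ (∀ n : N, η n = ϑ n)) (μ : G → ℂ)
    (hμ : IsCharacter G μ ∧ μ 1 = 1) (hμN : ∀ n : N, μ n = detChar ϑ n) :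
    ∃! χ : G → ℂ, IsIrrCharacter G χ ∧ (∀ n : N, χ n = ϑ n) ∧ detChar χ = μ := by
  classical
  haveI := Fintype.ofFinite G
  haveI := Fintype.ofFinite N
  obtain ⟨η, hη, hηN⟩ := hext
  have hη' := hη
  obtain ⟨d', ρ, hρ, hρη⟩ := hη
  have hdd : d' = d := by
    have h1 := hηN 1
    rw [hd, ← hρη] at h1
    change ρ.character 1 = d at h1
    rw [char_one, Module.finrank_fin_fun] at h1
    exact_mod_cast h1
  subst hdd
  haveI := hρ
  obtain ⟨μ', hμ'⟩ := exists_hom_of_irr_of_one hμ.1 hμ.2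
  have hϑeq : ϑ = Representation.character
      (MonoidHom.comp ρ N.subtype : Representation ℂ N (Fin d' → ℂ)) := by
    funext n
    rw [← hηN n, ← hρη]
    rfl
  have hμdet : ∀ n : N, μ' n = detHom ρ n := by
    intro n
    apply Units.ext
    have h1 := hμN n
    rw [hμ', hϑeq, detChar_eq] at h1
    exact h1
  obtain ⟨β, hβ1, hβ2, hβ3⟩ := exists_unique_ext_det N ρ hcop μ' hμdet
  have hdetfun : ∀ γ : G →* ℂˣ, detChar (twist γ ρ).character =
      fun g => ((detHom (twist γ ρ) g : ℂˣ) : ℂ) := fun γ => detChar_eq _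
  refine ⟨(twist β ρ).character, ⟨⟨d', _, isIrreducible_twist β ρ, rfl⟩, fun n => ?_, ?_⟩, ?_⟩
  · rw [char_twist, hβ1, hρη, hηN]
    simp
  · rw [hdetfun, hμ']
    funext g
    rw [hβ2]
  · rintro χ' ⟨hχ', hχ'N, hχ'det⟩
    have hηNirr : IsIrrCharacter N (fun n : N => η n) := by
      have : (fun n : N => η n) = ϑ := funext hηN
      rw [this]; exact hϑ
    obtain ⟨γ, hγ, hγker, hγχ⟩ := (gallagher N hη' hηNirr).2.2 χ' hχ' (by
      have h1 : (fun n : N => χ' n) = ϑ := funext hχ'N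
      have h2 : (fun n : N => η n) = ϑ := funext hηN
      rw [h1, h2, classInner_irr hϑ hϑ, if_pos rfl]
      exact one_ne_zero)
    have hd0 : (d' : ℂ) ≠ 0 := by
      rw [← hd]; exact irr_one_ne_zero hϑ
    have hγ1 : γ 1 = 1 := by
      have h1 := congrFun hγχ 1
      have h2 := hχ'N 1
      have h3 := hηN 1
      simp only [Subgroup.coe_one] at h2 h3
      rw [Pi.mul_apply, h2, h3, hd] at h1
      exact mul_right_cancel₀ hd0 (by rw [h1, one_mul])
    obtain ⟨γ', hγ'⟩ := exists_hom_of_irr_of_one (IsIrrCharacter.isCharacter hγ) hγ1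
    have hχ'eq : χ' = (twist γ' ρ).character := by
      funext g
      rw [char_twist, ← hγχ, Pi.mul_apply, hγ', hρη]
    have h4 : γ' = β := by
      apply hβ3
      · intro n
        apply Units.ext
        have h5 := hγker n n.2
        rw [hγ1, hγ'] at h5
        exact h5
      · intro g
        apply Units.ext
        have h5 := congrFun hχ'det g
        rw [hχ'eq, hdetfun, hμ'] at h5
        exact h5
    rw [hχ'eq, h4]

theorem exists_ext_of_det [Finite G] (N : Subgroup G) [hN : N.Normal] {d : ℕ}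
    (σ : Representation ℂ N (Fin d → ℂ)) [hσ : σ.IsIrreducible]
    (hinv : ∀ (g : G) (n : N), σ.character (MulAut.conjNormal g n) = σ.character n)
    (hcop : Nat.Coprime N.index d) (μ : G →* ℂˣ) (hμ : ∀ n : N, μ n = detHom σ n) :
    ∃ ρ : Representation ℂ G (Fin d → ℂ), ρ.IsIrreducible ∧ ∀ n : N, ρ n = σ n := by
  have hm0 : 0 < Nat.card N := Nat.card_pos
  have hm := det_pow_card N σ
  haveI := finite_Gam N σ hm0
  have hsurj := prG_surjective N σ hinv hm0
  obtain ⟨lam, hlam⟩ := exists_good N σ hm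
  have h1 : (d : ℤ) ∈ extIdeal (N.comap (prG N σ (Nat.card N))) lam := by
    refine ⟨(μ.comp (prG N σ (Nat.card N))) * (detHom (tau N σ (Nat.card N)))⁻¹, fun a => ?_⟩
    obtain ⟨c, n, hcn⟩ := exists_eq_zH_mul_jN N σ hm a.1 a.2
    have h2 : a = ⟨zH N σ _ c * jN N σ hm n,
      Subgroup.mul_mem _ (zH_mem_comap N σ _ c) (jN_mem_comap N σ hm n)⟩ := Subtype.ext hcn
    rw [h2, IsGood.apply N σ hlam c n (zH_mem_comap N σ _ c) (jN_mem_comap N σ hm n)]
    simp only [MonoidHom.mul_apply, MonoidHom.inv_apply, MonoidHom.comp_apply, map_mul]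
    have h3 : prG N σ (Nat.card N) (zH N σ (Nat.card N) c) = 1 := rfl
    have h4 : detHom (tau N σ (Nat.card N)) (zH N σ (Nat.card N) c) = (c : ℂˣ) ^ d := by
      apply Units.ext
      rw [detHom_coe, tau_zH, LinearMap.det_smul, Module.finrank_fin_fun, map_one, mul_one]
      simp
    have h5 : detHom (tau N σ (Nat.card N)) (jN N σ hm n) = detHom σ n := rfl
    rw [h3, map_one, one_mul, prG_jN, hμ, h4, h5, zpow_natCast, mul_inv_cancel, mul_one, inv_pow]
  have h2 : ((N.comap (prG N σ (Nat.card N))).index : ℤ) ∈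
      extIdeal (N.comap (prG N σ (Nat.card N))) lam :=
    index_mem_extIdeal _ lam (good_invariant N σ hm lam hlam) _ le_rfl lam (fun _ => rfl)
  rw [Subgroup.index_comap_of_surjective N hsurj] at h2
  have hbez : (N.index : ℤ) * Nat.gcdA N.index d + (d : ℤ) * Nat.gcdB N.index d = 1 := by
    have := Nat.gcd_eq_gcd_ab N.index d
    rw [hcop] at this
    simpa using this.symm
  have h3 : (1 : ℤ) ∈ extIdeal (N.comap (prG N σ (Nat.card N))) lam := by
    rw [← hbez]
    exact Ideal.add_mem _ (Ideal.mul_mem_right _ _ h2) (Ideal.mul_mem_right _ _ h1)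
  obtain ⟨β, hβ⟩ := h3
  obtain ⟨ρ, hρ1, hρ2, -⟩ := exists_ext_of_good N σ hinv hm0 hm lam hlam β
    (fun a => by rw [hβ a, zpow_one])
  exact ⟨ρ, hρ1, hρ2⟩

/-- Gallagher's extension theorem (Isaacs 8.15). -/
theorem ext_iff_det_ext [Finite G] (N : Subgroup G) [hN : N.Normal] (ϑ : N → ℂ)
    (hϑ : IsIrrCharacter N ϑ)
    (hinv : ∀ (g : G) (n : N), ϑ ⟨g * n * g⁻¹, hN.conj_mem (n : G) n.2 g⟩ = ϑ n) (d : ℕ)
    (hd : ϑ 1 = d) (hcop : Nat.Coprime N.index d) :
    (∃ χ : G → ℂ, IsIrrCharacter G χ ∧ (∀ n : N, χ n = ϑ n)) ↔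
      ∃ μ : G → ℂ, IsCharacter G μ ∧ μ 1 = 1 ∧ ∀ n : N, μ n = detChar ϑ n := by
  constructor
  · rintro ⟨χ, ⟨k, ρ, hρ, hρχ⟩, hχN⟩
    refine ⟨fun g => ((detHom ρ g : ℂˣ) : ℂ),
      IsIrrCharacter.isCharacter (isIrrCharacter_of_hom (detHom ρ)), by simp, fun n => ?_⟩
    have hϑeq : ϑ = Representation.character
        (MonoidHom.comp ρ N.subtype : Representation ℂ N (Fin k → ℂ)) := by
      funext n
      rw [← hχN n, ← hρχ]
      rfl
    rw [hϑeq, detChar_eq]
    rfl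
  · rintro ⟨μ, hμ, hμ1, hμN⟩
    obtain ⟨d', σ, hσ, hσϑ⟩ := hϑ
    have hdd : d' = d := by
      rw [← hσϑ, char_one, Module.finrank_fin_fun] at hd
      exact_mod_cast hd
    subst hdd
    haveI := hσ
    obtain ⟨μ', hμ'⟩ := exists_hom_of_irr_of_one hμ hμ1
    obtain ⟨ρ, hρ, hρN⟩ := exists_ext_of_det N σ
      (fun g n => by rw [hσϑ]; exact hinv g n) hcop μ' (fun n => by
        apply Units.ext
        have h1 := hμN n
        rw [hμ', ← hσϑ, detChar_eq] at h1
        exact h1)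
    refine ⟨ρ.character, ⟨d', ρ, hρ, rfl⟩, fun n => ?_⟩
    rw [← hσϑ]
    simp only [Representation.character, hρN n]

theorem exists_detHom_of_isCharacter [Finite G] {χ : G → ℂ} (hχ : IsCharacter G χ) :
    ∃ l : G →* ℂˣ, detChar χ = fun g => ((l g : ℂˣ) : ℂ) := by
  obtain ⟨k, ρ, rfl⟩ := hχ
  exact ⟨detHom ρ, detChar_eq ρ⟩

theorem detChar_restrict [Finite G] (N : Subgroup G) {χ : G → ℂ} (hχ : IsCharacter G χ)
    {ϑ : N → ℂ} (h : ∀ n : N, χ n = ϑ n) (n : N) : detChar χ n = detChar ϑ n := by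
  obtain ⟨k, ρ, rfl⟩ := hχ
  have hϑeq : ϑ = Representation.character
      (MonoidHom.comp ρ N.subtype : Representation ℂ N (Fin k → ℂ)) := by
    funext n
    rw [← h n]
    rfl
  rw [hϑeq, detChar_eq, detChar_eq]
  rfl

theorem detChar_invariant [Finite G] (N : Subgroup G) [hN : N.Normal] {ϑ : N → ℂ}
    (hϑ : IsCharacter N ϑ)
    (hinv : ∀ (g : G) (n : N), ϑ ⟨g * n * g⁻¹, hN.conj_mem (n : G) n.2 g⟩ = ϑ n) (g : G) (n : N) :
    detChar ϑ ⟨g * n * g⁻¹, hN.conj_mem (n : G) n.2 g⟩ = detChar ϑ n := by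
  obtain ⟨k, σ, rfl⟩ := hϑ
  rw [detChar_eq]
  have h1 : Representation.character (MonoidHom.comp σ
      (MulAut.conjNormal g : N ≃* N).toMonoidHom : Representation ℂ N (Fin k → ℂ)) =
      σ.character := funext fun n => hinv g n
  exact det_eq_of_char_eq σ _ h1 n

/-- Isaacs 8.16. -/
theorem canonical_ext [Finite G] (N : Subgroup G) [hN : N.Normal] (ϑ : N → ℂ)
    (hϑ : IsIrrCharacter N ϑ)
    (hinv : ∀ (g : G) (n : N), ϑ ⟨g * n * g⁻¹, hN.conj_mem (n : G) n.2 g⟩ = ϑ n) (d : ℕ)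
    (hd : ϑ 1 = d) (hcop : Nat.Coprime N.index (detOrder ϑ * d)) :
    ∃ χ : G → ℂ, (IsIrrCharacter G χ ∧ (∀ n : N, χ n = ϑ n) ∧ detOrder χ = detOrder ϑ) ∧
      ∀ χ' : G → ℂ, IsIrrCharacter G χ' → (∀ n : N, χ' n = ϑ n) →
        Nat.Coprime N.index (detOrder χ') → χ' = χ := by
  have hϑc := IsIrrCharacter.isCharacter hϑ
  obtain ⟨l, hl⟩ := exists_detHom_of_isCharacter hϑc
  have hord : detOrder ϑ = orderOf l := by
    unfold detOrder
    rw [hl]
    exact orderOf_homToFun l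
  have hcop1 : Nat.Coprime N.index (orderOf l) := by
    rw [← hord]; exact Nat.Coprime.coprime_mul_right_right hcop
  have hcop2 : Nat.Coprime N.index d := Nat.Coprime.coprime_mul_left_right hcop
  obtain ⟨μ, hμN, hμo, hμu⟩ := coprime_ext N l (fun g n => by
    apply Units.ext
    have := detChar_invariant N hϑc hinv g n
    rw [hl] at this
    exact this) hcop1
  have hμchar : IsCharacter G (fun g => ((μ g : ℂˣ) : ℂ)) ∧ (fun g => ((μ g : ℂˣ) : ℂ)) 1 = 1 :=
    ⟨IsIrrCharacter.isCharacter (isIrrCharacter_of_hom μ), by simp⟩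
  have hμN' : ∀ n : N, (fun g => ((μ g : ℂˣ) : ℂ)) n = detChar ϑ n := by
    intro n
    rw [hl]
    change ((μ (n : G) : ℂˣ) : ℂ) = _
    rw [hμN]
  have hext := (ext_iff_det_ext N ϑ hϑ hinv d hd hcop2).mpr ⟨_, hμchar.1, hμchar.2, hμN'⟩
  obtain ⟨χ, ⟨hχ1, hχ2, hχ3⟩, hχu⟩ := unique_ext_det N ϑ hϑ d hd hcop2 hext _ hμchar hμN'
  refine ⟨χ, ⟨hχ1, hχ2, ?_⟩, ?_⟩
  · unfold detOrder at hord ⊢
    rw [hχ3, hord, ← hμo]
    exact orderOf_homToFun μ
  · intro χ' hχ' hχ'N hcop'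
    apply hχu
    refine ⟨hχ', hχ'N, ?_⟩
    obtain ⟨m', hm'⟩ := exists_detHom_of_isCharacter (IsIrrCharacter.isCharacter hχ')
    have h1 : m' = μ := by
      apply hμu
      · intro n
        apply Units.ext
        have h2 := detChar_restrict N (IsIrrCharacter.isCharacter hχ') hχ'N n
        rw [hm', hl] at h2
        exact h2
      · unfold detOrder at hcop'
        rw [hm', orderOf_homToFun] at hcop'
        exact hcop'
    rw [hm', h1]

end Cfsg.Agent.Lib.Helper7.ProjExt5
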