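import Mathlib
import Cfsg.Prelude.Def_Characters
import Cfsg.Agent.Lib.Helper7.All1
import Cfsg.Agent.Lib.Helper7.ProjExt1
import Cfsg.Agent.Lib.Helper7.ProjExt2
import Cfsg.Agent.Lib.Helper7.CharKer
import Cfsg.Agent.Lib.Helper7.CharCenter
import Cfsg.Agent.Lib.Helper7.CharGallagher
import Cfsg.Agent.Lib.Helper7.CharGallagher2

set_option autoImplicit false
set_option linter.style.haveILetI false
set_option linter.unusedSectionVars false
set_option linter.unusedVariables false
set_option linter.unusedSimpArgs false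

namespace Cfsg.Agent.Lib.Helper7.ProjExt3

open Module Representation Cfsg
open Cfsg.Agent.Lib.Helper7.CharBasic Cfsg.Agent.Lib.Helper7.CharIrr Cfsg.Agent.Lib.Helper7.CharDecomp Cfsg.Agent.Lib.Helper7.CharComplete Cfsg.Agent.Lib.Helper7.CharOrth Cfsg.Agent.Lib.Helper7.CharInd Cfsg.Agent.Lib.Helper7.CharIntegral Cfsg.Agent.Lib.Helper7.CharBurnside Cfsg.Agent.Lib.Helper7.CharLinear Cfsg.Agent.Lib.Helper7.CharEquiv Cfsg.Agent.Lib.Helper7.CharMore Cfsg.Agent.Lib.Helper7.CharCount Cfsg.Agent.Lib.Helper7.CharMisc Cfsg.Agent.Lib.Helper7.CharMisc2 Cfsg.Agent.Lib.Helper7.CharNormal Cfsg.Agent.Lib.Helper7.CharOdd Cfsg.Agent.Lib.Helper7.CharClifford Cfsg.Agent.Lib.Helper7.CharProd Cfsg.Agent.Lib.Helper7.CharPerm Cfsg.Agent.Lib.Helper7.CharClassAlg Cfsg.Agent.Lib.Helper7.CharClassAlg2 Cfsg.Agent.Lib.Helper7.CharCentral Cfsg.Agent.Lib.Helper7.CharNormal2 Cfsg.Agent.Lib.Helper7.CharCliffordCorr Cfsg.Agent.Lib.Helper7.ProjExt1 Cfsg.Agent.Lib.Helper7.ProjExt2 Cfsg.Agent.Lib.Helper7.CharKer Cfsg.Agent.Lib.Helper7.CharCenter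 Cfsg.Agent.Lib.Helper7.CharGallagher Cfsg.Agent.Lib.Helper7.CharGallagher2
open scoped ComplexConjugate

theorem jN_injective {G : Type*} [Group G] (N : Subgroup G) [hN : N.Normal] {d : ℕ}
    (σ : Representation ℂ N (Fin d → ℂ)) {m : ℕ} (hm : ∀ n : N, LinearMap.det (σ n) ^ m = 1) :
    Function.Injective (jN N σ hm) := by
  intro a b h
  have := congrArg (prG N σ m) h
  rw [prG_jN, prG_jN] at this
  exact Subtype.ext this

theorem ratio_dvd_of_invariant {G : Type*} [Group G] [Fintype G] (N : Subgroup G) [hN : N.Normal]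
    [Fintype N] {χ : G → ℂ} (hχ : IsIrrCharacter G χ) {θ : N → ℂ} (hθ : IsIrrCharacter N θ)
    (hinv : ∀ (g : G) (n : N), θ ⟨g * n * g⁻¹, hN.conj_mem n n.2 g⟩ = θ n)
    (hcon : classInner (fun n : N => χ n) θ ≠ 0) {c d : ℕ} (hc : χ 1 = c) (hd : θ 1 = d) :
    ∃ e : ℕ, c = e * d ∧ e ∣ N.index := by
  classical
  obtain ⟨d', σ, hσ, hσθ⟩ := hθ
  have hdd : d' = d := by
    rw [← hσθ, char_one, Module.finrank_fin_fun] at hd
    exact_mod_cast hd
  subst hdd
  haveI := hσ
  have hd0 : 0 < d' := by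
    have := finrank_pos_of_irr σ
    rwa [Module.finrank_fin_fun] at this
  have hinv' : ∀ (g : G) (n : N), σ.character (MulAut.conjNormal g n) = σ.character n := by
    intro g n
    rw [hσθ]
    exact hinv g n
  have hm0 : 0 < Nat.card N := Nat.card_pos
  have hm := det_pow_card N σ
  haveI := finite_Gam N σ hm0
  haveI := Fintype.ofFinite (Gam N σ (Nat.card N))
  have hsurj := prG_surjective N σ hinv' hm0
  set Γ := Gam N σ (Nat.card N) with hΓ
  set f := prG N σ (Nat.card N) with hf
  set j := jN N σ hm with hj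
  haveI hnorm : (j.range).Normal := by
    constructor
    rintro _ ⟨n, rfl⟩ x
    exact ⟨_, (conj_jN N σ hm x n).symm⟩
  haveI := Fintype.ofFinite j.range
  have htau : (tau N σ (Nat.card N)).IsIrreducible := by
    apply isIrreducible_of_comp _ j
    have : (MonoidHom.comp (tau N σ (Nat.card N)) j : Representation ℂ N (Fin d' → ℂ)) = σ := by
      ext1 n
      rfl
    rw [this]
    exact hσ
  have hπ : IsIrrCharacter Γ (tau N σ (Nat.card N)).character := ⟨d', _, htau, rfl⟩
  have hπN : IsIrrCharacter j.range (fun n : j.range => (tau N σ (Nat.card N)).character n) := by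
    refine ⟨d', MonoidHom.comp (tau N σ (Nat.card N)) j.range.subtype, ?_, rfl⟩
    apply isIrreducible_of_comp _ j.rangeRestrict
    have : (MonoidHom.comp (MonoidHom.comp (tau N σ (Nat.card N)) j.range.subtype) j.rangeRestrict :
        Representation ℂ N (Fin d' → ℂ)) = σ := by
      ext1 n
      rfl
    rw [this]
    exact hσ
  have hχ' : IsIrrCharacter Γ (fun x => χ (f x)) := isIrrCharacter_comp_of_surjective f hsurj hχ
  have hcon' : classInner (fun n : j.range => χ (f n))
      (fun n : j.range => (tau N σ (Nat.card N)).character n) ≠ 0 := by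
    have h1 := classInner_comp_equiv (MonoidHom.ofInjective (jN_injective N σ hm))
      (fun n : j.range => χ (f n)) (fun n : j.range => (tau N σ (Nat.card N)).character n)
    rw [← h1]
    have h2 : (fun k : N => (tau N σ (Nat.card N)).character
        ((MonoidHom.ofInjective (jN_injective N σ hm) k : j.range) : Γ)) = θ := by
      rw [← hσθ]
      rfl
    have h3 : (fun k : N => χ (f ((MonoidHom.ofInjective (jN_injective N σ hm) k : j.range) : Γ)))
        = fun n : N => χ n := rfl
    rw [h2, h3]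
    exact hcon
  obtain ⟨β, hβ, hβker, hβχ⟩ := (gallagher j.range hπ hπN).2.2 _ hχ' hcon'
  obtain ⟨e, he⟩ := irr_one_eq_natCast (IsIrrCharacter.isCharacter hβ)
  have hπ1 : (tau N σ (Nat.card N)).character 1 = d' := by
    rw [char_one, Module.finrank_fin_fun]
  have hced : c = e * d' := by
    have h1 := congrFun hβχ 1
    simp only [Pi.mul_apply, map_one, hc, he, hπ1] at h1
    exact_mod_cast h1.symm
  refine ⟨e, hced, ?_⟩
  have h5 := degree_dvd_index_of_scalar hβ he (N.comap f) (by
    intro a ha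
    obtain ⟨z, n, hzn⟩ := exists_eq_zH_mul_jN N σ hm a ha
    have h6 : β a = β (zH N σ (Nat.card N) z) := by
      rw [hzn, zH_comm]
      exact char_mul_of_mem_ker (IsIrrCharacter.isCharacter hβ) (hβker _ ⟨n, rfl⟩) _
    have h7 := congrFun hβχ (zH N σ (Nat.card N) z)
    have h8 : f (zH N σ (Nat.card N) z) = 1 := rfl
    have h9 : (tau N σ (Nat.card N)).character (zH N σ (Nat.card N) z) =
        ((z : ℂˣ) : ℂ) * d' := by
      simp only [Representation.character, tau_zH, map_smul]
      rw [show (1 : Module.End ℂ (Fin d' → ℂ)) = LinearMap.id from rfl, LinearMap.trace_id,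
        Module.finrank_fin_fun, smul_eq_mul]
    simp only [Pi.mul_apply, h8, hc, h9, hced] at h7
    have hz1 : ‖((z : ℂˣ) : ℂ)‖ = 1 := by
      have hz := z.2
      rw [mem_rootsOfUnity] at hz
      have hz' : ((z : ℂˣ) : ℂ) ^ (d' * Nat.card N) = 1 := by
        have := congrArg (fun u : ℂˣ => (u : ℂ)) hz
        simpa using this
      exact Complex.norm_eq_one_of_pow_eq_one hz' (Nat.mul_pos hd0 hm0).ne'
    have hd'C : (d' : ℂ) ≠ 0 := by exact_mod_cast hd0.ne'
    have h10 : β (zH N σ (Nat.card N) z) * ((z : ℂˣ) : ℂ) = e := by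
      have : β (zH N σ (Nat.card N) z) * ((z : ℂˣ) : ℂ) * d' = e * d' := by
        rw [mul_assoc, h7]
        push_cast
        ring
      exact mul_right_cancel₀ hd'C this
    rw [h6]
    have h11 := congrArg (fun w : ℂ => ‖w‖) h10
    rw [norm_mul, hz1, mul_one] at h11
    rw [h11]
    simp)
  rwa [Subgroup.index_comap_of_surjective N hsurj] at h5

end Cfsg.Agent.Lib.Helper7.ProjExt3
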