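import Mathlib
import Cfsg.Prelude.Def_Characters
import Cfsg.Prelude.Def_CharExt
import Cfsg.Prelude.Def_Transfer
import Cfsg.Agent.S0887
import Cfsg.Agent.Lib.Helper7.All1
import Cfsg.Agent.Lib.Helper7.ProjExt1
import Cfsg.Agent.Lib.Helper7.ProjExt2
import Cfsg.Agent.Lib.Helper7.Transfer1
import Cfsg.Agent.Lib.Helper7.ProjExt4
import Cfsg.Agent.Lib.Helper7.CharGallagher
import Cfsg.Agent.Lib.Helper7.CharGallagher2
import Cfsg.Agent.Lib.Helper7.ProjExt5
import Cfsg.Agent.Lib.Helper7.CharDeg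

set_option autoImplicit false
set_option linter.style.haveILetI false
set_option linter.unusedSectionVars false
set_option linter.unusedVariables false
set_option linter.unusedSimpArgs false

namespace Cfsg.Agent.Lib.Helper7.OpRes1

open Module Representation Cfsg
open Cfsg.Agent.Lib.Helper7.CharBasic Cfsg.Agent.Lib.Helper7.CharIrr Cfsg.Agent.Lib.Helper7.CharDecomp Cfsg.Agent.Lib.Helper7.CharComplete Cfsg.Agent.Lib.Helper7.CharOrth Cfsg.Agent.Lib.Helper7.CharInd Cfsg.Agent.Lib.Helper7.CharIntegral Cfsg.Agent.Lib.Helper7.CharBurnside Cfsg.Agent.Lib.Helper7.CharLinear Cfsg.Agent.Lib.Helper7.CharEquiv Cfsg.Agent.Lib.Helper7.CharMore Cfsg.Agent.Lib.Helper7.CharCount Cfsg.Agent.Lib.Helper7.CharMisc Cfsg.Agent.Lib.Helper7.CharMisc2 Cfsg.Agent.Lib.Helper7.CharNormal Cfsg.Agent.Lib.Helper7.CharOdd Cfsg.Agent.Lib.Helper7.CharClifford Cfsg.Agent.Lib.Helper7.CharProd Cfsg.Agent.Lib.Helper7.CharPerm Cfsg.Agent.Lib.Helper7.CharClassAlg Cfsg.Agent.Lib.Helper7.CharClassAlg2 Cfsg.Agent.Lib.Helper7.CharCentral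 Cfsg.Agent.Lib.Helper7.CharNormal2 Cfsg.Agent.Lib.Helper7.CharCliffordCorr Cfsg.Agent.Lib.Helper7.ProjExt1 Cfsg.Agent.Lib.Helper7.ProjExt2 Cfsg.Agent.Lib.Helper7.Transfer1 Cfsg.Agent.Lib.Helper7.ProjExt4 Cfsg.Agent.Lib.Helper7.CharGallagher Cfsg.Agent.Lib.Helper7.CharGallagher2 Cfsg.Agent.Lib.Helper7.ProjExt5 Cfsg.Agent.Lib.Helper7.CharDeg
open scoped ComplexConjugate

section Fixed

variable {P X : Type*} [Group P] [MulAction P X]

/-- auxiliary action on a sigma type -/
@[instance_reducible]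
def sigAction (f : X → ℕ) (hf : ∀ (g : P) (x : X), f (g • x) = f x) :
    MulAction P (Σ x : X, Fin (f x)) where
  smul g y := ⟨g • y.1, Fin.cast (hf g y.1).symm y.2⟩
  one_smul y := by
    rcases y with ⟨x, i⟩
    refine Sigma.ext (one_smul P x) ?_
    exact (Fin.heq_ext_iff (congrArg f (one_smul P x))).mpr rfl
  mul_smul g h y := by
    rcases y with ⟨x, i⟩
    refine Sigma.ext (mul_smul g h x) ?_
    exact (Fin.heq_ext_iff (congrArg f (mul_smul g h x))).mpr rfl

theorem sum_modEq_fixed [Fintype X] {p : ℕ} [Fact p.Prime] (hP : IsPGroup p P) (f : X → ℕ)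
    (hf : ∀ (g : P) (x : X), f (g • x) = f x) [DecidablePred (fun x : X => ∀ g : P, g • x = x)] :
    ∑ x, f x ≡ ∑ x with (∀ g : P, g • x = x), f x [MOD p] := by
  classical
  letI := sigAction f hf
  have h1 := hP.card_modEq_card_fixedPoints (Σ x : X, Fin (f x))
  have h2 : Nat.card (Σ x : X, Fin (f x)) = ∑ x, f x := by
    rw [Nat.card_eq_fintype_card, Fintype.card_sigma]
    simp
  have h3 : Nat.card (MulAction.fixedPoints P (Σ x : X, Fin (f x))) =
      ∑ x with (∀ g : P, g • x = x), f x := by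
    have e1 : (MulAction.fixedPoints P (Σ x : X, Fin (f x))) ≃
        {y : (Σ x : X, Fin (f x)) // (∀ g : P, g • y.1 = y.1)} := by
      refine Equiv.subtypeEquivRight ?_
      rintro ⟨x, i⟩
      rw [MulAction.mem_fixedPoints]
      constructor
      · intro h g
        exact congrArg Sigma.fst (h g)
      · intro h g
        refine Sigma.ext (h g) ?_
        exact (Fin.heq_ext_iff (hf g x)).mpr rfl
    rw [Nat.card_congr e1, Nat.card_congr (Equiv.subtypeSigmaEquiv (fun x : X => Fin (f x))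
      (fun x : X => ∀ g : P, g • x = x)), Nat.card_eq_fintype_card, Fintype.card_sigma]
    simp only [Fintype.card_fin]
    rw [Finset.sum_subtype (p := fun x : X => ∀ g : P, g • x = x)
      (Finset.univ.filter (fun x : X => ∀ g : P, g • x = x)) (fun x => by simp) f]
  rw [h2, h3] at h1
  exact h1

end Fixed

variable {G : Type*} [Group G]

/-- conjugation action of `G` on the irreducible characters of a normal subgroup -/
@[instance_reducible]
noncomputable def irrAction [Finite G] (N : Subgroup G) [hN : N.Normal] :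
    MulAction G (IrrCharacter N) where
  smul g θ := ⟨conjFun N θ.1 g⁻¹, isIrrCharacter_conjFun N θ.2 g⁻¹⟩
  one_smul θ := by
    apply Subtype.ext
    funext n
    change conjFun N θ.1 (1 : G)⁻¹ n = θ.1 n
    rw [conjFun_apply]
    refine congrArg θ.1 (Subtype.ext ?_)
    simp
  mul_smul g h θ := by
    apply Subtype.ext
    funext n
    change conjFun N θ.1 (g * h)⁻¹ n = conjFun N (conjFun N θ.1 h⁻¹) g⁻¹ n
    rw [conjFun_apply, conjFun_apply, conjFun_apply]
    refine congrArg θ.1 (Subtype.ext ?_)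
    simp [mul_assoc]

theorem irrAction_smul_eq_iff [Finite G] (N : Subgroup G) [hN : N.Normal] (g : G)
    (θ : IrrCharacter N) :
    (letI := irrAction N; g • θ = θ) ↔
      ∀ n : N, θ.1 ⟨g * n * g⁻¹, hN.conj_mem (n : G) n.2 g⟩ = θ.1 n := by
  letI := irrAction N
  constructor
  · intro h n
    have h1 : conjFun N θ.1 g⁻¹ = θ.1 := congrArg Subtype.val h
    have h2 := congrFun h1 ⟨g * n * g⁻¹, hN.conj_mem (n : G) n.2 g⟩
    rw [conjFun_apply] at h2
    rw [← h2]
    refine congrArg θ.1 (Subtype.ext ?_)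
    simp [mul_assoc]
  · intro h
    apply Subtype.ext
    funext n
    change conjFun N θ.1 g⁻¹ n = θ.1 n
    rw [conjFun_apply, ← h ⟨g⁻¹ * n * g⁻¹⁻¹, hN.conj_mem (n : G) n.2 g⁻¹⟩]
    refine congrArg θ.1 (Subtype.ext ?_)
    simp [mul_assoc]

/-- `θ` is `G`-invariant. -/
def Inv (N : Subgroup G) [hN : N.Normal] (θ : N → ℂ) : Prop :=
  ∀ (g : G) (n : N), θ ⟨g * n * g⁻¹, hN.conj_mem (n : G) n.2 g⟩ = θ n

theorem card_modEq_inv [Finite G] (N : Subgroup G) [hN : N.Normal] {p : ℕ} [hp : Fact p.Prime]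
    {k : ℕ} (hidx : N.index = p ^ k) [Fintype (IrrCharacter N)]
    [DecidablePred (fun θ : IrrCharacter N => Inv N θ.1)] :
    Nat.card N ≡ ∑ θ : IrrCharacter N with Inv N θ.1, charDegree θ.1 ^ 2 [MOD p] := by
  classical
  letI := irrAction N
  obtain ⟨P⟩ : Nonempty (Sylow p G) := inferInstance
  have h1 := sum_modEq_fixed (P := (P : Subgroup G)) (X := IrrCharacter N) P.isPGroup'
    (fun θ => charDegree θ.1 ^ 2) (by
      intro g θ
      have : ((g • θ : IrrCharacter N) : N → ℂ) 1 = θ.1 1 := by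
        change conjFun N θ.1 (g : G)⁻¹ 1 = θ.1 1
        rw [conjFun_apply]
        refine congrArg θ.1 (Subtype.ext ?_)
        simp
      simp only [charDegree, this])
  have h2 : ∑ θ : IrrCharacter N, charDegree θ.1 ^ 2 = Nat.card N := by
    have h := sum_sq_degrees (G := N)
    rw [finsum_eq_sum_of_fintype] at h
    have h3 : ((∑ θ : IrrCharacter N, charDegree θ.1 ^ 2 : ℕ) : ℂ) = (Nat.card N : ℂ) := by
      rw [← h]
      push_cast
      refine Finset.sum_congr rfl fun θ _ => ?_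
      rw [charDegree_cast (IsIrrCharacter.isCharacter θ.2)]
    exact_mod_cast h3
  have h3 : ∀ θ : IrrCharacter N, (∀ g : (P : Subgroup G), g • θ = θ) ↔ Inv N θ.1 := by
    intro θ
    constructor
    · intro h
      have h4 : MulAction.stabilizer G θ = ⊤ := by
        rw [← Subgroup.index_eq_one]
        have h5 : (P : Subgroup G) ≤ MulAction.stabilizer G θ := fun g hg => h ⟨g, hg⟩
        have h6 : N ≤ MulAction.stabilizer G θ := by
          intro g hg
          rw [MulAction.mem_stabilizer_iff, irrAction_smul_eq_iff]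
          intro n
          have := IsIrrCharacter.isClassFunction θ.2 n ⟨g, hg⟩
          rw [← this]
          rfl
        have h7 := Subgroup.index_dvd_of_le h5
        have h8 := Subgroup.index_dvd_of_le h6
        rw [hidx] at h8
        exact Nat.eq_one_of_dvd_coprimes
          (Nat.Coprime.pow_right k ((Nat.Prime.coprime_iff_not_dvd hp.out).mpr
            P.not_dvd_index).symm) h7 h8
      intro g
      have : g ∈ MulAction.stabilizer G θ := by rw [h4]; trivial
      rw [MulAction.mem_stabilizer_iff, irrAction_smul_eq_iff] at this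
      exact this
    · intro h g
      exact (irrAction_smul_eq_iff N (g : G) θ).mpr (h g)
  rw [h2] at h1
  refine h1.trans ?_
  rw [Finset.filter_congr (fun θ _ => h3 θ)]

theorem restrict_irr_of_not_dvd [Finite G] (N : Subgroup G) [hN : N.Normal] {p : ℕ}
    [hp : Fact p.Prime] {k : ℕ} (hidx : N.index = p ^ k) {χ : G → ℂ} (hχ : IsIrrCharacter G χ)
    (hdeg : ¬ p ∣ charDegree χ) : IsIrrCharacter N (fun n : N => χ n) := by
  classical
  haveI := Fintype.ofFinite G
  haveI := Fintype.ofFinite N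
  have hχc := IsIrrCharacter.isCharacter hχ
  have hres : IsCharacter N (fun n : N => χ n) := isCharacter_restrict N hχc
  have hpos := charDegree_pos hχ
  have hne : (fun n : N => χ n) ≠ 0 := by
    intro h
    have h1 := congrFun h 1
    have h2 := charDegree_cast hχc
    have h3 : χ 1 = 0 := h1
    rw [h3] at h2
    have : charDegree χ = 0 := by exact_mod_cast h2
    omega
  obtain ⟨θ, hθ, hcon⟩ := exists_constituent (IsCharacter.isClassFunction hres) hne
  have hθc := IsIrrCharacter.isCharacter hθ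
  obtain ⟨h1, h2⟩ := Cfsg.Agent.S0887.result N χ hχ θ hθ hcon (charDegree χ) (charDegree θ)
    (charDegree_cast hχc).symm (charDegree_cast hθc).symm
  rw [hidx] at h2
  obtain ⟨j, hj, hj2⟩ := (Nat.dvd_prime_pow hp.out).mp h2
  have hj0 : j = 0 := by
    by_contra hj0
    apply hdeg
    have h3 : p ∣ charDegree χ / charDegree θ := by
      rw [hj2]; exact dvd_pow_self p hj0
    exact h3.trans (Nat.div_dvd_of_dvd h1)
  rw [hj0, pow_zero] at hj2
  have h4 : charDegree χ = charDegree θ := by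
    have := Nat.div_mul_cancel h1
    rw [hj2, one_mul] at this
    exact this.symm
  have h5 := isCharacter_sub_of_constituent hres hθ hcon
  have h6 : ((fun n : N => χ n) - θ) 1 = 0 := by
    change χ 1 - θ 1 = 0
    rw [← charDegree_cast hχc, ← charDegree_cast hθc, h4, sub_self]
  have h7 := eq_zero_of_isCharacter_of_degree_zero h5 h6
  rw [sub_eq_zero.mp h7]
  exact hθ

theorem inv_restrict (N : Subgroup G) [hN : N.Normal] {χ : G → ℂ} (hχ : IsClassFunction G χ) :
    Inv N (fun n : N => χ n) := fun g n => hχ n g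

theorem detOrder_not_dvd [Finite G] {p : ℕ} (hNp : ∀ l : G →* ℂˣ, ¬ p ∣ orderOf l) {θ : G → ℂ}
    (hθ : IsCharacter G θ) : ¬ p ∣ detOrder θ := by
  obtain ⟨l, hl⟩ := exists_detHom_of_isCharacter hθ
  unfold detOrder
  rw [hl, orderOf_homToFun l]
  exact hNp l

theorem main [Finite G] (N : Subgroup G) [hN : N.Normal] {p : ℕ} [hp : Fact p.Prime] {k : ℕ}
    (hidx : N.index = p ^ k) (hNp : ∀ l : N →* ℂˣ, ¬ p ∣ orderOf l) :
    (Nat.card N : ℤ) ≡ (∑ᶠ χ ∈ {χ : IrrCharacter G | ¬ p ∣ charDegree (χ : G → ℂ) ∧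
      ¬ p ∣ detOrder (χ : G → ℂ)}, (charDegree (χ : G → ℂ) : ℤ) ^ 2) [ZMOD p] := by
  classical
  haveI := Fintype.ofFinite G
  haveI := Fintype.ofFinite N
  haveI := Fintype.ofFinite (IrrCharacter G)
  haveI := Fintype.ofFinite (IrrCharacter N)
  have h1 := card_modEq_inv N hidx
  rw [finsum_mem_eq_toFinset_sum]
  have hcop : ∀ {m : ℕ}, ¬ p ∣ m → Nat.Coprime N.index m := by
    intro m hm
    rw [hidx]
    exact Nat.Coprime.pow_left k ((Nat.Prime.coprime_iff_not_dvd hp.out).mpr hm)
  have hcan : ∀ θ : IrrCharacter N, Inv N θ.1 → ¬ p ∣ charDegree θ.1 →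
      Nat.Coprime N.index (detOrder θ.1 * charDegree θ.1) := by
    intro θ _ h3
    exact Nat.Coprime.mul_right (hcop (detOrder_not_dvd hNp (IsIrrCharacter.isCharacter θ.2)))
      (hcop h3)
  have h2 : ∑ χ ∈ {χ : IrrCharacter G | ¬ p ∣ charDegree (χ : G → ℂ) ∧
      ¬ p ∣ detOrder (χ : G → ℂ)}.toFinset, (charDegree (χ : G → ℂ) : ℤ) ^ 2 =
      ∑ θ : IrrCharacter N with (Inv N θ.1 ∧ ¬ p ∣ charDegree θ.1), (charDegree θ.1 : ℤ) ^ 2 := by
    refine Finset.sum_bij (fun χ hχ => ⟨fun n : N => χ.1 n, restrict_irr_of_not_dvd N hidx χ.2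
      (by simp only [Set.mem_toFinset, Set.mem_setOf_eq] at hχ; exact hχ.1)⟩) ?_ ?_ ?_ ?_
    · intro χ hχ
      simp only [Set.mem_toFinset, Set.mem_setOf_eq] at hχ
      simp only [Finset.mem_filter, Finset.mem_univ, true_and]
      exact ⟨inv_restrict N (IsIrrCharacter.isClassFunction χ.2), hχ.1⟩
    · intro χ hχ χ' hχ' heq
      simp only [Set.mem_toFinset, Set.mem_setOf_eq] at hχ hχ'
      have hθ := restrict_irr_of_not_dvd N hidx χ.2 hχ.1
      obtain ⟨ψ, _, hψ⟩ := canonical_ext N (fun n : N => χ.1 n) hθ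
        (inv_restrict N (IsIrrCharacter.isClassFunction χ.2)) (charDegree χ.1)
        (charDegree_cast (IsIrrCharacter.isCharacter χ.2)).symm
        (hcan ⟨_, hθ⟩ (inv_restrict N (IsIrrCharacter.isClassFunction χ.2)) hχ.1)
      have e1 := hψ χ.1 χ.2 (fun n => rfl) (hcop hχ.2)
      have e2 := hψ χ'.1 χ'.2 (fun n => (congrFun (congrArg Subtype.val heq) n).symm)
        (hcop hχ'.2)
      exact Subtype.ext (e1.trans e2.symm)
    · intro θ hθ
      simp only [Finset.mem_filter, Finset.mem_univ, true_and] at hθ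
      obtain ⟨ψ, ⟨hψ1, hψ2, hψ3⟩, _⟩ := canonical_ext N θ.1 θ.2 hθ.1 (charDegree θ.1)
        (charDegree_cast (IsIrrCharacter.isCharacter θ.2)).symm (hcan θ hθ.1 hθ.2)
      have hdeg : charDegree ψ = charDegree θ.1 := by
        unfold charDegree
        rw [← hψ2 1]
        rfl
      refine ⟨⟨ψ, hψ1⟩, ?_, ?_⟩
      · simp only [Set.mem_toFinset, Set.mem_setOf_eq]
        refine ⟨by rw [hdeg]; exact hθ.2, ?_⟩
        rw [hψ3]
        exact detOrder_not_dvd hNp (IsIrrCharacter.isCharacter θ.2)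
      · exact Subtype.ext (funext fun n => hψ2 n)
    · intro χ hχ
      rfl
  rw [h2]
  have h3 : (∑ θ : IrrCharacter N with Inv N θ.1, (charDegree θ.1 : ℤ) ^ 2) ≡
      ∑ θ : IrrCharacter N with (Inv N θ.1 ∧ ¬ p ∣ charDegree θ.1), (charDegree θ.1 : ℤ) ^ 2
      [ZMOD p] := by
    rw [← Finset.filter_filter, Finset.sum_filter (fun θ : IrrCharacter N => ¬ p ∣ charDegree θ.1)]
    refine Int.ModEq.sum fun θ _ => ?_
    split_ifs with h
    · rw [Int.modEq_zero_iff_dvd]
      exact dvd_pow (Int.natCast_dvd_natCast.mpr h) two_ne_zero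
    · exact Int.ModEq.refl _
  refine Int.ModEq.trans ?_ h3
  have h4 := (Int.natCast_modEq_iff).mpr h1
  push_cast at h4
  exact h4

theorem pResidual_normal (p : ℕ) : (Cfsg.pResidual p G).Normal := by
  have : (Cfsg.pResidual p G).Characteristic := by
    rw [Subgroup.characteristic_iff_map_le]
    intro φ
    rw [Cfsg.pResidual, MonoidHom.map_closure, Subgroup.closure_le]
    rintro _ ⟨g, hg, rfl⟩
    apply Subgroup.subset_closure
    change Nat.Coprime (orderOf (φ g)) p
    rw [MulEquiv.orderOf_eq]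
    exact hg
  infer_instance

theorem pResidual_index [Finite G] {p : ℕ} [hp : Fact p.Prime] :
    ∃ k : ℕ, (Cfsg.pResidual p G).index = p ^ k := by
  haveI := pResidual_normal (G := G) p
  have h : IsPGroup p (G ⧸ Cfsg.pResidual p G) := by
    intro x
    obtain ⟨x, rfl⟩ := QuotientGroup.mk_surjective x
    refine ⟨(orderOf x).factorization p, ?_⟩
    rw [← QuotientGroup.mk_pow, QuotientGroup.eq_one_iff]
    apply Subgroup.subset_closure
    change Nat.Coprime (orderOf (x ^ p ^ (orderOf x).factorization p)) p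
    rw [orderOf_pow_of_dvd (pow_ne_zero _ hp.out.ne_zero) (Nat.ordProj_dvd _ _)]
    exact (Nat.coprime_ordCompl hp.out (orderOf_pos x).ne').symm
  obtain ⟨k, hk⟩ := IsPGroup.iff_card.mp h
  exact ⟨k, by rw [Subgroup.index_eq_card, hk]⟩

theorem pResidual_hom [Finite G] {p : ℕ} [hp : Fact p.Prime] (l : Cfsg.pResidual p G →* ℂˣ) :
    ¬ p ∣ orderOf l := by
  obtain ⟨m, hm⟩ : ∃ m, m = ordCompl[p] (Nat.card (Cfsg.pResidual p G)) := ⟨_, rfl⟩
  have hcard : Nat.card (Cfsg.pResidual p G) ≠ 0 := Nat.card_pos.ne'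
  have key : ∀ (g : G) (hg : g ∈ Cfsg.pResidual p G), l ⟨g, hg⟩ ^ m = 1 := by
    intro g hg
    refine Subgroup.closure_induction
      (p := fun g (hg : g ∈ Subgroup.closure {g : G | Nat.Coprime (orderOf g) p}) =>
        l ⟨g, hg⟩ ^ m = 1) ?_ ?_ ?_ ?_ hg
    · intro x hx
      have h1 : orderOf (⟨x, Subgroup.subset_closure hx⟩ : Cfsg.pResidual p G) ∣
          Nat.card (Cfsg.pResidual p G) := orderOf_dvd_natCard _
      have h2 : orderOf (⟨x, Subgroup.subset_closure hx⟩ : Cfsg.pResidual p G) = orderOf x :=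
        Subgroup.orderOf_mk x _
      rw [h2, ← Nat.ordProj_mul_ordCompl_eq_self (Nat.card (Cfsg.pResidual p G)) p, ← hm] at h1
      have h3 : orderOf x ∣ m := (Nat.Coprime.pow_right _ hx).dvd_of_dvd_mul_left h1
      rw [← map_pow]
      have h4 : (⟨x, Subgroup.subset_closure hx⟩ : Cfsg.pResidual p G) ^ m = 1 := by
        rw [← orderOf_dvd_iff_pow_eq_one, h2]
        exact h3
      rw [h4, map_one]
    · have : (⟨1, Subgroup.one_mem _⟩ : Cfsg.pResidual p G) = 1 := rfl
      rw [this, map_one, one_pow]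
    · intro x y hx hy h1 h2
      have : (⟨x * y, Subgroup.mul_mem _ hx hy⟩ : Cfsg.pResidual p G) = ⟨x, hx⟩ * ⟨y, hy⟩ := rfl
      rw [this, map_mul, mul_pow, h1, h2, one_mul]
    · intro x hx h1
      have : (⟨x⁻¹, Subgroup.inv_mem _ hx⟩ : Cfsg.pResidual p G) = ⟨x, hx⟩⁻¹ := rfl
      rw [this, map_inv, inv_pow, h1, inv_one]
  have h1 : orderOf l ∣ m := by
    apply orderOf_dvd_of_pow_eq_one
    refine MonoidHom.ext fun n => ?_
    rw [MonoidHom.pow_apply]
    exact key n.1 n.2
  intro h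
  exact Nat.not_dvd_ordCompl hp.out hcard (hm ▸ h.trans h1)

theorem finite_hom [Finite G] : Finite (G →* ℂˣ) := by
  haveI := Fintype.ofFinite G
  refine Finite.of_injective
    (fun l : G →* ℂˣ => (⟨_, isIrrCharacter_of_hom l⟩ : IrrCharacter G)) ?_
  intro a b hab
  refine MonoidHom.ext fun g => Units.ext ?_
  exact congrFun (congrArg Subtype.val hab) g

theorem not_dvd_card_hom [Finite G] {p : ℕ} [hp : Fact p.Prime] :
    ¬ p ∣ Nat.card {l : G →* ℂˣ // ¬ p ∣ orderOf l} := by
  haveI := finite_hom (G := G)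
  let T : Subgroup (G →* ℂˣ) :=
    { carrier := {l | ¬ p ∣ orderOf l}
      one_mem' := by
        change ¬ p ∣ orderOf (1 : G →* ℂˣ)
        rw [orderOf_one]
        exact hp.out.one_lt.ne' ∘ Nat.dvd_one.mp
      mul_mem' := by
        intro a b ha hb hab
        have h1 := hab.trans ((Commute.all a b).orderOf_mul_dvd_lcm)
        have h2 := h1.trans (Nat.lcm_dvd_mul _ _)
        rcases (Nat.Prime.dvd_mul hp.out).mp h2 with h | h
        · exact ha h
        · exact hb h
      inv_mem' := by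
        intro a ha
        rw [Set.mem_setOf_eq, orderOf_inv]
        exact ha }
  intro h
  have h' : p ∣ Nat.card T := h
  obtain ⟨x, hx⟩ := exists_prime_orderOf_dvd_card' p h'
  have h2 : ¬ p ∣ orderOf (x : G →* ℂˣ) := x.2
  rw [Subgroup.orderOf_coe, hx] at h2
  exact h2 dvd_rfl

theorem detChar_of_hom [Finite G] (l : G →* ℂˣ) :
    detChar (fun g => ((l g : ℂˣ) : ℂ)) = fun g => ((l g : ℂˣ) : ℂ) := by
  have h1 : (fun g => ((l g : ℂˣ) : ℂ)) =
      (twist l (1 : Representation ℂ G (Fin 1 → ℂ))).character := by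
    funext g
    rw [char_twist]
    simp [Representation.character]
  rw [h1, detChar_eq]
  funext g
  rw [char_twist, ← detHom_coe, detHom_twist]
  simp [Representation.character, detHom_coe]

end Cfsg.Agent.Lib.Helper7.OpRes1
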